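import Cfsg.Agent.H710.R4.Sph_m3
import Cfsg.Agent.Nodes.RGDChev
import Cfsg.Agent.H934.HeisE6_m3
import Cfsg.Agent.ChevFast.E6
import Cfsg.Agent.ChevFast.E7
import Cfsg.Agent.ChevFast.E8
import Cfsg.Agent.ChevFast.F4
import Cfsg.Agent.ChevFast.Lin
import Cfsg.Agent.H766.PQ.A01_m3
import Cfsg.Agent.H394.PBTools_m3
import Cfsg.Agent.H786.KW.Count_m3
import Cfsg.Agent.H35.ExcIdxTw_m3
import Cfsg.Agent.H582.Sph.Base
import Cfsg.Agent.Blocks.Orthogonality
import Cfsg.Agent.Characters.GaloisBasic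
import Cfsg.Agent.H996.Eight.TabTwEa_mg_m3
import Cfsg.Agent.H996.Eight.TabE8a
import Cfsg.Agent.H996.Eight.KqT
import Cfsg.Agent.H996.Eight.KqE
import Cfsg.Agent.FastGrp
import Cfsg.Agent.Prune
set_option linter.all false

section
prune_inst 0x7fdceff8ebacbbffdfff7e3fffd9ddf991800fffe4dff9437fe0eb9f9bbf03840bc5fba709e090fe1ed6e21410a87843fb7eefffe86bdc7ffffd5ff41ffbee4ff5f7350911d48c340f300ffe03f167886f3ffffffffffffffffffff7ffffffbeffbff3feffff

-- part: H996/PQ/Hi
section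
set_option linter.all false

-- part: H996/PQ/Defs
section
/-!
# Exceptional groups, S4612: the tests for the principal blocks, the interface (helper996)

`Pol m`: a parabolic subgroup `P = P_j` with `m` double cosets, all constituents `χ i` of `1_P^G` (`i = 0` the trivial
one): `N = |G : P|`, `χ i (1) = dn i / den i`, `D i = N_long (1 - χ i (u) / χ i (1))`, `u` a long root element, `N_long`
the number of long root subgroups, spherical functions `nu i c / nu i o`; polynomials in `x` (lists of coefficients).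
`Tst P x p S`: the tests for `S = {i | χ i ∈ B0 p G}`.
-/

set_option autoImplicit false

namespace Cfsg.Agent.H996.PQ

open Cfsg.Agent.H64.Dl.Sph Cfsg.Agent.H996.Eight.Cert

/-- the polynomials of a parabolic subgroup -/
structure Pol (m : ℕ) where
  N : List ℤ
  dn : Fin m → List ℤ
  den : Fin m → ℕ
  D : Fin m → List ℤ
  o : Fin m
  nu : Fin m → Fin m → List ℤ

/-- the degree of `χ i` -/
def Pol.deg {m : ℕ} (P : Pol m) (x : ℕ) (i : Fin m) : ℕ := val (P.den i) (P.dn i) x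

/-- the value of the spherical function `i` at the class `c` -/
def Pol.sph {m : ℕ} (P : Pol m) (x : ℕ) (i c : Fin m) : ℚ := ev x (P.nu i c) / ev x (P.nu i P.o)

/-- **The tests** for `S = {i | χ i ∈ B0 p G}`; `cls`: class test (long root elements); `tr`, `tr'`: trace test;
`co`: coset test. -/
structure Tst {m : ℕ} (P : Pol m) (x p : ℕ) (S : Finset (Fin m)) : Prop where
  cls : ∀ i ∈ S, (p : ℤ) ∣ ((x : ℤ) - 1) * evZ x (P.D i)
  tr : ∀ k : ℕ, (p : ℤ) ^ k ∣ evZ x P.N → (p : ℤ) ^ k ∣ ∑ i ∈ S, (P.deg x i : ℤ)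
  tr' : ¬ (p : ℤ) ∣ evZ x P.N → ¬ (p : ℤ) ∣ ∑ i ∈ S, (P.deg x i : ℤ)
  co : ∀ c, ∃ u v : ℤ, ¬ (p : ℤ) ∣ v ∧ (v : ℚ) * ∑ i ∈ S, (P.deg x i : ℚ) * P.sph x i c = u * ev x P.N

/-- the same set for both primes -/
def Sep {m : ℕ} (P : Pol m) (x p l : ℕ) (i₀ : Fin m) : Prop :=
  ∃ S : Finset (Fin m), i₀ ∈ S ∧ Tst P x p S ∧ Tst P x l S

end Cfsg.Agent.H996.PQ
end

-- part: H996/PQ/Hi
section
/-!
# Highest roots (helper996, for S4612): definitions
-/

set_option autoImplicit false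

namespace Cfsg.Agent.H996.PQ

open CoxeterSystem Cfsg.Agent.ChevalleyStructure.CoxeterGeom Cfsg.Agent.Tits.Roots

/-- `α₀` is the highest (long) root, `j₀` the only node not orthogonal to it; `D` the lengths of the simple roots. -/
structure Hi {I : Type*} [Fintype I] [DecidableEq I] (A : I → I → ℤ) (j₀ : I) (α₀ D : I → ℤ) : Prop where
  sym : ∀ i k, D i * A i k = D k * A k i
  pos : ∀ i, 0 < D i
  nonneg : ∀ i, 0 ≤ α₀ i
  orth : ∀ i, i ≠ j₀ → ∑ k, A i k * α₀ k = 0
  top : 0 < ∑ k, A j₀ k * α₀ k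

/-- `X α₀` is centralised by the positive root groups -/
def Cen {I W Y : Type*} [Fintype I] [DecidableEq I] [Group W] [Group Y] {M : CoxeterMatrix I} (cs : CoxeterSystem M W)
    {A : I → I → ℤ} (h : IsCartan M A) (X : (I → ℤ) → Subgroup Y) (α₀ : I → ℤ) : Prop :=
  ∀ x, IsRoot cs h x → 0 ≤ x → ∀ a ∈ X x, ∀ b ∈ X α₀, a * b = b * a

end Cfsg.Agent.H996.PQ
end
end

-- part: H89/PQX/Long
section
set_option linter.all false
open scoped Cfsg.Agent.FastGrp

/-!
# Long root subgroups in a root group datum (helper89, for S4612, task X1 of helper996)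

* `mem_WJ_of_fix_hi` : the stabiliser of the highest root `α₀` is `W_J`, `J = {i | i ≠ j₀}`;
* `B_le_normalizer_hi`, `PJ_le_normalizer_hi` : `P_{j₀}` normalises `X α₀`;
* `mem_PJ_of_conj_mem` : the conjugates of `X α₀` intersect trivially;
* `card_long` : the number of long root elements.
-/

set_option autoImplicit false
set_option linter.unusedSectionVars false

namespace Cfsg.Agent.H89.PQX

open Cfsg Cfsg.Agent.H967.Sph Cfsg.Agent.H996.PQ
open CoxeterSystem Cfsg.Agent.ChevalleyStructure.CoxeterGeom Cfsg.Agent.Tits.Roots Cfsg.Agent.Tits.Core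
  Cfsg.Agent.Tits.Exchange Cfsg.Agent.Nodes.Reps Cfsg.Agent.Nodes.BNOf Cfsg.Agent.Nodes.Bruhat
  Cfsg.Agent.Nodes.OppDec Cfsg.Agent.Nodes.LeviDec

universe u v

variable {I W : Type*} {Y : Type u} [Fintype I] [DecidableEq I] [Group W] [Finite W] [Group Y]
    {M : CoxeterMatrix I} {cs : CoxeterSystem M W} {A : I → I → ℤ} {h : IsCartan M A} {p : ℕ} {T : Subgroup Y}
    {n : I → Y} {X : (I → ℤ) → Subgroup Y} (R : RGD cs h p T n X)
    {j₀ : I} {α₀ D : I → ℤ}

/-- the invariant form -/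
def frm (A : I → I → ℤ) (D x y : I → ℤ) : ℤ := ∑ i, x i * D i * pairing A i y

theorem frm_symm (hs : ∀ i k, D i * A i k = D k * A k i) (x y : I → ℤ) : frm A D x y = frm A D y x := by
  unfold frm pairing
  simp_rw [Finset.mul_sum]
  rw [Finset.sum_comm]
  refine Finset.sum_congr rfl fun k _ => Finset.sum_congr rfl fun i _ => ?_
  have := hs i k
  calc x i * D i * (A i k * y k) = x i * (D i * A i k) * y k := by ring
    _ = y k * D k * (A k i * x i) := by rw [this]; ring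

theorem frm_sub_smul (x y : I → ℤ) (c : ℤ) (i : I) :
    frm A D (x - c • sr i) y = frm A D x y - c * (D i * pairing A i y) := by
  unfold frm
  have h1 : ∀ k, (x - c • sr i) k * D k * pairing A k y =
      x k * D k * pairing A k y - (if k = i then c * (D i * pairing A i y) else 0) := by
    intro k
    rw [Pi.sub_apply, Pi.smul_apply, smul_eq_mul]
    by_cases hk : k = i
    · subst hk
      rw [sr_self, if_pos rfl]; ring
    · rw [sr_ne hk, if_neg hk]; ring
  rw [Finset.sum_congr rfl fun k _ => h1 k, Finset.sum_sub_distrib, Finset.sum_ite_eq' Finset.univ i,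
    if_pos (Finset.mem_univ i)]

omit [Finite W] in
theorem frm_simple (hs : ∀ i k, D i * A i k = D k * A k i) (i : I) (x y : I → ℤ) :
    frm A D (rep cs h (cs.simple i) x) (rep cs h (cs.simple i) y) = frm A D x y := by
  have h1 : ∀ x y : I → ℤ, frm A D (rep cs h (cs.simple i) x) y = frm A D x y - pairing A i x * (D i * pairing A i y) := by
    intro x y
    rw [rep_simple_eq, frm_sub_smul]
  have h2 : pairing A i (rep cs h (cs.simple i) y) = - pairing A i y := by
    rw [rep_simple_eq]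
    have h3 : pairing A i (y - pairing A i y • sr i) = pairing A i y - pairing A i y * A i i := by
      have h4 : y - pairing A i y • sr i = y + (-(pairing A i y)) • sr i := by rw [neg_smul, sub_eq_add_neg]
      have h5 : (-(pairing A i y)) • (sr i : I → ℤ) = Pi.single i (-(pairing A i y)) := by
        rw [sr, ← Pi.single_smul, smul_eq_mul, mul_one]
      rw [h4, pairing_add, h5, pairing_single]
      ring
    rw [h3, h.diag]; ring
  rw [h1, h2, frm_symm hs x, h1, frm_symm hs y]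
  ring

omit [Finite W] in
theorem frm_rep (hs : ∀ i k, D i * A i k = D k * A k i) (w : W) (x y : I → ℤ) :
    frm A D (rep cs h w x) (rep cs h w y) = frm A D x y := by
  obtain ⟨ω, rfl⟩ := cs.wordProd_surjective w
  induction ω with
  | nil => rw [wordProd_nil, map_one, Module.End.one_apply, Module.End.one_apply]
  | cons i ω ih => rw [wordProd_cons, rep_mul_apply, rep_mul_apply, frm_simple hs, ih]

theorem frm_hi (hi : Hi A j₀ α₀ D) (x : I → ℤ) : frm A D x α₀ = x j₀ * (D j₀ * ∑ k, A j₀ k * α₀ k) := by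
  unfold frm pairing
  rw [Finset.sum_eq_single j₀]
  · ring
  · intro i _ hij
    rw [hi.orth i hij, mul_zero]
  · intro h1
    exact absurd (Finset.mem_univ _) h1

omit [Finite W] in
/-- the form `F(x,y) = ∑ x_i D_i A_ik y_k` is invariant; hence the stabiliser of `α₀` is `W_J`, `J = {i | i ≠ j₀}` -/
theorem mem_WJ_of_fix_hi (hi : Hi A j₀ α₀ D) {w : W} (hw : rep cs h w α₀ = α₀) : w ∈ WJ cs {i | i ≠ j₀} := by
  apply mem_WJ_of_fix cs h
  intro x
  have h1 := frm_rep (cs := cs) (h := h) hi.sym w x α₀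
  rw [hw, frm_hi hi, frm_hi hi] at h1
  have h2 : D j₀ * ∑ k, A j₀ k * α₀ k ≠ 0 := (mul_pos (hi.pos j₀) hi.top).ne'
  exact mul_right_cancel₀ h2 h1

omit [Finite W] in
/-- the elements of `W_J` fix `α₀` -/
theorem rep_hi_of_mem_WJ (hi : Hi A j₀ α₀ D) {w : W} (hw : w ∈ WJ cs {i | i ≠ j₀}) : rep cs h w α₀ = α₀ := by
  obtain ⟨ω, hω, rfl⟩ := exists_word_of_mem_WJ cs hw
  clear hw
  induction ω with
  | nil => rw [wordProd_nil, map_one, Module.End.one_apply]
  | cons i ω ih =>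
    rw [wordProd_cons, rep_mul_apply, ih fun l hl => hω l (by simp [hl]), rep_simple_eq]
    have h1 : pairing A i α₀ = 0 := hi.orth i (hω i (by simp))
    rw [h1, zero_smul, sub_zero]

include R in
/-- the Borel subgroup normalises `X α₀` -/
theorem B_le_normalizer_hi (hc : Cen cs h X α₀) (hr : IsRoot cs h α₀) :
    RGD.B cs h T X ≤ Subgroup.normalizer (X α₀ : Set Y) := by
  refine sup_le (fun t ht => mem_normalizer_iff_cj.2 (R.tor α₀ hr t ht)) (RGD.Sup_le fun x hx a ha => ?_)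
  rw [Subgroup.mem_normalizer_iff]
  have hcomm : ∀ b ∈ X α₀, a * b = b * a := fun b hb => hc x hx.1 hx.2 a ha b hb
  intro b
  constructor
  · intro hb
    have h1 : a * b * a⁻¹ = b := by rw [hcomm b hb, mul_inv_cancel_right]
    show a * b * a⁻¹ ∈ X α₀
    rw [h1]; exact hb
  · intro hb
    have h1 : a * (a * b * a⁻¹) = (a * b * a⁻¹) * a := hcomm _ hb
    have h2 : b = a * b * a⁻¹ := by
      have h3 : a * b * a⁻¹ = a⁻¹ * (a * (a * b * a⁻¹)) := by group
      rw [h3, h1]; group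
    show b ∈ X α₀
    rw [h2]; exact hb

include R in
/-- `P_{j₀}` normalises `X α₀` -/
theorem PJ_le_normalizer_hi (hi : Hi A j₀ α₀ D) (hc : Cen cs h X α₀) (hr : IsRoot cs h α₀) :
    PJ cs h T X {i | i ≠ j₀} ≤ Subgroup.normalizer (X α₀ : Set Y) := by
  intro g hg
  obtain ⟨w, hw, b₁, hb₁, k, hk, b₂, hb₂, rfl⟩ := (mem_PJ_iff_cell R).1 hg
  have hB := B_le_normalizer_hi R hc hr
  refine mul_mem (mul_mem (hB hb₁) ?_) (hB hb₂)
  rw [mem_normalizer_iff_cj, R.conj_rp hk hr, rep_hi_of_mem_WJ hi hw]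

include R in
/-- the conjugates of `X α₀` by elements outside `P_{j₀}` meet `X α₀` trivially -/
theorem mem_PJ_of_conj_mem (hG : GG cs h T X = ⊤) (hi : Hi A j₀ α₀ D) (hc : Cen cs h X α₀) (hr : IsRoot cs h α₀)
    {g u : Y} (hu : u ∈ X α₀) (hu1 : u ≠ 1) (hg : g * u * g⁻¹ ∈ X α₀) : g ∈ PJ cs h T X {i | i ≠ j₀} := by
  have hB := B_le_normalizer_hi R hc hr
  obtain ⟨b₁, hb₁, k, hk, b₂, hb₂, e⟩ := cell_wOf R hG g
  set w := wOf R hG g with hwd
  have h1 : b₂ * u * b₂⁻¹ ∈ X α₀ := (Subgroup.mem_normalizer_iff.1 (hB hb₂) u).1 hu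
  have h2 : k * (b₂ * u * b₂⁻¹) * k⁻¹ ∈ X (rep cs h w α₀) := R.conj_mem hk hr h1
  have h3 : k * (b₂ * u * b₂⁻¹) * k⁻¹ ∈ X α₀ := by
    refine (Subgroup.mem_normalizer_iff.1 (hB hb₁) _).2 ?_
    have h4 : b₁ * (k * (b₂ * u * b₂⁻¹) * k⁻¹) * b₁⁻¹ = g * u * g⁻¹ := by rw [e]; group
    show b₁ * (k * (b₂ * u * b₂⁻¹) * k⁻¹) * b₁⁻¹ ∈ X α₀
    rw [h4]; exact hg
  have h5 : k * (b₂ * u * b₂⁻¹) * k⁻¹ ≠ 1 := by
    intro h6
    apply hu1
    have h7 : u = b₂⁻¹ * (k⁻¹ * (k * (b₂ * u * b₂⁻¹) * k⁻¹) * k) * b₂ := by group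
    rw [h7, h6]; group
  have h6 : rep cs h w α₀ = α₀ := by
    by_contra hne
    have h7 := X_inf_X R (hr.act w) hr hne
    rw [Subgroup.eq_bot_iff_forall] at h7
    exact h5 (h7 _ ⟨h2, h3⟩)
  rw [mem_PJ_iff_cell R]
  exact ⟨w, mem_WJ_of_fix_hi hi h6, cell_wOf R hG g⟩

include R in
/-- the long root subgroups intersect trivially and their number is `|Y : P_{j₀}|` -/
theorem card_long [Finite Y] (hG : GG cs h T X = ⊤) (hi : Hi A j₀ α₀ D) (hc : Cen cs h X α₀) (hr : IsRoot cs h α₀) :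
    Nat.card {g : Y | ∃ y : Y, ∃ u ∈ X α₀, u ≠ 1 ∧ g = y * u * y⁻¹} + Nat.card (Y ⧸ PJ cs h T X {i | i ≠ j₀}) =
      Nat.card (X α₀) * Nat.card (Y ⧸ PJ cs h T X {i | i ≠ j₀}) := by
  set P := PJ cs h T X {i | i ≠ j₀} with hP
  have hn := PJ_le_normalizer_hi R hi hc hr
  set L := {g : Y | ∃ y : Y, ∃ u ∈ X α₀, u ≠ 1 ∧ g = y * u * y⁻¹} with hL
  let f : (Y ⧸ P) × {u : X α₀ // u ≠ 1} → L := fun c =>
    ⟨c.1.out * (c.2.1 : Y) * (c.1.out)⁻¹, c.1.out, c.2.1, c.2.1.2, fun h1 => c.2.2 (Subtype.ext h1), rfl⟩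
  have hf : Function.Bijective f := by
    constructor
    · rintro ⟨c, u, hu⟩ ⟨c', u', hu'⟩ he
      have h1 : c.out * (u : Y) * (c.out)⁻¹ = c'.out * (u' : Y) * (c'.out)⁻¹ := congrArg Subtype.val he
      have h2 : (c'.out⁻¹ * c.out) * (u : Y) * (c'.out⁻¹ * c.out)⁻¹ = u' := by
        have h3 : (c'.out⁻¹ * c.out) * (u : Y) * (c'.out⁻¹ * c.out)⁻¹ =
            c'.out⁻¹ * (c.out * (u : Y) * (c.out)⁻¹) * c'.out := by group
        rw [h3, h1]; group
      have h4 : c'.out⁻¹ * c.out ∈ P := mem_PJ_of_conj_mem R hG hi hc hr u.2 (fun h5 => hu (Subtype.ext h5))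
        (by rw [h2]; exact u'.2)
      have h5 : c' = c := by
        rw [← QuotientGroup.out_eq' c', ← QuotientGroup.out_eq' c]
        exact QuotientGroup.eq.2 h4
      subst h5
      have h6 : (u : Y) = u' := by
        rw [← h2]; group
      have h7 : u = u' := Subtype.ext h6
      subst h7
      rfl
    · rintro ⟨_, y, u, hu, hu1, rfl⟩
      set c : Y ⧸ P := (y : Y ⧸ P) with hc'
      have h1 : c.out⁻¹ * y ∈ P := QuotientGroup.eq.1 (by rw [QuotientGroup.out_eq'])
      have h2 : (c.out⁻¹ * y) * u * (c.out⁻¹ * y)⁻¹ ∈ X α₀ := (Subgroup.mem_normalizer_iff.1 (hn h1) u).1 hu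
      have h3 : (⟨_, h2⟩ : X α₀) ≠ 1 := by
        intro h4
        apply hu1
        have h5 : (c.out⁻¹ * y) * u * (c.out⁻¹ * y)⁻¹ = 1 := congrArg Subtype.val h4
        exact conj_eq_one_iff.1 h5
      refine ⟨(c, ⟨⟨_, h2⟩, h3⟩), Subtype.ext ?_⟩
      show c.out * ((c.out⁻¹ * y) * u * (c.out⁻¹ * y)⁻¹) * (c.out)⁻¹ = y * u * y⁻¹
      group
  have h1 : Nat.card L = Nat.card (Y ⧸ P) * Nat.card {u : X α₀ // u ≠ 1} := by
    rw [← Nat.card_prod]
    exact (Nat.card_congr (Equiv.ofBijective f hf)).symm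
  have h2 : Nat.card {u : X α₀ // u ≠ 1} + 1 = Nat.card (X α₀) := by
    have := Fintype.ofFinite (X α₀)
    classical
    rw [Nat.card_eq_fintype_card, Nat.card_eq_fintype_card, Fintype.card_subtype_compl, Fintype.card_subtype_eq]
    have : 0 < Fintype.card (X α₀) := Fintype.card_pos
    omega
  rw [h1, ← h2]
  ring

end Cfsg.Agent.H89.PQX
end

-- part: H241/PQ/CenSplit
section
set_option linter.all false
open scoped Cfsg.Agent.FastGrp

/-!
# The highest root group is central in `U`, split groups (helper241, task X4 of S4612)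

* `cen_split`; `hi_G2`, `hi_F4`, `hi_E6`, `hi_E7`, `hi_E8`.
-/

set_option autoImplicit false

namespace Cfsg.Agent.H241.PQ

open Cfsg Cfsg.Lie Cfsg.Agent.H996.PQ
open CoxeterSystem Cfsg.Agent.ChevalleyStructure.CoxeterGeom Cfsg.Agent.Tits.Roots
open Cfsg.Agent.ChevalleyStructure Cfsg.Agent.ChevalleyStructure.CoxeterGeomTypes Cfsg.Agent.Nodes.RGDChev
open Cfsg.Agent.ChevalleyStructure.Elts

universe u

/-- the root group of a positive root with `commTerms r s = []` for all other positive roots `r` is central in `U` -/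
theorem cen_split {D : ChevalleyDatum} {l : ℕ} {M : CoxeterMatrix (Fin l)} (hp : IsType D l M) (K : Type u) [Field K]
    {W : Type*} [Group W] (cs : CoxeterSystem M W) {s : ℕ} (hs : s < D.nroots)
    (hD : ∀ r < D.nroots, r ≠ s → (∀ i, 0 ≤ vec D l r i) → D.commTerms r s = [])
    (h0 : ∀ i, 0 ≤ vec D l s i) :
    Cen cs hp.isCartan (fun x => (XV D l K x).subgroupOf (D.group K)) (vec D l s) := by
  intro x hx hx0 a ha b hb
  obtain ⟨r, hr, rfl⟩ := (isRoot_iff hp cs x).1 hx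
  have ha' : (a : GL D.Idx K) ∈ XV D l K (vec D l r) := Subgroup.mem_subgroupOf.1 ha
  have hb' : (b : GL D.Idx K) ∈ XV D l K (vec D l s) := Subgroup.mem_subgroupOf.1 hb
  rw [XV_vec hp K hr] at ha'
  rw [XV_vec hp K hs] at hb'
  obtain ⟨t, ht⟩ := (mem_rootSubgroup_iff hp.inList r _).1 ha'
  obtain ⟨u, hu⟩ := (mem_rootSubgroup_iff hp.inList s _).1 hb'
  have ea : a = H934.HeisChev.xe hp.inList r t := Subtype.ext ht
  have eb : b = H934.HeisChev.xe hp.inList s u := Subtype.ext hu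
  by_cases hrs : r = s
  · subst hrs
    rw [ea, eb, ← H934.HeisChev.xe_add, ← H934.HeisChev.xe_add, add_comm]
  · have hneg : s ≠ D.neg r := by
      intro h
      have h1 : vec D l s = - vec D l r := by rw [h, vec_neg hp hr]
      have h2 : vec D l r = 0 := by
        funext i
        have h3 := h0 i
        rw [h1, Pi.neg_apply] at h3
        have h4 := hx0 i
        simp only [Pi.zero_apply] at h4 ⊢
        omega
      have h3 : vec D l s = vec D l r := by rw [h1, h2, neg_zero]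
      exact hrs (vec_inj hp hr hs h3.symm)
    rw [ea, eb]
    exact (H934.HeisChev.comm_nil hp.inList hr hs (Ne.symm hrs) hneg
      (hD r hr hrs fun i => hx0 i) t u).symm

theorem hi_G2 : ∃ (s : ℕ) (D : Fin 2 → ℤ), s < chevG2.nroots ∧
    (∀ r < chevG2.nroots, r ≠ s → (∀ i, 0 ≤ vec chevG2 2 r i) → chevG2.commTerms r s = []) ∧
    vec chevG2 2 s = ![3, 2] ∧ Hi (cartanOf chevG2 2) 1 (vec chevG2 2 s) D :=
  ⟨11, ![1, 3], by decide +kernel, by decide +kernel, by decide +kernel,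
    ⟨by decide +kernel, by decide +kernel, by decide +kernel, by decide +kernel, by decide +kernel⟩⟩

theorem hi_F4 : ∃ (s : ℕ) (D : Fin 4 → ℤ), s < chevF4.nroots ∧
    (∀ r < chevF4.nroots, r ≠ s → (∀ i, 0 ≤ vec chevF4 4 r i) → chevF4.commTerms r s = []) ∧
    vec chevF4 4 s = ![2, 4, 3, 2] ∧ Hi (cartanOf chevF4 4) 3 (vec chevF4 4 s) D :=
  ⟨47, ![1, 1, 2, 2], by decide +kernel, by (rewrite [Cfsg.Agent.ChevFast.F4.commTerms]; decide +kernel), by decide +kernel,
    ⟨by decide +kernel, by decide +kernel, by decide +kernel, by decide +kernel, by decide +kernel⟩⟩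

theorem hi_E6 : ∃ (s : ℕ) (D : Fin 6 → ℤ), s < chevE6.nroots ∧
    (∀ r < chevE6.nroots, r ≠ s → (∀ i, 0 ≤ vec chevE6 6 r i) → chevE6.commTerms r s = []) ∧
    vec chevE6 6 s = ![1, 2, 2, 3, 2, 1] ∧ Hi (cartanOf chevE6 6) 1 (vec chevE6 6 s) D :=
  ⟨71, fun _ => 1, by decide +kernel, by (rewrite [Cfsg.Agent.ChevFast.E6.commTerms]; decide +kernel), by decide +kernel,
    ⟨by (delta Cfsg.Agent.ChevalleyStructure.CoxeterGeomTypes.cartanOf; rewrite [Cfsg.Agent.ChevFast.E6.cartan]; decide +kernel), by decide +kernel, by decide +kernel, by (delta Cfsg.Agent.ChevalleyStructure.CoxeterGeomTypes.cartanOf; rewrite [Cfsg.Agent.ChevFast.E6.cartan]; decide +kernel), by decide +kernel⟩⟩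

theorem hi_E7 : ∃ (s : ℕ) (D : Fin 7 → ℤ), s < chevE7.nroots ∧
    (∀ r < chevE7.nroots, r ≠ s → (∀ i, 0 ≤ vec chevE7 7 r i) → chevE7.commTerms r s = []) ∧
    vec chevE7 7 s = ![2, 2, 3, 4, 3, 2, 1] ∧ Hi (cartanOf chevE7 7) 0 (vec chevE7 7 s) D :=
  ⟨125, fun _ => 1, by decide +kernel, by (rewrite [Cfsg.Agent.ChevFast.E7.commTerms]; open scoped Cfsg.Agent.ChevFast.Lin in decide +kernel), by decide +kernel,
    ⟨by (delta Cfsg.Agent.ChevalleyStructure.CoxeterGeomTypes.cartanOf; rewrite [Cfsg.Agent.ChevFast.E7.cartan]; decide +kernel), by decide +kernel, by decide +kernel, by (delta Cfsg.Agent.ChevalleyStructure.CoxeterGeomTypes.cartanOf; rewrite [Cfsg.Agent.ChevFast.E7.cartan]; decide +kernel), by (delta Cfsg.Agent.ChevalleyStructure.CoxeterGeomTypes.cartanOf; rewrite [Cfsg.Agent.ChevFast.E7.cartan]; decide +kernel)⟩⟩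

theorem hi_E8 : ∃ (s : ℕ) (D : Fin 8 → ℤ), s < chevE8.nroots ∧
    (∀ r < chevE8.nroots, r ≠ s → (∀ i, 0 ≤ vec chevE8 8 r i) → chevE8.commTerms r s = []) ∧
    vec chevE8 8 s = ![2, 3, 4, 6, 5, 4, 3, 2] ∧ Hi (cartanOf chevE8 8) 7 (vec chevE8 8 s) D :=
  ⟨239, fun _ => 1, by decide +kernel, by (rewrite [Cfsg.Agent.ChevFast.E8.commTerms]; open scoped Cfsg.Agent.ChevFast.Lin in decide +kernel), by decide +kernel,
    ⟨by (delta Cfsg.Agent.ChevalleyStructure.CoxeterGeomTypes.cartanOf; rewrite [Cfsg.Agent.ChevFast.E8.cartan]; decide +kernel), by decide +kernel, by decide +kernel, by (delta Cfsg.Agent.ChevalleyStructure.CoxeterGeomTypes.cartanOf; rewrite [Cfsg.Agent.ChevFast.E8.cartan]; decide +kernel), by decide +kernel⟩⟩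

end Cfsg.Agent.H241.PQ
end

-- part: H77/ClassSet
section
set_option linter.all false
open scoped Cfsg.Agent.FastGrp

/-!
# S4612, section X3: the class test for a union of classes; constituents and coset sums (helper77)
-/

set_option autoImplicit false

open Cfsg Cfsg.Agent

namespace Cfsg.Agent.H77.ClassSet

open Cfsg.Agent.H317.PQ Cfsg.Agent.Characters.Core Cfsg.Agent.Blocks.Basic Cfsg.Agent.Blocks.Local

universe u

/-- the class test for a union of classes on which the character is constant -/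
theorem class_test_set {G : Type u} [Group G] [Finite G] {p : ℕ} (hp : p.Prime) {χ : IrrCharacter G} (hχ : χ ∈ B0 p G)
    (L : Set G) (hL : ∀ g ∈ L, ∀ y : G, y * g * y⁻¹ ∈ L) {d c : ℤ} {v : ℚ} (hd : (χ : G → ℂ) 1 = d)
    (hv : ∀ g ∈ L, (χ : G → ℂ) g = (v : ℂ)) (hc : (c : ℚ) * d = (Nat.card L : ℚ) * (d - v)) : (p : ℤ) ∣ c := by
  classical
  have : Fact p.Prime := ⟨hp⟩
  have := Fintype.ofFinite G
  obtain ⟨M, hM⟩ := Blocks.ExistsModular.exists_isPModular hp
  have hMp : M.IsPrime := isPrime_of_isPModular hM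
  rw [B0_eq hp hM] at hχ
  have hd0 : (d : ℂ) ≠ 0 := by
    rw [← hd]
    exact irr_one_ne_zero χ.2
  have hc' : (c : ℂ) * d = (Nat.card L : ℂ) * (d - (v : ℂ)) := by
    have := congrArg (Rat.cast : ℚ → ℂ) hc
    push_cast at this
    exact this
  have h1 : (c : ℂ) = ∑ κ ∈ L.toFinset.image ConjClasses.mk,
      (({g ∈ L.toFinset | ConjClasses.mk g = κ}.card : ℕ) : ℂ) * (1 - (v : ℂ) / d) := by
    rw [← Finset.sum_mul, ← Nat.cast_sum, ← Finset.card_eq_sum_card_image, Set.toFinset_card, ← Nat.card_eq_fintype_card]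
    field_simp
    linear_combination hc'
  have h2 : MemLocalIdeal M (c : ℂ) := by
    rw [h1]
    refine Cfsg.Agent.Blocks.LocalRing.memLocalIdeal_sum hM _ _ fun κ hκ => ?_
    obtain ⟨g, hg, rfl⟩ := Finset.mem_image.1 hκ
    have hg' : g ∈ L := by simpa using hg
    have h3 : ({x ∈ L.toFinset | ConjClasses.mk x = ConjClasses.mk g}.card : ℕ) =
        (Subgroup.centralizer ({g} : Set G)).index := by
      rw [H786.KW.index_eq_card_isConj, Nat.card_eq_fintype_card, Fintype.card_subtype]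
      congr 1
      ext x
      rw [Finset.mem_filter, Finset.mem_filter, Set.mem_toFinset, ConjClasses.mk_eq_mk_iff_isConj]
      constructor
      · rintro ⟨-, h⟩
        exact ⟨Finset.mem_univ _, h.symm⟩
      · rintro ⟨-, h⟩
        obtain ⟨y, hy⟩ := isConj_iff.1 h
        refine ⟨?_, h.symm⟩
        rw [← hy]
        exact hL g hg' y
    have h4 := hχ g
    have h5 : centralChar (fun _ : G => (1 : ℂ)) g - centralChar (χ : G → ℂ) g =
        (({x ∈ L.toFinset | ConjClasses.mk x = ConjClasses.mk g}.card : ℕ) : ℂ) * (1 - (v : ℂ) / d) := by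
      rw [h3]
      unfold centralChar
      rw [hd, hv g hg']
      field_simp
    rw [← h5]
    exact h4
  rcases Int.natAbs_eq c with h3 | h3
  · rw [h3] at h2 ⊢
    rw [Int.cast_natCast, memLocalIdeal_natCast_iff hM] at h2
    exact_mod_cast h2
  · have h4 : MemLocalIdeal M ((c.natAbs : ℕ) : ℂ) := by
      have h5 := memLocalIdeal_neg h2
      rw [h3] at h5
      simpa using h5
    rw [memLocalIdeal_natCast_iff hM] at h4
    rw [h3, dvd_neg]
    exact_mod_cast h4

/-- an irreducible character that has sum zero over `P`: all the sums over the cosets of `P` are zero -/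
theorem sum_coset_of_sum {G : Type u} [Group G] [Finite G] (P : Subgroup G) [Fintype P] {ψ : G → ℂ}
    (hψ : IsCharacter G ψ) (h0 : ∑ h : P, ψ h = 0) (g : G) : ∑ h : P, ψ (g * h) = 0 := by
  classical
  obtain ⟨n, ρ, rfl⟩ := hψ
  have hcard : (Fintype.card P : ℂ) ≠ 0 := by
    exact_mod_cast Fintype.card_ne_zero
  let _ : Invertible (Fintype.card P : ℂ) := invertibleOfNonzero hcard
  set σ : Representation ℂ P (Fin n → ℂ) := ρ.comp P.subtype with hσ
  have hav : σ.averageMap = ⅟(Fintype.card P : ℂ) • ∑ h : P, ρ (h : G) := by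
    unfold Representation.averageMap GroupAlgebra.average
    rw [map_smul, map_sum]
    congr 1
    refine Finset.sum_congr rfl fun h _ => ?_
    simp [hσ]
  have h1 : σ.averageMap = 0 := by
    have h2 := σ.isProj_averageMap.trace
    have h3 : LinearMap.trace ℂ (Fin n → ℂ) σ.averageMap = ⅟(Fintype.card P : ℂ) * ∑ h : P, ρ.character h := by
      rw [hav, map_smul, map_sum, smul_eq_mul]
      rfl
    rw [h3, h0, mul_zero] at h2
    have h4 : Module.finrank ℂ σ.invariants = 0 := by exact_mod_cast h2.symm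
    have h5 : σ.invariants = ⊥ := Submodule.finrank_eq_zero.1 h4
    refine LinearMap.ext fun v => ?_
    have h6 := σ.isProj_averageMap.map_mem v
    rw [h5, Submodule.mem_bot] at h6
    rw [h6, LinearMap.zero_apply]
  have h2 : ∑ h : P, ρ.character (g * h) = LinearMap.trace ℂ (Fin n → ℂ) (ρ g * ((Fintype.card P : ℂ) • σ.averageMap)) := by
    rw [hav, smul_smul, mul_invOf_self, one_smul, Finset.mul_sum, map_sum]
    refine Finset.sum_congr rfl fun h _ => ?_
    rw [← map_mul]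
    rfl
  rw [h2, h1, smul_zero, mul_zero, map_zero]

theorem sum_coset_eq_zero {G : Type u} [Group G] [Finite G] (P : Subgroup G) {r : ℕ} {χ : Fin r → IrrCharacter G}
    (hX : H329.PQ.MF G (G ⧸ P) χ) {ψ : IrrCharacter G} (hψ : ∀ i, ψ ≠ χ i) (g : G) :
    ∑ᶠ h ∈ P, (ψ : G → ℂ) (g * h) = 0 := by
  classical
  have := Fintype.ofFinite G
  have h1 : ∑ h : P, (ψ : G → ℂ) h = 0 := by
    have h2 := H329.PQ.sum_fixed (G := G) (X := G ⧸ P) ((1 : G) : G ⧸ P) (ψ : G → ℂ)
      (fun g h => isIrr_isClassFunction ψ.2 g h)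
    have h3 : ∑ g : G, (ψ : G → ℂ) g * (Nat.card (MulAction.fixedBy (G ⧸ P) g) : ℂ) = 0 := by
      have h4 : ∀ g : G, (Nat.card (MulAction.fixedBy (G ⧸ P) g) : ℂ) =
          (starRingEnd ℂ) (∑ i, (χ i : G → ℂ) g) := by
        intro g
        rw [← hX.sum g, Complex.conj_natCast]
      simp only [h4, map_sum, Finset.mul_sum]
      rw [Finset.sum_comm]
      refine Finset.sum_eq_zero fun i _ => ?_
      have h5 := classInner_irr_ne ψ.2 (χ i).2 (fun h => hψ i (Subtype.ext h))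
      rw [Characters.Core.classInner_def] at h5
      rcases mul_eq_zero.1 h5 with h6 | h6
      · rw [inv_eq_zero] at h6
        exact absurd h6 (by exact_mod_cast Nat.card_pos.ne')
      · exact h6
    rw [h3] at h2
    have h5 : (Nat.card (G ⧸ P) : ℂ) ≠ 0 := by exact_mod_cast Nat.card_pos.ne'
    have h6 := (mul_eq_zero.1 h2.symm).resolve_left h5
    rw [← h6]
    have h7 : MulAction.stabilizer G ((1 : G) : G ⧸ P) = P := MulAction.stabilizer_quotient P
    exact Fintype.sum_equiv (M := ℂ) (Equiv.subtypeEquivRight fun x => by rw [h7]) (fun h : P => (ψ : G → ℂ) h)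
      (fun h : MulAction.stabilizer G ((1 : G) : G ⧸ P) => (ψ : G → ℂ) h) fun x => rfl
  have h2 := sum_coset_of_sum P (isIrr_isCharacter ψ.2) h1 g
  have h3 : (∑ᶠ h ∈ P, (ψ : G → ℂ) (g * h)) = ∑ᶠ h ∈ (P : Set G), (ψ : G → ℂ) (g * h) := rfl
  rw [h3, finsum_mem_eq_finite_toFinset_sum (fun h => (ψ : G → ℂ) (g * h)) (Set.toFinite (P : Set G)), ← h2]
  exact Finset.sum_subtype (p := fun x => x ∈ P) (Set.toFinite (P : Set G)).toFinset
    (fun x => by rw [Set.Finite.mem_toFinset]; rfl) (fun h => (ψ : G → ℂ) (g * h))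

end Cfsg.Agent.H77.ClassSet
end

-- part: H996/PQ/Val
section
set_option linter.all false
open scoped Cfsg.Agent.FastGrp

/-!
# The spherical machine with the values of the characters (helper996, for S4612)

`HasVal R hG t χ d a`: `χ` is the irreducible constituent of `1_P^Y` with the spherical function `a` (on the classes of the
states), of degree `d`. `exists_val`: as `H996.Eight.Av.exists_char_av`.
-/

set_option autoImplicit false
set_option linter.unusedSectionVars false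

namespace Cfsg.Agent.H996.PQ

open Cfsg.Agent.H967.Sph Cfsg.Agent.H996.Eight
open CoxeterSystem Cfsg.Agent.ChevalleyStructure.CoxeterGeom Cfsg.Agent.Tits.Roots Cfsg.Agent.Tits.Core
  Cfsg.Agent.Nodes.Reps Cfsg.Agent.Nodes.BNOf Cfsg.Agent.Nodes.Bruhat Cfsg.Agent.Nodes.LeviDec

universe u

variable {I W : Type*} {Y : Type u} [Fintype I] [DecidableEq I] [Group W] [Finite W] [Group Y] [Finite Y]
    {M : CoxeterMatrix I} {cs : CoxeterSystem M W} {A : I → I → ℤ} {h : IsCartan M A} {p : ℕ} {T : Subgroup Y}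
    {n : I → Y} {X : (I → ℤ) → Subgroup Y} (R : RGD cs h p T n X) (hG : GG cs h T X = ⊤)
    {j : I} {N m : ℕ} (t : Tab A j N m) (q : I → ℕ) (hq : ∀ i, Nat.card (X (sr i)) = q i)

/-- sums over a subgroup -/
theorem finsum_subgroup {G : Type*} [Group G] (P : Subgroup G) [Fintype P] (f : G → ℂ) :
    ∑ᶠ x ∈ P, f x = ∑ x : P, f x :=
  (finsum_set_coe_eq_finsum_mem (s := (P : Set G)) (f := f)).symm.trans (finsum_eq_sum_of_fintype _)

/-- `χ` is the constituent of the permutation character of the spherical function `a` -/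
structure HasVal (χ : Y → ℂ) (d : ℕ) (a : Fin m → ℚ) : Prop where
  irr : Cfsg.IsIrrCharacter Y χ
  one : χ 1 = d
  val : ∀ g, (Nat.card Y : ℂ) * χ g = d * ((∑ᶠ y : Y, a (t.cls (stY R hG t (y⁻¹ * g * y))) : ℚ) : ℂ)
  coset : ∀ g, ∑ᶠ q ∈ PJ cs h T X {i | i ≠ j}, χ (g * q) =
    Nat.card (PJ cs h T X {i | i ≠ j}) * ((a (t.cls (stY R hG t g)) : ℚ) : ℂ)

/-- the trivial character -/
theorem HasVal.trivial : HasVal R hG t (1 : Y → ℂ) 1 (fun _ => 1) where
  irr := Characters.Core.isIrr_one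
  one := by simp
  val g := by
    classical
    have := Fintype.ofFinite Y
    rw [finsum_eq_sum_of_fintype, Finset.sum_const, Finset.card_univ, nsmul_eq_mul, Nat.card_eq_fintype_card]
    simp
  coset g := by
    classical
    have := Fintype.ofFinite (PJ cs h T X {i | i ≠ j})
    rw [finsum_subgroup]
    simp

/-- from a function on the cosets to the group -/
theorem sum_gamma [Fintype Y] [Fintype (Y ⧸ PJ cs h T X {i | i ≠ j})] (e₀ : Y ⧸ PJ cs h T X {i | i ≠ j} → ℚ)
    (heQ : ∀ q ∈ PJ cs h T X {i | i ≠ j}, ∀ x, e₀ (q • x) = e₀ x)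
    (γ : Y ⧸ PJ cs h T X {i | i ≠ j} → Y) (hγ : ∀ x, γ x • ((1 : Y) : Y ⧸ PJ cs h T X {i | i ≠ j}) = x) (g : Y) :
    ∑ y : Y, e₀ ((y⁻¹ * g * y : Y) : Y ⧸ PJ cs h T X {i | i ≠ j}) =
      Nat.card (PJ cs h T X {i | i ≠ j}) * ∑ x, e₀ ((γ x)⁻¹ • g • x) := by
  classical
  have := Fintype.ofFinite (PJ cs h T X {i | i ≠ j})
  have hγ' : ∀ x, (γ x : Y ⧸ PJ cs h T X {i | i ≠ j}) = x := fun x => by
    have h1 := hγ x
    rwa [MulAction.Quotient.smul_coe, smul_eq_mul, mul_one] at h1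
  have h1 : ∀ y : Y, e₀ ((y⁻¹ * g * y : Y) : Y ⧸ PJ cs h T X {i | i ≠ j}) =
      e₀ ((γ (y : Y ⧸ PJ cs h T X {i | i ≠ j}))⁻¹ • g • (y : Y ⧸ PJ cs h T X {i | i ≠ j})) := by
    intro y
    have h2 : (γ (y : Y ⧸ PJ cs h T X {i | i ≠ j}))⁻¹ * y ∈ PJ cs h T X {i | i ≠ j} :=
      QuotientGroup.eq.1 (hγ' _)
    rw [MulAction.Quotient.smul_coe, MulAction.Quotient.smul_coe, smul_eq_mul, smul_eq_mul]
    have h3 : (γ (y : Y ⧸ PJ cs h T X {i | i ≠ j}))⁻¹ * (g * y) =
        ((γ (y : Y ⧸ PJ cs h T X {i | i ≠ j}))⁻¹ * y) * (y⁻¹ * g * y) := by group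
    have h4 : (((γ (y : Y ⧸ PJ cs h T X {i | i ≠ j}))⁻¹ * y * (y⁻¹ * g * y) : Y) : Y ⧸ PJ cs h T X {i | i ≠ j}) =
        ((γ (y : Y ⧸ PJ cs h T X {i | i ≠ j}))⁻¹ * y) • ((y⁻¹ * g * y : Y) : Y ⧸ PJ cs h T X {i | i ≠ j}) := rfl
    rw [h3, h4, heQ _ h2]
  rw [Finset.sum_congr rfl fun y _ => h1 y,
    ← Finset.sum_fiberwise Finset.univ (fun y : Y => (y : Y ⧸ PJ cs h T X {i | i ≠ j})), Finset.mul_sum]
  refine Finset.sum_congr rfl fun x _ => ?_
  have h2 : ∀ y ∈ Finset.univ.filter (fun y : Y => (y : Y ⧸ PJ cs h T X {i | i ≠ j}) = x),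
      e₀ ((γ (y : Y ⧸ PJ cs h T X {i | i ≠ j}))⁻¹ • g • (y : Y ⧸ PJ cs h T X {i | i ≠ j})) =
      e₀ ((γ x)⁻¹ • g • x) := by
    intro y hy
    rw [(Finset.mem_filter.1 hy).2]
  rw [Finset.sum_congr rfl h2, Finset.sum_const, nsmul_eq_mul]
  congr 1
  rw [Nat.cast_inj]
  have h3 : Finset.univ.filter (fun y : Y => (y : Y ⧸ PJ cs h T X {i | i ≠ j}) = x) =
      Finset.univ.image (fun z : PJ cs h T X {i | i ≠ j} => γ x * z) := by
    ext y
    rw [Finset.mem_filter, Finset.mem_image]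
    constructor
    · rintro ⟨-, h4⟩
      have h5 : (γ x)⁻¹ * y ∈ PJ cs h T X {i | i ≠ j} := QuotientGroup.eq.1 ((hγ' x).trans h4.symm)
      exact ⟨⟨_, h5⟩, Finset.mem_univ _, by simp⟩
    · rintro ⟨z, -, rfl⟩
      refine ⟨Finset.mem_univ _, ?_⟩
      conv_rhs => rw [← hγ' x]
      exact (QuotientGroup.eq.2 (by simp)).symm
  rw [h3, Finset.card_image_of_injective _ (fun a b hab => Subtype.ext (mul_left_cancel hab)), Finset.card_univ,
    Nat.card_eq_fintype_card]

include R hG hq in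
/-- **Spherical machine, averaging operator, with values.** -/
theorem exists_val (θ : ℚ) (a : Fin m → ℚ) (ha : a (t.cls t.o) = 1)
    (wt : Fin N → ℕ) (hw : wt t.o = 1) (hws : ∀ i s, 0 < t.vec s i → wt (t.st i s) = q i * wt s)
    (he : ∀ c, ∑ s, (if t.cls s = c then wt s * t.tau q j (fun u => a (t.cls u)) s else 0) =
      θ * (∑ s, if t.cls s = c then (wt s : ℚ) else 0) * a c)
    (hu : ∀ b : Fin m → ℚ, (∀ c, ∑ s, (if t.cls s = c then wt s * t.tau q j (fun u => b (t.cls u)) s else 0) =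
      θ * (∑ s, if t.cls s = c then (wt s : ℚ) else 0) * b c) → ∀ c, b c = b (t.cls t.o) * a c)
    (d : ℕ) (hd : (d : ℚ) * ∑ s, (wt s : ℚ) * a (t.cls s) ^ 2 = ∑ s, (wt s : ℚ)) :
    ∃ χ : Y → ℂ, HasVal R hG t χ d a := by
  classical
  have := Fintype.ofFinite Y
  have := Fintype.ofFinite (Y ⧸ PJ cs h T X {i | i ≠ j})
  have := Fintype.ofFinite (PJ cs h T X {i | i ≠ j})
  have hcP : (Fintype.card (PJ cs h T X {i | i ≠ j}) : ℚ) ≠ 0 := Nat.cast_ne_zero.2 Fintype.card_ne_zero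
  -- the space
  let pull : (Y ⧸ PJ cs h T X {i | i ≠ j} → ℚ) →ₗ[ℚ] (Y → ℚ) :=
    LinearMap.funLeft ℚ ℚ (fun g : Y => (g : Y ⧸ PJ cs h T X {i | i ≠ j}))
  have hpull : ∀ f g, pull f g = f (g : Y ⧸ PJ cs h T X {i | i ≠ j}) := fun _ _ => rfl
  let av : (Y → ℚ) →ₗ[ℚ] (Y → ℚ) :=
    { toFun := fun F g => ∑ p : PJ cs h T X {i | i ≠ j}, F (g * p)
      map_add' := fun F F' => by
        funext g
        exact Finset.sum_add_distrib
      map_smul' := fun c F => by
        funext g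
        rw [RingHom.id_apply, Pi.smul_apply, smul_eq_mul, Finset.mul_sum]
        rfl }
  have hav : ∀ F g, av F g = ∑ p : PJ cs h T X {i | i ≠ j}, F (g * p) := fun _ _ => rfl
  let V : Submodule ℚ (Y ⧸ PJ cs h T X {i | i ≠ j} → ℚ) := LinearMap.ker ((av ∘ₗ opT X n j -
    ((Fintype.card (PJ cs h T X {i | i ≠ j}) : ℚ) * θ) • LinearMap.id) ∘ₗ pull)
  have hV : ∀ f, f ∈ V ↔ ∀ g, ∑ p : PJ cs h T X {i | i ≠ j}, opT X n j (pull f) (g * p) =
      (Fintype.card (PJ cs h T X {i | i ≠ j}) : ℚ) * θ * f (g : Y ⧸ PJ cs h T X {i | i ≠ j}) := by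
    intro f
    rw [LinearMap.mem_ker, LinearMap.comp_apply, LinearMap.sub_apply, sub_eq_zero, funext_iff]
    rfl
  have hK0 : ∀ g : Y, (∑ s, if t.cls s = t.cls (stY R hG t g) then (wt s : ℚ) else 0) ≠ 0 := fun g => by
    have h0 : ∀ s, (wt s : ℚ) = cnt R hG t s / cnt R hG t t.o := fun s => by
      have hc0 : cnt R hG t t.o ≠ 0 := by
        rw [cnt_o]
        exact Nat.cast_ne_zero.2 Nat.card_pos.ne'
      rw [cnt_eq R hG t q hq wt hw hws s, mul_div_assoc, div_self hc0, mul_one]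
    have h1 : 0 < wt (stY R hG t g) := by
      have h2 : cnt R hG t (stY R hG t g) ≠ 0 := by
        have h3 : (0 : ℚ) < cnt R hG t (stY R hG t g) := by
          rw [cnt]
          refine Finset.sum_pos' (fun x _ => ?_) ⟨g, Finset.mem_univ _, by rw [Pi.single_eq_same]; exact one_pos⟩
          by_cases h4 : stY R hG t x = stY R hG t g
          · rw [h4, Pi.single_eq_same]; exact zero_le_one
          · rw [Pi.single_eq_of_ne h4]
        exact h3.ne'
      rcases Nat.eq_zero_or_pos (wt (stY R hG t g)) with h3 | h3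
      · rw [cnt_eq R hG t q hq wt hw hws, h3, Nat.cast_zero, zero_mul] at h2
        exact absurd rfl h2
      · exact h3
    refine ne_of_gt (Finset.sum_pos' (fun x _ => ?_) ⟨stY R hG t g, Finset.mem_univ _, by
      rw [if_pos rfl]; exact_mod_cast h1⟩)
    split_ifs
    · exact Nat.cast_nonneg _
    · exact le_rfl
  -- the eigenvalue condition
  have hcond : ∀ (b : Fin m → ℚ) (f : Y ⧸ PJ cs h T X {i | i ≠ j} → ℚ)
      (hf : ∀ g : Y, f g = b (t.cls (stY R hG t g))) (g : Y),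
      (∑ p : PJ cs h T X {i | i ≠ j}, opT X n j (pull f) (g * p) =
        (Fintype.card (PJ cs h T X {i | i ≠ j}) : ℚ) * θ * f (g : Y ⧸ PJ cs h T X {i | i ≠ j})) ↔
      ∑ s, (if t.cls s = t.cls (stY R hG t g) then wt s * t.tau q j (fun u => b (t.cls u)) s else 0) =
        θ * (∑ s, if t.cls s = t.cls (stY R hG t g) then (wt s : ℚ) else 0) * b (t.cls (stY R hG t g)) := by
    intro b f hf g
    have h1 : pull f = fun g => (fun u => b (t.cls u)) (stY R hG t g) := funext hf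
    have h2 := Av.sum_P R hG t q hq wt hw hws (t.tau q j (fun u => b (t.cls u))) g
    rw [h1, opT_stY R hG t q hq j (fun u => b (t.cls u)), hf g]
    beta_reduce
    constructor
    · intro h3
      rw [h3] at h2
      have h4 : (Fintype.card (PJ cs h T X {i | i ≠ j}) : ℚ) *
          (θ * (∑ s, if t.cls s = t.cls (stY R hG t g) then (wt s : ℚ) else 0) * b (t.cls (stY R hG t g))) =
          (Fintype.card (PJ cs h T X {i | i ≠ j}) : ℚ) *
          ∑ s, (if t.cls s = t.cls (stY R hG t g) then wt s * t.tau q j (fun u => b (t.cls u)) s else 0) := by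
        rw [← h2]
        ring
      exact (mul_left_cancel₀ hcP h4).symm
    · intro h3
      rw [h3] at h2
      refine mul_right_cancel₀ (hK0 g) ?_
      rw [h2]
      ring
  -- the spherical function
  let e₀ : Y ⧸ PJ cs h T X {i | i ≠ j} → ℚ := fun x => Quotient.liftOn' x (fun g => a (t.cls (stY R hG t g))) (by
    intro g g' hgg
    have h1 : g⁻¹ * g' ∈ PJ cs h T X {i | i ≠ j} := QuotientGroup.leftRel_apply.1 hgg
    have h2 := cls_mul_right R hG t h1 g
    rw [mul_inv_cancel_left] at h2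
    rw [h2])
  have he₀ : ∀ g : Y, e₀ g = a (t.cls (stY R hG t g)) := fun _ => rfl
  have hbase : t.cls (stY R hG t 1) = t.cls t.o := by
    rw [(stY_eq_o_iff R hG t).2 (one_mem _)]
  have heQ : ∀ y ∈ PJ cs h T X {i | i ≠ j}, ∀ x, e₀ (y • x) = e₀ x := by
    intro y hy x
    induction x using Quotient.inductionOn' with
    | h g =>
      show e₀ ((y * g : Y) : Y ⧸ PJ cs h T X {i | i ≠ j}) = e₀ (g : Y ⧸ PJ cs h T X {i | i ≠ j})
      rw [he₀, he₀, stY_mul_left R hG t hy]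
  suffices hs : ∃ χ : Y → ℂ, Cfsg.IsIrrCharacter Y χ ∧ χ 1 = d ∧
      (∀ γ : Y ⧸ PJ cs h T X {i | i ≠ j} → Y, (∀ x, γ x • ((1 : Y) : Y ⧸ PJ cs h T X {i | i ≠ j}) = x) → ∀ g,
        (Fintype.card (Y ⧸ PJ cs h T X {i | i ≠ j}) : ℂ) * χ g = d * ((∑ x, e₀ ((γ x)⁻¹ • g • x) : ℚ) : ℂ)) ∧
      ∀ g : Y, ∑ q : PJ cs h T X {i | i ≠ j}, χ (g * q) = Fintype.card (PJ cs h T X {i | i ≠ j}) *
        ((e₀ (g • ((1 : Y) : Y ⧸ PJ cs h T X {i | i ≠ j})) : ℚ) : ℂ) by
    obtain ⟨χ, hχ, hχ1, hval, hcos⟩ := hs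
    refine ⟨χ, hχ, hχ1, fun g => ?_, fun g => ?_⟩
    · have hγ : ∀ x : Y ⧸ PJ cs h T X {i | i ≠ j}, x.out • ((1 : Y) : Y ⧸ PJ cs h T X {i | i ≠ j}) = x := by
        intro x
        rw [MulAction.Quotient.smul_coe, smul_eq_mul, mul_one]
        exact Quotient.out_eq' x
      have h1 := hval _ hγ g
      have h2 := sum_gamma (cs := cs) (h := h) (T := T) (X := X) (j := j) e₀ heQ _ hγ g
      rw [finsum_eq_sum_of_fintype]
      have h3 : ∀ y : Y, a (t.cls (stY R hG t (y⁻¹ * g * y))) =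
          e₀ ((y⁻¹ * g * y : Y) : Y ⧸ PJ cs h T X {i | i ≠ j}) := fun y => rfl
      rw [Finset.sum_congr rfl fun y _ => h3 y, h2]
      have h4 : Nat.card Y = Fintype.card (Y ⧸ PJ cs h T X {i | i ≠ j}) * Nat.card (PJ cs h T X {i | i ≠ j}) := by
        rw [Subgroup.card_eq_card_quotient_mul_card_subgroup (PJ cs h T X {i | i ≠ j}),
          Nat.card_eq_fintype_card (α := Y ⧸ PJ cs h T X {i | i ≠ j})]
      rw [h4]
      push_cast
      push_cast at h1
      rw [mul_right_comm, h1]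
      ring
    · rw [finsum_subgroup, hcos, Nat.card_eq_fintype_card]
      congr 3
      show e₀ ((g * 1 : Y) : Y ⧸ PJ cs h T X {i | i ≠ j}) = _
      rw [mul_one, he₀]
  refine exists_of_spherical_val (X := Y ⧸ PJ cs h T X {i | i ≠ j}) ?_ V ?_
    (PJ cs h T X {i | i ≠ j}) ((1 : Y) : Y ⧸ PJ cs h T X {i | i ≠ j}) ?_ e₀ ?_ heQ ?_ ?_ d ?_
  · intro x y
    exact MulAction.exists_smul_eq Y x y
  · intro y f hf
    rw [hV] at hf ⊢
    intro g
    have h1 : pull (fun x => f (y • x)) = fun g => pull f (y * g) := rfl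
    rw [h1, opT_left]
    have h2 := hf (y * g)
    simp only [mul_assoc] at h2 ⊢
    exact h2
  · intro g
    rw [MulAction.Quotient.smul_coe, smul_eq_mul, mul_one]
    constructor
    · intro h1
      have h2 := QuotientGroup.eq.1 h1
      rw [mul_one] at h2
      simpa using inv_mem h2
    · intro h1
      exact QuotientGroup.eq.2 (by simpa using inv_mem h1)
  · rw [hV]
    intro g
    exact (hcond a e₀ he₀ g).2 (he _)
  · rw [he₀, hbase, ha]
  · intro f hf hinv
    obtain ⟨b, hb⟩ := exists_fun R hG t (pull f)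
      (fun y hy g => hinv y hy (g : Y ⧸ PJ cs h T X {i | i ≠ j}))
      (fun y hy g => by
        rw [hpull, hpull]
        congr 1
        exact QuotientGroup.eq.2 (by simpa using hy))
    have h1 : ∀ c, ∑ s, (if t.cls s = c then wt s * t.tau q j (fun u => b (t.cls u)) s else 0) =
        θ * (∑ s, if t.cls s = c then (wt s : ℚ) else 0) * b c := by
      intro c
      by_cases hc : ∃ s, t.cls s = c
      · obtain ⟨s, hs⟩ := hc
        obtain ⟨w, hw'⟩ := t.exists_sw cs h s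
        obtain ⟨k, hk⟩ := exists_rp cs R.nsys w
        have h2 : stY R hG t k = s := by rw [stY_eq R hG t (cell_of_rp hk), hw']
        have h3 := (hcond b f hb k).1 ((hV f).1 hf k)
        rw [h2, hs] at h3
        exact h3
      · push Not at hc
        rw [Finset.sum_congr rfl fun s _ => if_neg (hc s), Finset.sum_congr rfl fun s _ => if_neg (hc s)]
        simp
    refine ⟨b (t.cls t.o), funext fun x => ?_⟩
    induction x using Quotient.inductionOn' with
    | h g =>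
      show pull f g = b (t.cls t.o) * e₀ (g : Y ⧸ PJ cs h T X {i | i ≠ j})
      rw [hb, he₀, hu b h1]
  · rw [sum_quot R hG t q hq wt hw hws (fun s => a (t.cls s) ^ 2) (fun x => e₀ x ^ 2) (fun g => by rw [he₀]), hd]
    have h1 := sum_quot R hG t q hq wt hw hws (fun _ => 1) (fun _ => 1) (fun _ => rfl)
    rw [Finset.sum_const, Finset.card_univ, nsmul_eq_mul, mul_one] at h1
    rw [h1]
    exact Finset.sum_congr rfl fun s _ => by rw [mul_one]

end Cfsg.Agent.H996.PQ
end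

-- part: H996/PQ/Full
section
prune_inst 0x201002044104000000018000260206602c0000022004300001000060003031c4280410e4100200c101000080100010000000000000000000000000000000000000800040081080008c0001000010200000000000000000000000080000004100000c010000
set_option linter.all false
open scoped Cfsg.Agent.FastGrp

-- part: H896/PQ/RootCls
section
/-!
# The state of a long root element (helper896, X2 of S4612)

`stY_conj_of_nonneg`, `stY_conj_of_neg`: the state of `g u g⁻¹`, `u` in the highest root group, `g` in the cell of `w`.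
-/

set_option autoImplicit false
set_option linter.unusedSectionVars false

namespace Cfsg.Agent.H896.PQ

open Cfsg Cfsg.Agent.H967.Sph Cfsg.Agent.H996.PQ
open CoxeterSystem Cfsg.Agent.ChevalleyStructure.CoxeterGeom Cfsg.Agent.Tits.Roots Cfsg.Agent.Tits.Core
  Cfsg.Agent.Nodes.Reps Cfsg.Agent.Nodes.BNOf Cfsg.Agent.Nodes.Bruhat Cfsg.Agent.Nodes.LeviDec

universe u

variable {I W : Type*} {Y : Type u} [Fintype I] [DecidableEq I] [Group W] [Finite W] [Group Y]
    {M : CoxeterMatrix I} {cs : CoxeterSystem M W} {A : I → I → ℤ} {h : IsCartan M A} {p : ℕ} {T : Subgroup Y}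
    {n : I → Y} {X : (I → ℤ) → Subgroup Y} (R : RGD cs h p T n X)
    {j : I} {N m : ℕ} (t : Tab A j N m) {α₀ : I → ℤ}

include R in
/-- the Borel subgroup normalises `X α₀` -/
theorem B_le_normalizer (hc : Cen cs h X α₀) (hr : IsRoot cs h α₀) :
    RGD.B cs h T X ≤ Subgroup.normalizer (X α₀ : Set Y) := by
  refine sup_le (fun s hs => mem_normalizer_iff_cj.2 (R.tor α₀ hr s hs)) (RGD.Sup_le fun x hx a ha => ?_)
  rw [Subgroup.mem_normalizer_iff]
  have key : ∀ a ∈ X x, ∀ b ∈ X α₀, a * b * a⁻¹ ∈ X α₀ := by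
    intro a ha b hb
    rw [hc x hx.1 hx.2 a ha b hb, mul_inv_cancel_right]
    exact hb
  intro b
  refine ⟨key a ha b, fun hb => ?_⟩
  have h1 := key a⁻¹ (inv_mem ha) _ hb
  have h2 : a⁻¹ * (a * b * a⁻¹) * a⁻¹⁻¹ = b := by group
  rwa [h2] at h1

/-- the state of `g u g⁻¹` is the state of an element of `X (w α₀)`, which is not `1` if `u ≠ 1` -/
theorem exists_stY_conj (hG : GG cs h T X = ⊤) (hc : Cen cs h X α₀) (hr : IsRoot cs h α₀) {u : Y} (hu : u ∈ X α₀)
    {g : Y} {w : W} (hg : Cell R.nsys cs h X w g) :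
    ∃ x ∈ X (rep cs h w α₀), (u ≠ 1 → x ≠ 1) ∧ stY R hG t (g * u * g⁻¹) = stY R hG t x := by
  obtain ⟨b₁, hb₁, k, hk, b₂, hb₂, rfl⟩ := hg
  have h1 : b₂ * u * b₂⁻¹ ∈ X α₀ :=
    (Subgroup.mem_normalizer_iff.1 (B_le_normalizer R hc hr hb₂) u).1 hu
  refine ⟨k * (b₂ * u * b₂⁻¹) * k⁻¹, R.conj_mem hk hr h1, ?_, ?_⟩
  · intro hu1 h2
    apply hu1
    have h3 : u = (k * b₂)⁻¹ * (k * (b₂ * u * b₂⁻¹) * k⁻¹) * (k * b₂) := by group
    rw [h3, h2]
    group
  · have h4 : b₁ * k * b₂ * u * (b₁ * k * b₂)⁻¹ = b₁ * (k * (b₂ * u * b₂⁻¹) * k⁻¹) * b₁⁻¹ := by group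
    rw [h4, stY_mul_right_B R hG t _ (inv_mem hb₁), stY_mul_left R hG t (B_le_PJ hb₁)]

/-- `g u g⁻¹` for `u ∈ X α₀`, `g` in the cell of `w`: in `P_j` (state `o`) if the `j`-th coordinate of `w α₀` is `≥ 0` ... -/
theorem stY_conj_of_nonneg (hG : GG cs h T X = ⊤) (hc : Cen cs h X α₀) (hr : IsRoot cs h α₀) {u : Y} (hu : u ∈ X α₀)
    {g : Y} {w : W} (hg : Cell R.nsys cs h X w g) (h0 : 0 ≤ rep cs h w α₀ j) :
    stY R hG t (g * u * g⁻¹) = t.o := by
  obtain ⟨x, hx, -, e⟩ := exists_stY_conj R t hG hc hr hu hg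
  rw [e, stY_eq_o_iff R hG t]
  have hroot : IsRoot cs h (rep cs h w α₀) := hr.act w
  by_cases hpos : 0 ≤ rep cs h w α₀
  · exact B_le_PJ (RGD.X_le_B hroot hpos hx)
  · have hneg := (hroot.not_nonneg_iff_neg).1 hpos
    have hj : rep cs h w α₀ j = 0 := le_antisymm (neg_nonneg.1 (hneg j)) h0
    refine LJ_le_PJ (X_le_LJ ⟨hroot, fun k hk => ?_⟩ hx)
    have hkj : k = j := by
      by_contra hne
      exact hk hne
    rw [hkj, hj]

/-- ... and in the cell of the reflection `w' s_i w'⁻¹` if `w α₀ = - w' α_i < 0` -/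
theorem stY_conj_of_neg' (hG : GG cs h T X = ⊤) (hc : Cen cs h X α₀) (hr : IsRoot cs h α₀) {u : Y} (hu : u ∈ X α₀)
    (hu1 : u ≠ 1) {g : Y} {w : W} (hg : Cell R.nsys cs h X w g) {w' : W} {i : I}
    (hw : rep cs h w α₀ = - rep cs h w' (sr i)) (h0 : 0 ≤ rep cs h w' (sr i)) :
    stY R hG t (g * u * g⁻¹) = t.sw cs h (w' * cs.simple i * w'⁻¹) := by
  obtain ⟨x, hx, hx1, e⟩ := exists_stY_conj R t hG hc hr hu hg
  rw [e]
  obtain ⟨k, hk⟩ := exists_rp cs R.nsys w'
  have h1 : k⁻¹ * x * k ∈ X (-sr i) := by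
    have := R.conj_mem' hk (hr.act w) hx
    rwa [hw, map_neg, rep_inv_apply] at this
  have h2 : k⁻¹ * x * k ≠ 1 := by
    intro h3
    apply hx1 hu1
    have h4 : x = k * (k⁻¹ * x * k) * k⁻¹ := by group
    rw [h4, h3]
    group
  obtain ⟨a, ha, s, hs, b, hb, e'⟩ := R.rk1 i _ h1 h2
  have hroot : IsRoot cs h (rep cs h w' (sr i)) := (isRoot_sr cs h i).act w'
  have ha' : k * a * k⁻¹ ∈ RGD.B cs h T X := RGD.X_le_B hroot h0 (R.conj_mem hk (isRoot_sr cs h i) ha)
  have hb' : k * b * k⁻¹ ∈ RGD.B cs h T X := RGD.X_le_B hroot h0 (R.conj_mem hk (isRoot_sr cs h i) hb)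
  have hr' : Rp cs R.nsys (w' * cs.simple i * w'⁻¹) (k * s * n i * k⁻¹) :=
    ((hk.mul_mem_right hs).mul (rp_simple cs R.nsys i)).mul hk.inv
  have h5 : x = k * a * k⁻¹ * (k * s * n i * k⁻¹) * (k * b * k⁻¹) := by
    have h6 : x = k * (k⁻¹ * x * k) * k⁻¹ := by group
    rw [h6, e']
    group
  exact stY_eq R hG t ⟨_, ha', _, hr', _, hb', h5⟩

theorem stY_conj_of_neg (hG : GG cs h T X = ⊤) (hc : Cen cs h X α₀) (hr : IsRoot cs h α₀) {u : Y} (hu : u ∈ X α₀)
    (hu1 : u ≠ 1) {g : Y} {w : W} (hg : Cell R.nsys cs h X w g) {w' : W} {i : I}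
    (hw : rep cs h w α₀ = - rep cs h w' (sr i)) (h0 : 0 ≤ rep cs h w' (sr i)) :
    t.cls (stY R hG t (g * u * g⁻¹)) = t.cls (t.sw cs h (w' * cs.simple i * w'⁻¹)) := by
  rw [stY_conj_of_neg' R t hG hc hr hu hu1 hg hw h0]

end Cfsg.Agent.H896.PQ
end

-- part: H996/PQ/Fam
section
/-!
# All constituents of `1_P^G` (helper996, for S4612)

`Fam`: a family of constituents with `∑ d_i a_i(c) = |G : P| [c = o]`. `Fam.mf`: the permutation character is their sum;
`Fam.co`: the coset test.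
-/

set_option autoImplicit false
set_option linter.unusedSectionVars false

namespace Cfsg.Agent.H996.PQ

open Cfsg Cfsg.Agent.H967.Sph Cfsg.Agent.H996.Eight Cfsg.Agent.H317.PQ Cfsg.Agent.Blocks.Basic Cfsg.Agent.Blocks.Local
open CoxeterSystem Cfsg.Agent.ChevalleyStructure.CoxeterGeom Cfsg.Agent.Tits.Roots Cfsg.Agent.Tits.Core
  Cfsg.Agent.Nodes.Reps Cfsg.Agent.Nodes.BNOf Cfsg.Agent.Nodes.Bruhat Cfsg.Agent.Nodes.LeviDec

universe u

/-- rational local integers -/
theorem rat_local {p : ℕ} (hp : p.Prime) {M : Ideal AlgInt} (hM : IsPModular p M) {r : ℚ}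
    (h : MemLocalRing M ((r : ℚ) : ℂ)) : ∃ u v : ℤ, ¬ (p : ℤ) ∣ v ∧ (v : ℚ) * r = u := by
  have : M.IsPrime := isPrime_of_isPModular hM
  refine ⟨r.num, r.den, ?_, ?_⟩
  · intro h1
    have h2 : p ∣ r.den := Int.natCast_dvd_natCast.1 h1
    obtain ⟨d, hd⟩ := h2
    have h3 : ((r.num.natAbs : ℕ) : ℂ) = (p : ℂ) * ((d : ℂ) * ((|r| : ℚ) : ℂ)) := by
      have h4 : |r| * r.den = r.num.natAbs := by
        have h5 : r * r.den = r.num := Rat.mul_den_eq_num r
        have h6 : |r * r.den| = |(r.num : ℚ)| := by rw [h5]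
        rw [abs_mul, Nat.abs_cast] at h6
        rw [h6, Nat.cast_natAbs, Int.cast_abs]
      have h5 : ((|r| * r.den : ℚ) : ℂ) = ((r.num.natAbs : ℚ) : ℂ) := by rw [h4]
      rw [hd] at h5
      push_cast at h5
      rw [← h5]
      ring
    have h4 : MemLocalRing M ((|r| : ℚ) : ℂ) := by
      rcases abs_choice r with h5 | h5
      · rw [h5]; exact h
      · rw [h5, Rat.cast_neg]
        have h6 : -(r : ℂ) = ((-1 : ℤ) : ℂ) * (r : ℂ) := by push_cast; ring
        rw [h6]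
        exact memLocalRing_mul (memLocalRing_intCast _) h
    have h5 : MemLocalIdeal M ((r.num.natAbs : ℕ) : ℂ) := by
      rw [h3]
      exact memLocalIdeal_mul_right (memLocalIdeal_p hM) (memLocalRing_mul (memLocalRing_natCast _) h4)
    have h6 : p ∣ r.num.natAbs := (memLocalIdeal_natCast_iff hM _).1 h5
    have h7 : p ∣ Nat.gcd r.num.natAbs r.den := Nat.dvd_gcd h6 ⟨d, hd⟩
    rw [r.reduced] at h7
    exact hp.one_lt.ne' (Nat.dvd_one.1 h7)
  · rw [mul_comm]
    exact_mod_cast Rat.mul_den_eq_num r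

/-- sums over the group of functions of the coset -/
theorem sum_coe {G : Type*} [Group G] [Fintype G] (P : Subgroup G) [Fintype (G ⧸ P)] (f : G ⧸ P → ℚ) :
    ∑ y : G, f (y : G ⧸ P) = Nat.card P * ∑ x, f x := by
  classical
  have := Fintype.ofFinite P
  rw [← Finset.sum_fiberwise Finset.univ (fun y : G => (y : G ⧸ P)), Finset.mul_sum]
  refine Finset.sum_congr rfl fun x _ => ?_
  have h2 : ∀ y ∈ Finset.univ.filter (fun y : G => (y : G ⧸ P) = x), f (y : G ⧸ P) = f x := by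
    intro y hy
    rw [(Finset.mem_filter.1 hy).2]
  rw [Finset.sum_congr rfl h2, Finset.sum_const, nsmul_eq_mul]
  congr 1
  rw [Nat.cast_inj]
  induction x using Quotient.inductionOn' with
  | h z =>
    have h3 : Finset.univ.filter (fun g : G => (g : G ⧸ P) = Quotient.mk'' z) =
        Finset.univ.image (fun x : P => z * x) := by
      ext g
      rw [Finset.mem_filter, Finset.mem_image]
      constructor
      · rintro ⟨-, h4⟩
        have h5 : z⁻¹ * g ∈ P := QuotientGroup.eq.1 h4.symm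
        exact ⟨⟨_, h5⟩, Finset.mem_univ _, by simp⟩
      · rintro ⟨x, -, rfl⟩
        exact ⟨Finset.mem_univ _, (QuotientGroup.eq.2 (by simp)).symm⟩
    rw [h3, Finset.card_image_of_injective _ (fun a b hab => Subtype.ext (mul_left_cancel hab)), Finset.card_univ,
      Nat.card_eq_fintype_card]

variable {I W : Type*} {Y : Type u} [Fintype I] [DecidableEq I] [Group W] [Finite W] [Group Y] [Finite Y]
    {M : CoxeterMatrix I} {cs : CoxeterSystem M W} {A : I → I → ℤ} {h : IsCartan M A} {p : ℕ} {T : Subgroup Y}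
    {n : I → Y} {X : (I → ℤ) → Subgroup Y} (R : RGD cs h p T n X) (hG : GG cs h T X = ⊤)
    {j : I} {N m : ℕ} (t : Tab A j N m)

/-- only the elements of `P` have the class of the base point -/
theorem cls_eq_o_iff {g : Y} : t.cls (stY R hG t g) = t.cls t.o ↔ g ∈ PJ cs h T X {i | i ≠ j} := by
  constructor
  · intro hg
    classical
    obtain ⟨b, hb⟩ := exists_fun R hG t (fun g => if g ∈ PJ cs h T X {i | i ≠ j} then (1 : ℚ) else 0)
      (fun y hy g => by
        have h1 : y * g ∈ PJ cs h T X {i | i ≠ j} ↔ g ∈ PJ cs h T X {i | i ≠ j} :=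
          Subgroup.mul_mem_cancel_left _ hy
        simp only [h1])
      (fun y hy g => by
        have h1 : g * y ∈ PJ cs h T X {i | i ≠ j} ↔ g ∈ PJ cs h T X {i | i ≠ j} :=
          Subgroup.mul_mem_cancel_right _ hy
        simp only [h1])
    have h1 := hb 1
    have h2 := hb g
    beta_reduce at h1 h2
    rw [if_pos (one_mem _), (stY_eq_o_iff R hG t).2 (one_mem _)] at h1
    rw [hg, ← h1] at h2
    by_contra h3
    rw [if_neg h3] at h2
    exact zero_ne_one h2
  · intro hg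
    rw [(stY_eq_o_iff R hG t).2 hg]

/-- the constituents of `1_P^Y` -/
structure Fam {r : ℕ} (χ : Fin r → Y → ℂ) (d : Fin r → ℕ) (a : Fin r → Fin m → ℚ) : Prop where
  val : ∀ i, HasVal R hG t (χ i) (d i) (a i)
  inj : Function.Injective χ
  sum : ∀ c, ∑ i, (d i : ℚ) * a i c = if c = t.cls t.o then (Nat.card (Y ⧸ PJ cs h T X {i | i ≠ j}) : ℚ) else 0

namespace Fam

variable {R hG t} {r : ℕ} {χ : Fin r → Y → ℂ} {d : Fin r → ℕ} {a : Fin r → Fin m → ℚ} (F : Fam R hG t χ d a)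

include F

/-- the characters as elements of `IrrCharacter` -/
def irr (i : Fin r) : IrrCharacter Y := ⟨χ i, (F.val i).irr⟩

theorem irr_coe (i : Fin r) : (F.irr i : Y → ℂ) = χ i := rfl

theorem charDegree_irr (i : Fin r) : charDegree (F.irr i : Y → ℂ) = d i := by
  have h1 := Blocks.Basic.irr_one_eq_charDegree (F.irr i).2
  rw [F.irr_coe, (F.val i).one] at h1
  exact_mod_cast h1.symm

/-- **the permutation character** -/
theorem mf : H329.PQ.MF Y (Y ⧸ PJ cs h T X {i | i ≠ j}) F.irr where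
  inj i i' hi := by
    exact F.inj (congrArg Subtype.val hi)
  sum g := by
    classical
    have := Fintype.ofFinite Y
    have := Fintype.ofFinite (Y ⧸ PJ cs h T X {i | i ≠ j})
    obtain ⟨P, hP⟩ : ∃ P, P = PJ cs h T X {i | i ≠ j} := ⟨_, rfl⟩
    have hN : (Nat.card Y : ℂ) = Nat.card (Y ⧸ PJ cs h T X {i | i ≠ j}) * Nat.card (PJ cs h T X {i | i ≠ j}) := by
      rw [Subgroup.card_eq_card_quotient_mul_card_subgroup (PJ cs h T X {i | i ≠ j})]
      push_cast
      rfl
    have hY0 : (Nat.card Y : ℂ) ≠ 0 := Nat.cast_ne_zero.2 Nat.card_pos.ne'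
    have hP0 : (Nat.card (PJ cs h T X {i | i ≠ j}) : ℂ) ≠ 0 := Nat.cast_ne_zero.2 Nat.card_pos.ne'
    -- the sum over the group
    have h1 : (Nat.card Y : ℂ) * ∑ i, (F.irr i : Y → ℂ) g =
        ((∑ y : Y, ∑ i, (d i : ℚ) * a i (t.cls (stY R hG t (y⁻¹ * g * y))) : ℚ) : ℂ) := by
      rw [Finset.mul_sum, Finset.sum_comm]
      push_cast
      refine Finset.sum_congr rfl fun i _ => ?_
      rw [F.irr_coe, (F.val i).val g, finsum_eq_sum_of_fintype, ← Finset.mul_sum]
      push_cast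
      rfl
    have h2 : ∀ y : Y, ∑ i, (d i : ℚ) * a i (t.cls (stY R hG t (y⁻¹ * g * y))) =
        if g • (y : Y ⧸ PJ cs h T X {i | i ≠ j}) = (y : Y ⧸ PJ cs h T X {i | i ≠ j})
        then (Nat.card (Y ⧸ PJ cs h T X {i | i ≠ j}) : ℚ) else 0 := by
      intro y
      rw [F.sum]
      have h3 : t.cls (stY R hG t (y⁻¹ * g * y)) = t.cls t.o ↔
          g • (y : Y ⧸ PJ cs h T X {i | i ≠ j}) = (y : Y ⧸ PJ cs h T X {i | i ≠ j}) := by
        rw [cls_eq_o_iff, MulAction.Quotient.smul_coe, smul_eq_mul, eq_comm, QuotientGroup.eq, mul_assoc]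
      simp only [h3]
    rw [Finset.sum_congr rfl fun y _ => h2 y] at h1
    have h3 : ∑ y : Y, (if g • (y : Y ⧸ PJ cs h T X {i | i ≠ j}) = (y : Y ⧸ PJ cs h T X {i | i ≠ j})
        then (Nat.card (Y ⧸ PJ cs h T X {i | i ≠ j}) : ℚ) else 0) =
        Nat.card (PJ cs h T X {i | i ≠ j}) * ∑ x : Y ⧸ PJ cs h T X {i | i ≠ j},
          (if g • x = x then (Nat.card (Y ⧸ PJ cs h T X {i | i ≠ j}) : ℚ) else 0) :=
      sum_coe (PJ cs h T X {i | i ≠ j}) (fun x => if g • x = x then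
        (Nat.card (Y ⧸ PJ cs h T X {i | i ≠ j}) : ℚ) else 0)
    rw [h3, ← Finset.sum_filter, Finset.sum_const, nsmul_eq_mul] at h1
    have h4 : (Finset.univ.filter fun x : Y ⧸ PJ cs h T X {i | i ≠ j} => g • x = x).card =
        Nat.card (MulAction.fixedBy (Y ⧸ PJ cs h T X {i | i ≠ j}) g) := by
      rw [Nat.card_eq_fintype_card, ← Fintype.card_subtype]
      rfl
    rw [h4] at h1
    push_cast at h1
    refine (mul_left_cancel₀ hY0 (h1.trans ?_)).symm
    rw [hN]
    ring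

/-- **the coset test**; `hv`: the other irreducible characters vanish on the cosets -/
theorem co {l : ℕ} (hl : l.Prime) (S : Finset (Fin r)) (hS : ∀ i, i ∈ S ↔ F.irr i ∈ B0 l Y)
    (hv : ∀ ψ : IrrCharacter Y, (∀ i, ψ ≠ F.irr i) → ∀ g : Y, ∑ᶠ z ∈ PJ cs h T X {i | i ≠ j}, (ψ : Y → ℂ) (g * z) = 0)
    (s : Fin N) : ∃ u v : ℤ, ¬ (l : ℤ) ∣ v ∧ (v : ℚ) * ∑ i ∈ S, (d i : ℚ) * a i (t.cls s) =
      u * (Nat.card (Y ⧸ PJ cs h T X {i | i ≠ j}) : ℚ) := by
  classical
  have := Fintype.ofFinite Y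
  obtain ⟨M', hM⟩ := Cfsg.Agent.Blocks.ExistsModular.exists_isPModular hl
  obtain ⟨w, hw'⟩ := t.exists_sw cs h s
  obtain ⟨k, hk⟩ := exists_rp cs R.nsys w
  have h2 : stY R hG t k = s := by rw [stY_eq R hG t (cell_of_rp hk), hw']
  have h3 := H329.PQ.coset_test hl hM (PJ cs h T X {i | i ≠ j}) k
  have hfin : Finite (IrrCharacter Y) := Cfsg.Agent.Characters.Core.finite_irr
  have hN0 : (Nat.card (Y ⧸ PJ cs h T X {i | i ≠ j}) : ℚ) ≠ 0 := Nat.cast_ne_zero.2 Nat.card_pos.ne'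
  have hN0' : (Nat.card (Y ⧸ PJ cs h T X {i | i ≠ j}) : ℂ) ≠ 0 := Nat.cast_ne_zero.2 Nat.card_pos.ne'
  have hP0 : (Nat.card (PJ cs h T X {i | i ≠ j}) : ℂ) ≠ 0 := Nat.cast_ne_zero.2 Nat.card_pos.ne'
  have h4 : (Nat.card Y : ℂ)⁻¹ * ∑ᶠ χ ∈ B0 l Y, (χ : Y → ℂ) 1 * ∑ᶠ z ∈ PJ cs h T X {i | i ≠ j}, (χ : Y → ℂ) (k * z) =
      (((∑ i ∈ S, (d i : ℚ) * a i (t.cls s)) / (Nat.card (Y ⧸ PJ cs h T X {i | i ≠ j}) : ℚ) : ℚ) : ℂ) := by
    have h5 : ∑ᶠ χ ∈ B0 l Y, (χ : Y → ℂ) 1 * ∑ᶠ z ∈ PJ cs h T X {i | i ≠ j}, (χ : Y → ℂ) (k * z) =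
        ∑ i ∈ S, (F.irr i : Y → ℂ) 1 * ∑ᶠ z ∈ PJ cs h T X {i | i ≠ j}, (F.irr i : Y → ℂ) (k * z) := by
      rw [finsum_mem_eq_finite_toFinset_sum _ (Set.toFinite _)]
      have hinj : Set.InjOn F.irr (S : Set (Fin r)) := fun i _ i' _ hi => F.mf.inj hi
      rw [← Finset.sum_image (f := fun χ : IrrCharacter Y =>
        (χ : Y → ℂ) 1 * ∑ᶠ z ∈ PJ cs h T X {i | i ≠ j}, (χ : Y → ℂ) (k * z)) hinj]
      symm
      refine Finset.sum_subset ?_ ?_
      · intro χ' hχ
        obtain ⟨i, hi, rfl⟩ := Finset.mem_image.1 hχ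
        rw [Set.Finite.mem_toFinset]
        exact (hS i).1 hi
      · intro χ' hχ hχ'
        rw [Set.Finite.mem_toFinset] at hχ
        rw [hv χ' (fun i hi => hχ' (Finset.mem_image.2 ⟨i, (hS i).2 (hi ▸ hχ), hi.symm⟩)), mul_zero]
    rw [h5, Rat.cast_div, Rat.cast_sum, Finset.sum_div, Finset.mul_sum]
    refine Finset.sum_congr rfl fun i _ => ?_
    have h6 := (F.val i).coset k
    rw [h2] at h6
    have h7 : (F.irr i : Y → ℂ) 1 = d i := (F.val i).one
    rw [h7]
    show _ * ((d i : ℂ) * ∑ᶠ z ∈ PJ cs h T X {i | i ≠ j}, χ i (k * z)) = _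
    rw [h6]
    have h8 : (Nat.card Y : ℂ) = Nat.card (Y ⧸ PJ cs h T X {i | i ≠ j}) * Nat.card (PJ cs h T X {i | i ≠ j}) := by
      rw [Subgroup.card_eq_card_quotient_mul_card_subgroup (PJ cs h T X {i | i ≠ j})]
      push_cast
      rfl
    rw [h8]
    push_cast
    field_simp
  rw [h4] at h3
  obtain ⟨u, v, hv1, hv2⟩ := rat_local hl hM h3
  refine ⟨u, v, hv1, ?_⟩
  rw [← hv2]
  field_simp

end Fam

end Cfsg.Agent.H996.PQ
end

-- part: H996/PQ/Root
section
/-!
# Values at the long root elements and the class test (helper996, for S4612)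
-/

set_option autoImplicit false
set_option linter.unusedSectionVars false

namespace Cfsg.Agent.H996.PQ

open Cfsg Cfsg.Agent.H967.Sph Cfsg.Agent.H317.PQ Cfsg.Agent.Blocks.Basic
open CoxeterSystem Cfsg.Agent.ChevalleyStructure.CoxeterGeom Cfsg.Agent.Tits.Roots Cfsg.Agent.Tits.Core
  Cfsg.Agent.Nodes.Reps Cfsg.Agent.Nodes.BNOf Cfsg.Agent.Nodes.Bruhat Cfsg.Agent.Nodes.LeviDec
open Cfsg.Agent.H896.PQ (stY_conj_of_nonneg stY_conj_of_neg)
open Cfsg.Agent.H77.ClassSet (class_test_set)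

universe u

/-- the class of the conjugates of a long root element, as a function of the state -/
def rcl {I : Type*} [Fintype I] [DecidableEq I] {A : I → I → ℤ} {j : I} {N m : ℕ} (t : Tab A j N m) (α₀ : I → ℤ)
    (kap : ℕ → Fin m) (s : Fin N) : Fin m :=
  if 0 ≤ ∑ k, α₀ k * t.vec s k then t.cls t.o else kap (-(∑ k, α₀ k * t.vec s k)).toNat

variable {I W : Type*} {Y : Type u} [Fintype I] [DecidableEq I] [Group W] [Finite W] [Group Y]
    {M : CoxeterMatrix I} {cs : CoxeterSystem M W} {A : I → I → ℤ} {h : IsCartan M A} {p : ℕ} {T : Subgroup Y}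
    {n : I → Y} {X : (I → ℤ) → Subgroup Y} (R : RGD cs h p T n X) (hG : GG cs h T X = ⊤)
    {j : I} {N m : ℕ} (t : Tab A j N m) {j₀ : I} {α₀ D : I → ℤ} {kap : ℕ → Fin m}

/-- the condition on the classes of the reflections -/
def RootOk (cs : CoxeterSystem M W) (h : IsCartan M A) (t : Tab A j N m) (α₀ : I → ℤ) (kap : ℕ → Fin m) : Prop :=
  ∀ w : W, rep cs h w α₀ j < 0 → ∃ (w' : W) (i : I), rep cs h w α₀ = - rep cs h w' (sr i) ∧
    0 ≤ rep cs h w' (sr i) ∧ t.cls (t.sw cs h (w' * cs.simple i * w'⁻¹)) = kap (-(rep cs h w α₀ j)).toNat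

theorem rep_apply_eq (w : W) (x : I → ℤ) : rep cs h w x j = ∑ k, x k * lam cs h j w k := by
  conv_lhs => rw [eq_sum_sr x]
  rw [map_sum, Finset.sum_apply]
  refine Finset.sum_congr rfl fun k _ => ?_
  rw [map_smul, Pi.smul_apply, smul_eq_mul]
  rfl

/-- **the class of a conjugate of a long root element** -/
theorem cls_conj (hc : Cen cs h X α₀) (hr : IsRoot cs h α₀) (hk : RootOk cs h t α₀ kap) {u : Y} (hu : u ∈ X α₀)
    (hu1 : u ≠ 1) (g : Y) : t.cls (stY R hG t (g * u * g⁻¹)) = rcl t α₀ kap (stY R hG t g) := by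
  have h1 : ∑ k, α₀ k * t.vec (stY R hG t g) k = rep cs h (wOf R hG g) α₀ j := by
    rw [rep_apply_eq, stY, Tab.vec_sw]
  rw [rcl, h1]
  split_ifs with h2
  · rw [stY_conj_of_nonneg R t hG hc hr hu (cell_wOf R hG g) h2]
  · obtain ⟨w', i, e1, e2, e3⟩ := hk _ (not_le.1 h2)
    rw [stY_conj_of_neg R t hG hc hr hu hu1 (cell_wOf R hG g) e1 e2, e3]

section Val

variable [Finite Y]

/-- sums over the group of functions of the state -/
theorem sum_state [Fintype Y] (q : I → ℕ) (hq : ∀ i, Nat.card (X (sr i)) = q i) (wt : Fin N → ℕ) (hw : wt t.o = 1)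
    (hws : ∀ i s, 0 < t.vec s i → wt (t.st i s) = q i * wt s) (φ : Fin N → ℚ) :
    ∑ g, φ (stY R hG t g) = Nat.card (PJ cs h T X {i | i ≠ j}) * ∑ s, (wt s : ℚ) * φ s := by
  rw [sum_stY, Finset.mul_sum]
  refine Finset.sum_congr rfl fun s _ => ?_
  rw [cnt_eq R hG t q hq wt hw hws s, cnt_o]
  ring

/-- **the values at the long root elements** -/
theorem HasVal.long {χ : Y → ℂ} {d : ℕ} {a : Fin m → ℚ} (H : HasVal R hG t χ d a) (hc : Cen cs h X α₀)
    (hr : IsRoot cs h α₀) (hk : RootOk cs h t α₀ kap) (q : I → ℕ) (hq : ∀ i, Nat.card (X (sr i)) = q i)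
    (wt : Fin N → ℕ) (hw : wt t.o = 1) (hws : ∀ i s, 0 < t.vec s i → wt (t.st i s) = q i * wt s) {u : Y}
    (hu : u ∈ X α₀) (hu1 : u ≠ 1) (z : Y) :
    (Nat.card (Y ⧸ PJ cs h T X {i | i ≠ j}) : ℂ) * χ (z * u * z⁻¹) =
      d * ((∑ s, (wt s : ℚ) * a (rcl t α₀ kap s) : ℚ) : ℂ) := by
  classical
  have := Fintype.ofFinite Y
  have h1 := H.val (z * u * z⁻¹)
  rw [finsum_eq_sum_of_fintype] at h1
  have h2 : ∀ y : Y, a (t.cls (stY R hG t (y⁻¹ * (z * u * z⁻¹) * y))) =
      (fun s => a (rcl t α₀ kap s)) (stY R hG t (y⁻¹ * z)) := by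
    intro y
    have e : y⁻¹ * (z * u * z⁻¹) * y = (y⁻¹ * z) * u * (y⁻¹ * z)⁻¹ := by group
    rw [e, cls_conj R hG t hc hr hk hu hu1]
  have h3 : ∑ y : Y, (fun s => a (rcl t α₀ kap s)) (stY R hG t (y⁻¹ * z)) =
      ∑ y : Y, (fun s => a (rcl t α₀ kap s)) (stY R hG t y) := by
    rw [← Equiv.sum_comp ((Equiv.inv Y).trans (Equiv.mulRight z))
      (fun y => (fun s => a (rcl t α₀ kap s)) (stY R hG t y))]
    rfl
  rw [Finset.sum_congr rfl fun y _ => h2 y, h3, sum_state R hG t q hq wt hw hws (fun s => a (rcl t α₀ kap s))] at h1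
  have h8 : (Nat.card Y : ℂ) = Nat.card (Y ⧸ PJ cs h T X {i | i ≠ j}) * Nat.card (PJ cs h T X {i | i ≠ j}) := by
    rw [Subgroup.card_eq_card_quotient_mul_card_subgroup (PJ cs h T X {i | i ≠ j})]
    push_cast
    rfl
  have hP0 : (Nat.card (PJ cs h T X {i | i ≠ j}) : ℂ) ≠ 0 := Nat.cast_ne_zero.2 Nat.card_pos.ne'
  rw [h8] at h1
  refine mul_left_cancel₀ hP0 ?_
  rw [← mul_assoc, mul_comm (Nat.card (PJ cs h T X {i | i ≠ j}) : ℂ), h1, Rat.cast_mul, Rat.cast_natCast]
  ring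

include R hG in
/-- the number of points -/
theorem card_quot (q : I → ℕ) (hq : ∀ i, Nat.card (X (sr i)) = q i) (wt : Fin N → ℕ) (hw : wt t.o = 1)
    (hws : ∀ i s, 0 < t.vec s i → wt (t.st i s) = q i * wt s) :
    (Nat.card (Y ⧸ PJ cs h T X {i | i ≠ j}) : ℚ) = ∑ s, (wt s : ℚ) := by
  classical
  have := Fintype.ofFinite Y
  have h1 := sum_state R hG t q hq wt hw hws (fun _ => 1)
  simp only [mul_one, Finset.sum_const, Finset.card_univ, nsmul_eq_mul] at h1
  rw [← Nat.card_eq_fintype_card,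
    Subgroup.card_eq_card_quotient_mul_card_subgroup (PJ cs h T X {i | i ≠ j})] at h1
  push_cast at h1
  have hP0 : (Nat.card (PJ cs h T X {i | i ≠ j}) : ℚ) ≠ 0 := Nat.cast_ne_zero.2 Nat.card_pos.ne'
  refine mul_left_cancel₀ hP0 ?_
  rw [← h1]
  ring

/-- **the class test** -/
theorem Fam.cls {r : ℕ} {χ : Fin r → Y → ℂ} {d : Fin r → ℕ} {a : Fin r → Fin m → ℚ} {R : RGD cs h p T n X}
    {hG : GG cs h T X = ⊤} {t : Tab A j N m} (F : Fam R hG t χ d a) (hi : Hi A j₀ α₀ D) (hc : Cen cs h X α₀)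
    (hr : IsRoot cs h α₀) (hk : RootOk cs h t α₀ kap) (q : I → ℕ) (hq : ∀ i, Nat.card (X (sr i)) = q i)
    (wt : Fin N → ℕ) (hw : wt t.o = 1) (hws : ∀ i s, 0 < t.vec s i → wt (t.st i s) = q i * wt s)
    {l : ℕ} (hl : l.Prime) {i : Fin r} (hiB : F.irr i ∈ B0 l Y) {c : ℤ}
    (hcc : (c : ℚ) * (Nat.card (Y ⧸ PJ cs h T X {i | i ≠ j}) : ℚ) =
      ((Nat.card (X α₀) : ℚ) - 1) * (Nat.card (Y ⧸ PJ cs h T X {i | i ≠ j₀}) : ℚ) *
        ((Nat.card (Y ⧸ PJ cs h T X {i | i ≠ j}) : ℚ) - ∑ s, (wt s : ℚ) * a i (rcl t α₀ kap s))) :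
    (l : ℤ) ∣ c := by
  classical
  have := Fintype.ofFinite Y
  obtain ⟨L, hL⟩ : ∃ L, L = {g : Y | ∃ y : Y, ∃ u ∈ X α₀, u ≠ 1 ∧ g = y * u * y⁻¹} := ⟨_, rfl⟩
  have hcard := H89.PQX.card_long R hG hi hc hr
  rw [← hL] at hcard
  have hN0 : (Nat.card (Y ⧸ PJ cs h T X {i | i ≠ j}) : ℚ) ≠ 0 := Nat.cast_ne_zero.2 Nat.card_pos.ne'
  have hN0' : (Nat.card (Y ⧸ PJ cs h T X {i | i ≠ j}) : ℂ) ≠ 0 := Nat.cast_ne_zero.2 Nat.card_pos.ne'
  have hd0 : (F.irr i : Y → ℂ) 1 = ((d i : ℤ) : ℂ) := by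
    rw [F.irr_coe, (F.val i).one]
    push_cast
    rfl
  refine class_test_set hl hiB L ?_ (d := d i)
    (v := (d i : ℚ) * (∑ s, (wt s : ℚ) * a i (rcl t α₀ kap s)) / (Nat.card (Y ⧸ PJ cs h T X {i | i ≠ j}) : ℚ))
    hd0 ?_ ?_
  · intro g hg y
    rw [hL] at hg ⊢
    obtain ⟨z, u, hu, hu1, rfl⟩ := hg
    exact ⟨y * z, u, hu, hu1, by group⟩
  · intro g hg
    rw [hL] at hg
    obtain ⟨z, u, hu, hu1, rfl⟩ := hg
    have h1 := (F.val i).long R hG t hc hr hk q hq wt hw hws hu hu1 z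
    rw [F.irr_coe]
    refine mul_left_cancel₀ hN0' ?_
    rw [h1]
    push_cast
    field_simp
  · have h1 : (Nat.card L : ℚ) + (Nat.card (Y ⧸ PJ cs h T X {i | i ≠ j₀}) : ℚ) =
        (Nat.card (X α₀) : ℚ) * (Nat.card (Y ⧸ PJ cs h T X {i | i ≠ j₀}) : ℚ) := by exact_mod_cast hcard
    have h2 : (Nat.card L : ℚ) = ((Nat.card (X α₀) : ℚ) - 1) * (Nat.card (Y ⧸ PJ cs h T X {i | i ≠ j₀}) : ℚ) := by
      linear_combination h1
    rw [h2]
    refine mul_right_cancel₀ hN0 ?_
    push_cast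
    rw [mul_right_comm, hcc]
    field_simp

end Val

end Cfsg.Agent.H996.PQ
end

-- part: H996/PQ/RootTab
section
/-!
# Tables of the long roots (helper996, for S4612)

`RTab`: an encoded table of the positive roots in the orbit of `α₀`. `RTab.spec`: the roots `w α₀` with negative `j`-th
coordinate are of the form `- w' α_i`, and the class of the reflection `w' s_i w'⁻¹` depends only on the coordinate.
-/

set_option autoImplicit false
set_option linter.unusedSectionVars false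

namespace Cfsg.Agent.H996.PQ

open Cfsg.Agent.H967.Sph Cfsg.Agent.H996.Eight.En
open CoxeterSystem Cfsg.Agent.ChevalleyStructure.CoxeterGeom Cfsg.Agent.Tits.Roots

/-- an encoded table of positive roots: coordinates (4 bits), images under the simple reflections (8 bits), a letter
decreasing the root, or `15` for a simple root (4 bits), the index of the simple root (4 bits) -/
structure RTab (l nr : ℕ) where
  V : ℕ
  S : ℕ
  P : ℕ
  Q : ℕ

namespace RTab

variable {l nr : ℕ} [NeZero l] [NeZero nr] (Z : RTab l nr)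

def vec (r : Fin nr) (k : Fin l) : ℤ := (dig 4 Z.V (Nat.add (Nat.mul l r) k) : ℕ)

def st (i : Fin l) (r : Fin nr) : Fin nr := Fin.ofNat nr (dig 8 Z.S (Nat.add (Nat.mul l r) i))

def par (r : Fin nr) : Fin l := Fin.ofNat l (dig 4 Z.P r)

def sim (r : Fin nr) : Fin l := Fin.ofNat l (dig 4 Z.Q r)

/-- the pairing with a simple coroot -/
def pair (A : Fin l → Fin l → ℤ) (i : Fin l) (r : Fin nr) : ℤ :=
  (List.finRange l).foldr (fun k a => A i k * Z.vec r k + a) 0

/-- the image under `s_i` is positive -/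
def good (A : Fin l → Fin l → ℤ) (i : Fin l) (r : Fin nr) : Bool :=
  decide (Z.vec (Z.st i r) i = Z.vec r i - Z.pair A i r) &&
    (List.finRange l).all fun k => decide (k = i) || decide (Z.vec (Z.st i r) k = Z.vec r k)

/-- the root is `α_i` -/
def isS (i : Fin l) (r : Fin nr) : Bool :=
  (List.finRange l).all fun k => decide (Z.vec r k = if k = i then 1 else 0)

/-- words: `r = w α_i` -/
def word : ℕ → Fin nr → Option (List (Fin l) × Fin l)
  | 0, _ => none
  | f + 1, r => if dig 4 Z.P r = 15 then some ([], Z.sim r) else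
      match word f (Z.st (Z.par r) r) with
      | some (w, i) => some (Z.par r :: w, i)
      | none => none

/-- the tests of a table -/
structure Ok (A : Fin l → Fin l → ℤ) (α₀ : Fin l → ℤ) : Prop where
  top : ∃ r, ∀ k, Z.vec r k = α₀ k
  cl : ∀ r i, (Z.isS i r && decide (Z.st i r = r)) = true ∨ Z.good A i r = true
  par : ∀ r : Fin nr, (if dig 4 Z.P r = 15 then Z.isS (Z.sim r) r else Z.good A (Z.par r) r) = true

variable {A : Fin l → Fin l → ℤ} {j : Fin l} {N m : ℕ}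

/-- the test of the classes -/
def clsOk (t : Tab A j N m) (kap : ℕ → Fin m) : Prop :=
  ∀ r : Fin nr, 0 < Z.vec r j → match Z.word 64 r with
    | some (w, i) => t.cls ((w ++ i :: w.reverse).foldl (fun b i => t.st i b) t.o) = kap (Z.vec r j).toNat
    | none => False

instance (t : Tab A j N m) (kap : ℕ → Fin m) : Decidable (Z.clsOk t kap) := by
  unfold clsOk
  have : ∀ r : Fin nr, Decidable (match Z.word 64 r with
    | some (w, i) => t.cls ((w ++ i :: w.reverse).foldl (fun b i => t.st i b) t.o) = kap (Z.vec r j).toNat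
    | none => False) := by
    intro r
    cases Z.word 64 r with
    | none => exact instDecidableFalse
    | some x => exact inferInstanceAs (Decidable (_ = _))
  infer_instance

section Spec

variable {W : Type*} [Group W] {M : CoxeterMatrix (Fin l)} (cs : CoxeterSystem M W) (h : IsCartan M A) {α₀ : Fin l → ℤ}

theorem pair_eq (A : Fin l → Fin l → ℤ) (i : Fin l) (r : Fin nr) : Z.pair A i r = pairing A i (Z.vec r) := by
  have key : ∀ L : List (Fin l), L.foldr (fun k a => A i k * Z.vec r k + a) 0 =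
      (L.map fun k => A i k * Z.vec r k).sum := by
    intro L
    induction L with
    | nil => rfl
    | cons k L ih => rw [List.foldr_cons, List.map_cons, List.sum_cons, ih]
  rw [pair, key, pairing, ← List.sum_ofFn, List.ofFn_eq_map]

include h in
theorem act_good {i : Fin l} {r : Fin nr} (hg : Z.good A i r = true) :
    rep cs h (cs.simple i) (Z.vec r) = Z.vec (Z.st i r) := by
  rw [good, Bool.and_eq_true, decide_eq_true_eq, List.all_eq_true] at hg
  funext k
  by_cases hk : k = i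
  · subst hk
    rw [rep_simple_apply_self, hg.1, Z.pair_eq]
  · rw [rep_simple_apply cs h i _ k hk]
    have h1 := hg.2 k (List.mem_finRange k)
    rw [Bool.or_eq_true, decide_eq_true_eq, decide_eq_true_eq] at h1
    exact (h1.resolve_left hk).symm

theorem isS_iff {i : Fin l} {r : Fin nr} : Z.isS i r = true ↔ Z.vec r = sr i := by
  rw [isS, List.all_eq_true]
  constructor
  · intro h1
    funext k
    have h2 := h1 k (List.mem_finRange k)
    rw [decide_eq_true_eq] at h2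
    rw [h2, sr, Pi.single_apply]
  · intro h1 k _
    rw [decide_eq_true_eq, h1, sr, Pi.single_apply]

variable {Z} (hZ : Z.Ok A α₀)

include h hZ

theorem act_vec (i : Fin l) (r : Fin nr) :
    rep cs h (cs.simple i) (Z.vec r) = Z.vec (Z.st i r) ∨ rep cs h (cs.simple i) (Z.vec r) = - Z.vec (Z.st i r) := by
  rcases hZ.cl r i with h1 | h1
  · rw [Bool.and_eq_true, decide_eq_true_eq, isS_iff] at h1
    right
    rw [h1.2, h1.1, rep_simple_sr]
  · exact Or.inl (Z.act_good cs h h1)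

theorem exists_vec (w : W) : ∃ r, rep cs h w α₀ = Z.vec r ∨ rep cs h w α₀ = - Z.vec r := by
  obtain ⟨ω, rfl⟩ := cs.wordProd_surjective w
  induction ω with
  | nil =>
    obtain ⟨r, hr⟩ := hZ.top
    refine ⟨r, Or.inl ?_⟩
    rw [wordProd_nil, map_one, Module.End.one_apply]
    exact (funext hr).symm
  | cons i ω ih =>
    obtain ⟨r, hr | hr⟩ := ih
    · refine ⟨Z.st i r, ?_⟩
      rw [wordProd_cons, rep_mul_apply, hr]
      exact act_vec cs h hZ i r
    · refine ⟨Z.st i r, ?_⟩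
      rw [wordProd_cons, rep_mul_apply, hr, map_neg]
      rcases act_vec cs h hZ i r with h1 | h1
      · exact Or.inr (by rw [h1])
      · exact Or.inl (by rw [h1, neg_neg])

theorem word_spec : ∀ (f : ℕ) (r : Fin nr) (w : List (Fin l)) (i : Fin l), Z.word f r = some (w, i) →
    Z.vec r = rep cs h (cs.wordProd w) (sr i)
  | 0, _, _, _, h1 => by
    rw [word] at h1
    exact absurd h1 (by simp)
  | f + 1, r, w, i, h1 => by
    have hp := hZ.par r
    rw [word] at h1
    by_cases h2 : dig 4 Z.P r = 15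
    · rw [if_pos h2] at hp h1
      simp only [Option.some.injEq, Prod.mk.injEq] at h1
      obtain ⟨rfl, rfl⟩ := h1
      rw [wordProd_nil, map_one, Module.End.one_apply]
      exact Z.isS_iff.1 hp
    · rw [if_neg h2] at hp h1
      cases h3 : Z.word f (Z.st (Z.par r) r) with
      | none => rw [h3] at h1; exact absurd h1 (by simp)
      | some x =>
        obtain ⟨w', i'⟩ := x
        rw [h3] at h1
        simp only [Option.some.injEq, Prod.mk.injEq] at h1
        obtain ⟨rfl, rfl⟩ := h1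
        have h4 := word_spec f _ _ _ h3
        rw [wordProd_cons, rep_mul_apply, ← h4, ← Z.act_good cs h hp, ← rep_mul_apply, simple_mul_simple_self,
          map_one, Module.End.one_apply]

/-- **the reflections in the roots `w α₀`** -/
theorem spec (t : Tab A j N m) {kap : ℕ → Fin m} (hk : Z.clsOk t kap) (w : W) (hw : rep cs h w α₀ j < 0) :
    ∃ (w' : W) (i : Fin l), rep cs h w α₀ = - rep cs h w' (sr i) ∧ 0 ≤ rep cs h w' (sr i) ∧
      t.cls (t.sw cs h (w' * cs.simple i * w'⁻¹)) = kap (-(rep cs h w α₀ j)).toNat := by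
  obtain ⟨r, hr | hr⟩ := exists_vec cs h hZ w
  · exfalso
    rw [hr] at hw
    exact absurd (Int.natCast_nonneg _) (not_le.2 hw)
  · have h1 : 0 < Z.vec r j := by
      rw [hr, Pi.neg_apply] at hw
      linarith
    have h2 := hk r h1
    cases h3 : Z.word 64 r with
    | none => rw [h3] at h2; exact h2.elim
    | some x =>
      obtain ⟨ω, i⟩ := x
      rw [h3] at h2
      have h2' : t.cls ((ω ++ i :: ω.reverse).foldl (fun b i => t.st i b) t.o) = kap (Z.vec r j).toNat := h2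
      have h4 := word_spec cs h hZ _ _ _ _ h3
      refine ⟨cs.wordProd ω, i, by rw [hr, h4], ?_, ?_⟩
      · rw [← h4]
        exact fun k => Int.natCast_nonneg _
      · rw [hr, Pi.neg_apply, neg_neg, ← h2']
        congr 1
        have h5 := t.sw_wordProd cs h 1 (ω ++ i :: ω.reverse)
        rw [one_mul, Tab.sw_one] at h5
        rw [← h5, wordProd_append, wordProd_cons, wordProd_reverse, mul_assoc]

end Spec

end RTab

end Cfsg.Agent.H996.PQ
end

-- part: H996/PQ/Spec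
section
/-!
# One-dimensional eigenspaces from the whole spectrum (helper996, for S4612)

`uq_of_spec`: `m` eigenvectors for different eigenvalues of an `m × m` matrix: all eigenspaces are one-dimensional.
`uq_of_ok`: the same from a certificate with `steps`.
-/

set_option autoImplicit false

namespace Cfsg.Agent.H996.PQ

open Cfsg.Agent.H967.Sph Cfsg.Agent.H64.Dl.Sph Cfsg.Agent.H996.Eight Cfsg.Agent.H996.Eight.Cert
open CoxeterSystem Cfsg.Agent.ChevalleyStructure.CoxeterGeom Cfsg.Agent.Tits.Roots Cfsg.Agent.Tits.Core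
  Cfsg.Agent.Nodes.Reps Cfsg.Agent.Nodes.BNOf Cfsg.Agent.Nodes.Bruhat Cfsg.Agent.Nodes.LeviDec

universe u

variable {m : ℕ}

/-- the eigenspace is one-dimensional -/
def Uq (th : List ℤ) (nu : Fin m → List ℤ) (o : Fin m) (B : Fin m → Fin m → List ℤ) : Prop :=
  ∀ x : ℕ, 2 ≤ x → ∀ b : Fin m → ℚ, (∀ r, ∑ c, ev x (mpOf th B r c) * b c = 0) →
    ∀ c, b c = b o * (ev x (nu c) / ev x (nu o))

/-- the test without one-dimensionality -/
def ok1 (C : Crt m) (o : Fin m) (B : Fin m → Fin m → List ℤ) (K : Fin m → List ℤ) : Prop :=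
  pPos (C.nu o) = true ∧ pPos C.dn = true ∧
  (∀ r, pZero (pSum fun c => pMul (mpOf C.th B r c) (C.nu c)) = true) ∧
  pEq (pMul C.dn (pSum fun c => pMul (K c) (pMul (C.nu c) (C.nu c))))
    (pScale C.den (pMul (pMul (C.nu o) (C.nu o)) (pSum K))) = true ∧
  0 < C.den

instance (C : Crt m) (o : Fin m) (B : Fin m → Fin m → List ℤ) (K : Fin m → List ℤ) : Decidable (ok1 C o B K) := by
  unfold ok1; infer_instance

theorem ok1_of_ok {C : Crt m} {o : Fin m} {B : Fin m → Fin m → List ℤ} {K : Fin m → List ℤ} (h : C.ok o B K) :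
    ok1 C o B K := ⟨h.1, h.2.1, h.2.2.1, h.2.2.2.2.1, h.2.2.2.2.2⟩

theorem ev_mpOf (x : ℚ) (th : List ℤ) (B : Fin m → Fin m → List ℤ) (r c : Fin m) :
    ev x (mpOf th B r c) = ev x (B r c) - if r = c then ev x th else 0 := by
  rw [mpOf]
  split_ifs
  · rw [ev_pAdd, ev_pNeg]; ring
  · ring

theorem sum_mpOf (x : ℚ) (th : List ℤ) (B : Fin m → Fin m → List ℤ) (r : Fin m) (b : Fin m → ℚ) :
    ∑ c, ev x (mpOf th B r c) * b c = ∑ c, ev x (B r c) * b c - ev x th * b r := by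
  have h1 : ∀ c, ev x (mpOf th B r c) * b c = ev x (B r c) * b c - if r = c then ev x th * b c else 0 := by
    intro c
    rw [ev_mpOf]
    split_ifs <;> ring
  rw [Finset.sum_congr rfl fun c _ => h1 c, Finset.sum_sub_distrib, Finset.sum_ite_eq, if_pos (Finset.mem_univ _)]

theorem uq_of_ok {C : Crt m} {o : Fin m} {B : Fin m → Fin m → List ℤ} {K : Fin m → List ℤ} (h : C.ok o B K) :
    Uq C.th C.nu o B := by
  intro x hx b hb c
  have hx' : (2 : ℚ) ≤ (x : ℚ) := by exact_mod_cast hx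
  have hnu := ev_pos hx' h.1
  have heig : ∀ c, ∑ c', ev x (mpOf C.th B c c') * (ev x (C.nu c') / ev x (C.nu o)) = 0 := by
    intro c
    have h9 := ev_of_pZero (x : ℚ) _ (h.2.2.1 c)
    rw [ev_pSum] at h9
    have h10 : ∑ c', ev (x : ℚ) (mpOf C.th B c c') * (ev x (C.nu c') / ev x (C.nu o)) =
        (∑ c', ev x (pMul (mpOf C.th B c c') (C.nu c'))) / ev x (C.nu o) := by
      rw [Finset.sum_div]
      refine Finset.sum_congr rfl fun c' _ => ?_
      rw [ev_pMul]
      ring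
    rw [h10, h9, zero_div]
  have h9 := zero_of_chkU hx' (mpOf C.th B) (fun c => b c - b o * (ev x (C.nu c) / ev x (C.nu o)))
    (fun r => by
      have e1 : ∀ c, ev (x : ℚ) (mpOf C.th B r c) * (b c - b o * (ev x (C.nu c) / ev x (C.nu o))) =
          ev x (mpOf C.th B r c) * b c - b o * (ev x (mpOf C.th B r c) * (ev x (C.nu c) / ev x (C.nu o))) := fun c => by ring
      rw [Finset.sum_congr rfl fun c _ => e1 c, Finset.sum_sub_distrib, ← Finset.mul_sum, hb, heig, mul_zero,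
        sub_zero]) C.steps [o] (fun c hc => by
      rw [List.mem_singleton.1 hc, div_self hnu.ne', mul_one, sub_self]) h.2.2.2.1 c
  exact sub_eq_zero.1 h9

/-- **the whole spectrum** -/
theorem uq_of_spec (C : Fin m → Crt m) (o : Fin m) (B : Fin m → Fin m → List ℤ) (hpos : ∀ i, pPos ((C i).nu o) = true)
    (heig : ∀ i r, pZero (pSum fun c => pMul (mpOf (C i).th B r c) ((C i).nu c)) = true)
    (hne : ∀ i k, i < k → pNV (pAdd (C i).th (pNeg (C k).th)) = true) (i : Fin m) :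
    Uq (C i).th (C i).nu o B := by
  intro x hx b hb
  have hx' : (2 : ℚ) ≤ (x : ℚ) := by exact_mod_cast hx
  let v : Fin m → Fin m → ℚ := fun k c => ev x ((C k).nu c)
  let θ : Fin m → ℚ := fun k => ev x (C k).th
  have hθ : Function.Injective θ := by
    intro i k hik
    by_contra hne'
    have key : ∀ i k : Fin m, i < k → θ i ≠ θ k := by
      intro i k hlt heq
      have h1 := ev_nv hx' (hne i k hlt)
      rw [ev_pAdd, ev_pNeg] at h1
      apply h1
      show θ i + -θ k = 0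
      rw [heq, add_neg_cancel]
    rcases lt_or_gt_of_ne hne' with h2 | h2
    · exact key _ _ h2 hik
    · exact key _ _ h2 hik.symm
  let f : Module.End ℚ (Fin m → ℚ) := Matrix.toLin' (Matrix.of fun r c => ev (x : ℚ) (B r c))
  have hf : ∀ (u : Fin m → ℚ) r, f u r = ∑ c, ev x (B r c) * u c := by
    intro u r
    rw [Matrix.toLin'_apply, Matrix.mulVec, dotProduct]
    rfl
  have hv : ∀ k, f.HasEigenvector (θ k) (v k) := by
    intro k
    rw [Module.End.hasEigenvector_iff, Module.End.mem_eigenspace_iff]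
    constructor
    · funext r
      have h9 := ev_of_pZero (x : ℚ) _ (heig k r)
      rw [ev_pSum] at h9
      have h10 : ∑ c, ev (x : ℚ) (mpOf (C k).th B r c) * v k c = 0 := by
        rw [← h9]
        exact Finset.sum_congr rfl fun c _ => by rw [ev_pMul]
      rw [sum_mpOf, sub_eq_zero] at h10
      rw [hf, h10]
      rfl
    · intro h0
      have h1 := ev_pos hx' (hpos k)
      have h2 : v k o = 0 := by rw [h0]; rfl
      exact h1.ne' h2
  have hli := Module.End.eigenvectors_linearIndependent' f θ hθ v hv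
  have hspan : Submodule.span ℚ (Set.range v) = ⊤ := by
    apply hli.span_eq_top_of_card_eq_finrank'
    rw [Module.finrank_fintype_fun_eq_card]
  have hbm : b ∈ Submodule.span ℚ (Set.range v) := by rw [hspan]; trivial
  rw [Submodule.mem_span_range_iff_exists_fun] at hbm
  obtain ⟨a, ha⟩ := hbm
  have hfb : f b = θ i • b := by
    funext r
    have h1 := hb r
    rw [sum_mpOf, sub_eq_zero] at h1
    rw [hf, h1]
    rfl
  have h1 : ∑ k, (a k * (θ k - θ i)) • v k = 0 := by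
    have h2 : f b = ∑ k, (a k * θ k) • v k := by
      rw [← ha, map_sum]
      refine Finset.sum_congr rfl fun k _ => ?_
      rw [map_smul, (hv k).apply_eq_smul, smul_smul]
    have h3 : θ i • b = ∑ k, (a k * θ i) • v k := by
      rw [← ha, Finset.smul_sum]
      refine Finset.sum_congr rfl fun k _ => ?_
      rw [smul_smul, mul_comm]
    rw [hfb, h3] at h2
    have h4 : ∀ k, (a k * (θ k - θ i)) • v k = (a k * θ k) • v k - (a k * θ i) • v k := by
      intro k
      rw [← sub_smul]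
      congr 1
      ring
    rw [Finset.sum_congr rfl fun k _ => h4 k, Finset.sum_sub_distrib, ← h2, sub_self]
  have h2 : ∀ k, k ≠ i → a k = 0 := by
    intro k hk
    have h3 := Fintype.linearIndependent_iff.1 hli _ h1 k
    rcases mul_eq_zero.1 h3 with h4 | h4
    · exact h4
    · exact absurd (hθ (sub_eq_zero.1 h4)) hk
  have h3 : b = a i • v i := by
    rw [← ha, Finset.sum_eq_single i]
    · intro k _ hk
      rw [h2 k hk, zero_smul]
    · exact fun h => absurd (Finset.mem_univ _) h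
  intro c
  have h4 := ev_pos hx' (hpos i)
  have h5 : ∀ c, b c = a i * ev x ((C i).nu c) := fun c => by rw [h3]; rfl
  rw [h5, h5]
  field_simp

end Cfsg.Agent.H996.PQ
end

-- part: H996/PQ/CrtVal
section
/-!
# A certificate gives a constituent of `1_P^G` with its values (helper996, for S4612)
-/

set_option autoImplicit false

namespace Cfsg.Agent.H996.PQ

open Cfsg.Agent.H967.Sph Cfsg.Agent.H64.Dl.Sph Cfsg.Agent.H996.Eight Cfsg.Agent.H996.Eight.Cert
open CoxeterSystem Cfsg.Agent.ChevalleyStructure.CoxeterGeom Cfsg.Agent.Tits.Roots Cfsg.Agent.Tits.Core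
  Cfsg.Agent.Nodes.Reps Cfsg.Agent.Nodes.BNOf Cfsg.Agent.Nodes.Bruhat Cfsg.Agent.Nodes.LeviDec

universe u

/-- **A certificate gives a constituent with its values.** -/
theorem exists_crt {I W : Type*} {Y : Type u} [Fintype I] [DecidableEq I] [Group W] [Finite W] [Group Y] [Finite Y]
    {M : CoxeterMatrix I} {cs : CoxeterSystem M W} {A : I → I → ℤ} {h : IsCartan M A} {p : ℕ} {T : Subgroup Y}
    {n : I → Y} {X : (I → ℤ) → Subgroup Y} (R : RGD cs h p T n X) (hG : GG cs h T X = ⊤)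
    {j : I} {N m : ℕ} (D : Data A j N m) {x : ℕ} (hx : 2 ≤ x) (hq : ∀ i, Nat.card (X (sr i)) = x ^ D.e i)
    (C : Crt m) (hC : ok1 C (D.t.cls D.t.o) D.bb D.kk)
    (hU : Uq C.th C.nu (D.t.cls D.t.o) D.bb) (hD : pDvd C.den C.dn) :
    ∃ χ : Y → ℂ, HasVal R hG D.t χ (val C.den C.dn x)
      (fun c => ev x (C.nu c) / ev x (C.nu (D.t.cls D.t.o))) := by
  obtain ⟨o, ho⟩ : ∃ o, o = D.t.cls D.t.o := ⟨_, rfl⟩
  rw [← ho] at hC hU ⊢
  obtain ⟨h3, h4, h5, h7, h8⟩ := hC
  have hx' : (2 : ℚ) ≤ (x : ℚ) := by exact_mod_cast hx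
  have htd := ev_pos hx' D.chkF
  have hnu := ev_pos hx' h3
  have hval := val_spec h8 hD h4 hx
  have hden : (0 : ℚ) < C.den := by exact_mod_cast h8
  have hsum : ∀ f : Fin m → ℚ, ∑ s, ((x ^ D.wl s : ℕ) : ℚ) * f (D.t.cls s) = ∑ c, ev x (D.kk c) * f c := by
    intro f
    rw [← Finset.sum_fiberwise (s := Finset.univ) (g := fun s => D.t.cls s)]
    refine Finset.sum_congr rfl fun c _ => ?_
    rw [← ChkK.spec (x : ℚ) D.chkK c, Finset.sum_mul]
    refine Finset.sum_congr rfl fun s hs => ?_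
    rw [(Finset.mem_filter.1 hs).2]
    push_cast
    rfl
  have hK : ∀ c, (∑ s, if D.t.cls s = c then ((x ^ D.wl s : ℕ) : ℚ) else 0) = ev x (D.kk c) := by
    intro c
    rw [← ChkK.spec (x : ℚ) D.chkK c, Finset.sum_filter]
    refine Finset.sum_congr rfl fun s _ => ?_
    push_cast
    rfl
  -- the equations in terms of `mp`
  have hmp : ∀ (b : Fin m → ℚ) (c : Fin m),
      (∑ s, (if D.t.cls s = c then ((x ^ D.wl s : ℕ) : ℚ) * D.t.tau (fun i => x ^ D.e i) j (fun u => b (D.t.cls u)) s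
        else 0) = ev x C.th / ev x D.ff * (∑ s, if D.t.cls s = c then ((x ^ D.wl s : ℕ) : ℚ) else 0) * b c) ↔
      ∑ c', ev x (mpOf C.th D.bb c c') * b c' = 0 := by
    intro b c
    rw [D.chkM.spec x b c, hK]
    have hKc := ev_pos hx' (D.chkP c)
    have e1 : ∑ c', ev x (mpOf C.th D.bb c c') * b c' = ∑ c', ev x (D.bb c c') * b c' - ev x C.th * b c := by
      have e2 : ∀ c', ev (x : ℚ) (mpOf C.th D.bb c c') * b c' = ev x (D.bb c c') * b c' -
          if c = c' then ev x C.th * b c' else 0 := by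
        intro c'
        rw [mpOf]
        split_ifs with hcc
        · rw [ev_pAdd, ev_pNeg]
          ring
        · ring
      rw [Finset.sum_congr rfl fun c' _ => e2 c', Finset.sum_sub_distrib, Finset.sum_ite_eq,
        if_pos (Finset.mem_univ _)]
    have e3 : ev x (D.kk c) * ∑ c', ev x (D.bb c c') * b c' = ev x D.ff * ∑ c', ev x (D.mat c c') * b c' := by
      rw [Finset.mul_sum, Finset.mul_sum]
      refine Finset.sum_congr rfl fun c' _ => ?_
      have h9 := ev_of_pEq (x : ℚ) (D.chkB c c')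
      rw [ev_pMul, ev_pMul] at h9
      rw [← mul_assoc, h9, mul_assoc]
    rw [e1, sub_eq_zero]
    constructor
    · intro h
      rw [h] at e3
      refine mul_left_cancel₀ hKc.ne' ?_
      rw [e3]
      field_simp
    · intro h
      rw [h] at e3
      refine mul_left_cancel₀ htd.ne' ?_
      rw [← e3]
      field_simp
  have heig : ∀ c, ∑ c', ev x (mpOf C.th D.bb c c') * (ev x (C.nu c') / ev x (C.nu o)) = 0 := by
    intro c
    have h9 := ev_of_pZero (x : ℚ) _ (h5 c)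
    rw [ev_pSum] at h9
    have h10 : ∑ c', ev (x : ℚ) (mpOf C.th D.bb c c') * (ev x (C.nu c') / ev x (C.nu o)) =
        (∑ c', ev x (pMul (mpOf C.th D.bb c c') (C.nu c'))) / ev x (C.nu o) := by
      rw [Finset.sum_div]
      refine Finset.sum_congr rfl fun c' _ => ?_
      rw [ev_pMul]
      ring
    rw [h10, h9, zero_div]
  obtain ⟨χ, hχ⟩ := exists_val R hG D.t (fun i => x ^ D.e i) hq (ev x C.th / ev x D.ff)
    (fun c => ev x (C.nu c) / ev x (C.nu o)) (by rw [← ho]; exact div_self hnu.ne') (fun s => x ^ D.wl s)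
    (by simp only [D.wo, pow_zero])
    (fun i s h9 => by
      show x ^ D.wl (D.t.st i s) = x ^ D.e i * x ^ D.wl s
      rw [D.ws i s h9, pow_add])
    (fun c => ((hmp _ c).2 (heig c) :))
    (fun b hb c => by
      rw [← ho]
      exact hU x hx b (fun c => (hmp b c).1 (hb c)) c)
    (val C.den C.dn x) (by
      rw [hsum (fun c => (ev x (C.nu c) / ev x (C.nu o)) ^ 2)]
      have h9 := hsum (fun _ => 1)
      simp only [mul_one] at h9
      rw [h9]
      have h10 := ev_of_pEq (x : ℚ) h7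
      rw [ev_pMul, ev_pScale, ev_pMul, ev_pMul, ev_pSum, ev_pSum, ← hval] at h10
      have h11 : ∑ c, ev (x : ℚ) (D.kk c) * (ev x (C.nu c) / ev x (C.nu o)) ^ 2 =
          (∑ c, ev x (pMul (D.kk c) (pMul (C.nu c) (C.nu c)))) / ev x (C.nu o) ^ 2 := by
        rw [Finset.sum_div]
        refine Finset.sum_congr rfl fun c _ => ?_
        rw [ev_pMul, ev_pMul]
        ring
      rw [h11]
      have h12 : (0 : ℚ) < ev x (C.nu o) ^ 2 := by positivity
      rw [← mul_div_assoc, div_eq_iff h12.ne']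
      refine mul_left_cancel₀ hden.ne' ?_
      rw [← mul_assoc, h10]
      push_cast
      ring)
  exact ⟨χ, hχ⟩

end Cfsg.Agent.H996.PQ
end

-- part: H996/PQ/Full
section
/-!
# Full certificates (helper996, for S4612)

`Full`: certificates for all constituents of `1_P^G`, with the class test, the trace test and the coset test; `Full.sep`.
-/

set_option autoImplicit false
set_option linter.unusedSectionVars false

namespace Cfsg.Agent.H996.PQ

open Cfsg Cfsg.Agent.H967.Sph Cfsg.Agent.H317.PQ Cfsg.Agent.Blocks.Basic Cfsg.Agent.Blocks.Local Cfsg.Agent.H64.Dl.Sph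
  Cfsg.Agent.H996.Eight.Cert
open CoxeterSystem Cfsg.Agent.ChevalleyStructure.CoxeterGeom Cfsg.Agent.Tits.Roots Cfsg.Agent.Tits.Core
  Cfsg.Agent.Nodes.Reps Cfsg.Agent.Nodes.BNOf Cfsg.Agent.Nodes.Bruhat Cfsg.Agent.Nodes.LeviDec

universe u

/-- `rcl` with lists -/
def rclL {l : ℕ} {A : Fin l → Fin l → ℤ} {j : Fin l} {N m : ℕ} (t : Tab A j N m) (α₀ : Fin l → ℤ)
    (kap : ℕ → Fin m) (s : Fin N) : Fin m :=
  match (List.finRange l).foldr (fun k a => α₀ k * t.vec s k + a) 0 with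
  | Int.ofNat _ => t.cls t.o
  | Int.negSucc n => kap (n + 1)

theorem rclL_eq {l : ℕ} {A : Fin l → Fin l → ℤ} {j : Fin l} {N m : ℕ} (t : Tab A j N m) (α₀ : Fin l → ℤ)
    (kap : ℕ → Fin m) (s : Fin N) : rclL t α₀ kap s = rcl t α₀ kap s := by
  have key : ∀ L : List (Fin l), L.foldr (fun k a => α₀ k * t.vec s k + a) 0 =
      (L.map fun k => α₀ k * t.vec s k).sum := by
    intro L
    induction L with
    | nil => rfl
    | cons k L ih => rw [List.foldr_cons, List.map_cons, List.sum_cons, ih]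
  have h1 : (List.finRange l).foldr (fun k a => α₀ k * t.vec s k + a) 0 = ∑ k, α₀ k * t.vec s k := by
    rw [key, ← List.sum_ofFn, List.ofFn_eq_map]
  rw [rclL, rcl, h1]
  generalize ∑ k, α₀ k * t.vec s k = v
  cases v with
  | ofNat n => rw [if_pos (show (0 : ℤ) ≤ Int.ofNat n from Int.natCast_nonneg n)]
  | negSucc n =>
    rw [if_neg (not_le.2 (Int.negSucc_lt_zero n))]
    rfl

/-- the weights of the classes `cf s = c` -/
def ChkC {N m : ℕ} (cf : Fin N → Fin m) (wl : Fin N → ℕ) (kk : Fin m → List ℤ) : Prop :=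
  ∀ c : Fin m, pEq ((List.finRange N).foldr (fun s p => if cf s = c then pAdd (pShift (wl s) [1]) p else p) [])
    (kk c) = true

instance {N m : ℕ} (cf : Fin N → Fin m) (wl : Fin N → ℕ) (kk : Fin m → List ℤ) : Decidable (ChkC cf wl kk) := by
  unfold ChkC; infer_instance

theorem ChkC.spec {N m : ℕ} {cf : Fin N → Fin m} {wl : Fin N → ℕ} {kk : Fin m → List ℤ} (h : ChkC cf wl kk) (x : ℕ)
    (f : Fin m → ℚ) : ∑ s, ((x ^ wl s : ℕ) : ℚ) * f (cf s) = ∑ c, ev x (kk c) * f c := by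
  have key : ∀ (c : Fin m) (l : List (Fin N)),
      ev (x : ℚ) (l.foldr (fun s p => if cf s = c then pAdd (pShift (wl s) [1]) p else p) []) =
      (l.map fun s => if cf s = c then (x : ℚ) ^ wl s else 0).sum := by
    intro c l
    induction l with
    | nil => rfl
    | cons s l ih =>
      rw [List.foldr_cons, List.map_cons, List.sum_cons]
      split_ifs with h1
      · rw [ev_pAdd, ih, ev_pShift, ev_cons, ev_nil]
        push_cast
        ring
      · rw [ih, zero_add]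
  have h2 : ∀ c, ev (x : ℚ) (kk c) = ∑ s, (if cf s = c then (x : ℚ) ^ wl s else 0) := by
    intro c
    rw [← ev_of_pEq (x : ℚ) (h c), key, ← List.sum_ofFn, List.ofFn_eq_map]
  rw [← Finset.sum_fiberwise (s := Finset.univ) (g := fun s => cf s)]
  refine Finset.sum_congr rfl fun c _ => ?_
  rw [h2, Finset.sum_mul, Finset.sum_filter]
  refine Finset.sum_congr rfl fun s _ => ?_
  split_ifs with h3
  · rw [h3]
    push_cast
    rfl
  · rw [zero_mul]

/-- the number of points -/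
theorem sum_wl {I : Type*} [DecidableEq I] {A : I → I → ℤ} {j : I} {N m : ℕ} (Da : Data A j N m) (x : ℕ) :
    ev (x : ℚ) (pSum Da.kk) = ∑ s, ((x ^ Da.wl s : ℕ) : ℚ) := by
  rw [ev_pSum, ← Finset.sum_fiberwise (s := Finset.univ) (g := fun s => Da.t.cls s)]
  refine Finset.sum_congr rfl fun c _ => ?_
  rw [← ChkK.spec (x : ℚ) Da.chkK c]
  refine Finset.sum_congr rfl fun s _ => ?_
  push_cast
  rfl

/-- a full certificate -/
structure Full {l : ℕ} [NeZero l] (A : Fin l → Fin l → ℤ) (j : Fin l) (N m : ℕ) (α₀ : Fin l → ℤ) where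
  Da : Data A j N m
  C : Fin m → Crt m
  i₀ : Fin m
  P : Pol m
  hP : P.dn = (fun i => (C i).dn) ∧ P.den = (fun i => (C i).den) ∧ P.nu = (fun i => (C i).nu) ∧
    P.o = Da.t.cls Da.t.o
  hN : pEq (pSum Da.kk) P.N = true
  triv : (∀ c, (C i₀).nu c = [1]) ∧ (C i₀).dn = [1] ∧ (C i₀).den = 1
  ok : ∀ i, i ≠ i₀ → ok1 (C i) (Da.t.cls Da.t.o) Da.bb Da.kk ∧ pDvd (C i).den (C i).dn
  uq : ∀ i, i ≠ i₀ → Uq (C i).th (C i).nu (Da.t.cls Da.t.o) Da.bb
  -- the sum
  FF : List ℤ
  LL : ℕ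
  cf : Fin m → List ℤ
  hF : pPos FF = true ∧ 0 < LL
  hcf : ∀ i, pEq (pScale (C i).den (pMul (cf i) ((C i).nu (Da.t.cls Da.t.o)))) (pScale LL (pMul FF (C i).dn)) = true
  hsum : ∀ c, (if c = Da.t.cls Da.t.o then
    pEq (pSum fun i => pMul (cf i) ((C i).nu c)) (pScale LL (pMul FF P.N)) else
    pZero (pSum fun i => pMul (cf i) ((C i).nu c))) = true
  -- the characters are different
  hne : ∀ i i', i < i' → pNV (pAdd (pScale (C i).den (C i').dn) (pNeg (pScale (C i').den (C i).dn))) = true ∨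
    ∃ c, pNV (pAdd (pMul ((C i).nu c) ((C i').nu (Da.t.cls Da.t.o)))
      (pNeg (pMul ((C i').nu c) ((C i).nu (Da.t.cls Da.t.o))))) = true
  -- the long root elements
  NL : List ℤ
  nr : ℕ
  nz : NeZero nr
  Z : RTab l nr
  hZ : Z.Ok A α₀
  kap : ℕ → Fin m
  hkap : Z.clsOk Da.t kap
  VV : Fin m → List ℤ
  hVV : ChkC (rclL Da.t α₀ kap) Da.wl VV
  hD : ∀ i, pEq (pMul (pMul P.N (P.D i)) ((C i).nu (Da.t.cls Da.t.o)))
    (pMul NL (pAdd (pMul P.N ((C i).nu (Da.t.cls Da.t.o))) (pNeg (pSum fun c => pMul (VV c) ((C i).nu c))))) = true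

namespace Full

variable {l : ℕ} [NeZero l] {A : Fin l → Fin l → ℤ} {j : Fin l} {N m : ℕ} {α₀ : Fin l → ℤ} (Fu : Full A j N m α₀)

theorem pos (i : Fin m) : pPos ((Fu.C i).nu (Fu.Da.t.cls Fu.Da.t.o)) = true ∧ pPos (Fu.C i).dn = true ∧
    0 < (Fu.C i).den ∧ pDvd (Fu.C i).den (Fu.C i).dn := by
  by_cases hi : i = Fu.i₀
  · subst hi
    rw [Fu.triv.1, Fu.triv.2.1, Fu.triv.2.2]
    refine ⟨by decide +kernel, by decide +kernel, one_pos, by decide +kernel⟩
  · have h1 := Fu.ok i hi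
    exact ⟨h1.1.1, h1.1.2.1, h1.1.2.2.2.2, h1.2⟩

theorem deg_spec {x : ℕ} (hx : 2 ≤ x) (i : Fin m) :
    ((Fu.C i).den : ℚ) * (Fu.P.deg x i : ℚ) = ev x (Fu.C i).dn := by
  have h1 := Fu.pos i
  have h2 : Fu.P.deg x i = val (Fu.C i).den (Fu.C i).dn x := by
    rw [Pol.deg, Fu.hP.1, Fu.hP.2.1]
  rw [h2]
  exact val_spec h1.2.2.1 h1.2.2.2 h1.2.1 hx

theorem sph_eq (x : ℕ) (i c : Fin m) :
    Fu.P.sph x i c = ev x ((Fu.C i).nu c) / ev x ((Fu.C i).nu (Fu.Da.t.cls Fu.Da.t.o)) := by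
  rw [Pol.sph, Fu.hP.2.2.1, Fu.hP.2.2.2]

theorem exists_state {x : ℕ} (hx : 2 ≤ x) (c : Fin m) : ∃ s, Fu.Da.t.cls s = c := by
  have hx' : (2 : ℚ) ≤ (x : ℚ) := by exact_mod_cast hx
  by_contra hcon
  push Not at hcon
  have h1 := ev_pos hx' (Fu.Da.chkP c)
  rw [← ChkK.spec (x : ℚ) Fu.Da.chkK c, Finset.filter_false_of_mem (fun s _ => hcon s), Finset.sum_empty] at h1
  exact lt_irrefl _ h1

section Group

variable {W : Type*} {Y : Type u} [Group W] [Finite W] [Group Y] [Finite Y]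
    {M : CoxeterMatrix (Fin l)} {cs : CoxeterSystem M W} {h : IsCartan M A} {p : ℕ} {T : Subgroup Y}
    {n : Fin l → Y} {X : (Fin l → ℤ) → Subgroup Y} (R : RGD cs h p T n X) (hG : GG cs h T X = ⊤)
    {x : ℕ} (hx : 2 ≤ x) (hq : ∀ i, Nat.card (X (sr i)) = x ^ Fu.Da.e i)

include hx hq

theorem exists_fam : ∃ χ : Fin m → Y → ℂ, χ Fu.i₀ = 1 ∧
    Fam R hG Fu.Da.t χ (fun i => Fu.P.deg x i) (fun i c => Fu.P.sph x i c) := by
  have hx' : (2 : ℚ) ≤ (x : ℚ) := by exact_mod_cast hx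
  have h1 : ∀ i, ∃ χ : Y → ℂ, (i = Fu.i₀ → χ = 1) ∧
      HasVal R hG Fu.Da.t χ (Fu.P.deg x i) (fun c => Fu.P.sph x i c) := by
    intro i
    by_cases hi : i = Fu.i₀
    · refine ⟨1, fun _ => rfl, ?_⟩
      have h2 : Fu.P.deg x i = 1 := by
        have h3 := Fu.deg_spec hx i
        rw [hi, Fu.triv.2.1, Fu.triv.2.2, ev_cons, ev_nil] at h3
        rw [hi]
        have h4 : (Fu.P.deg x Fu.i₀ : ℚ) = 1 := by
          push_cast at h3
          linarith only [h3]
        exact_mod_cast h4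
      have h3 : (fun c => Fu.P.sph x i c) = fun _ => (1 : ℚ) := by
        funext c
        rw [Fu.sph_eq, hi, Fu.triv.1, Fu.triv.1]
        have h4 : ev (x : ℚ) [1] = 1 := by rw [ev_cons, ev_nil]; push_cast; ring
        rw [h4, div_one]
      rw [h2, h3]
      exact HasVal.trivial R hG Fu.Da.t
    · obtain ⟨χ, hχ⟩ := exists_crt R hG Fu.Da hx hq (Fu.C i) (Fu.ok i hi).1 (Fu.uq i hi) (Fu.ok i hi).2
      refine ⟨χ, fun h => absurd h hi, ?_⟩
      have h2 : Fu.P.deg x i = val (Fu.C i).den (Fu.C i).dn x := by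
        rw [Pol.deg, Fu.hP.1, Fu.hP.2.1]
      have h3 : (fun c => Fu.P.sph x i c) =
          fun c => ev x ((Fu.C i).nu c) / ev x ((Fu.C i).nu (Fu.Da.t.cls Fu.Da.t.o)) := by
        funext c
        exact Fu.sph_eq x i c
      rw [h2, h3]
      exact hχ
  choose χ hχ0 hχ using h1
  refine ⟨χ, hχ0 _ rfl, hχ, ?_, ?_⟩
  · intro i i' hii
    by_contra hne
    have key : ∀ i i' : Fin m, i < i' → χ i ≠ χ i' := by
      intro i i' hlt heq
      rcases Fu.hne i i' hlt with h2 | ⟨c, h2⟩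
      · have h2 := ev_nv hx' h2
        rw [ev_pAdd, ev_pNeg, ev_pScale, ev_pScale, ← Fu.deg_spec hx i, ← Fu.deg_spec hx i'] at h2
        have h3 : (Fu.P.deg x i : ℂ) = Fu.P.deg x i' := by
          rw [← (hχ i).one, ← (hχ i').one, heq]
        have h4 : (Fu.P.deg x i : ℚ) = Fu.P.deg x i' := by exact_mod_cast h3
        apply h2
        rw [h4]
        push_cast
        ring
      · have h2 := ev_nv hx' h2
        rw [ev_pAdd, ev_pNeg, ev_pMul, ev_pMul] at h2
        obtain ⟨s, hs⟩ := Fu.exists_state hx c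
        obtain ⟨w, hw'⟩ := Fu.Da.t.exists_sw cs h s
        obtain ⟨k, hk⟩ := exists_rp cs R.nsys w
        have h3 : stY R hG Fu.Da.t k = s := by rw [stY_eq R hG Fu.Da.t (cell_of_rp hk), hw']
        have h4 := (hχ i).coset k
        rw [heq, (hχ i').coset k, h3, hs] at h4
        have hP0 : (Nat.card (PJ cs h T X {i | i ≠ j}) : ℂ) ≠ 0 := Nat.cast_ne_zero.2 Nat.card_pos.ne'
        have h5 : Fu.P.sph x i' c = Fu.P.sph x i c := by exact_mod_cast mul_left_cancel₀ hP0 h4
        rw [Fu.sph_eq, Fu.sph_eq, div_eq_div_iff (ev_pos hx' (Fu.pos i').1).ne' (ev_pos hx' (Fu.pos i).1).ne'] at h5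
        apply h2
        linear_combination -h5
    rcases lt_or_gt_of_ne hne with h2 | h2
    · exact key _ _ h2 hii
    · exact key _ _ h2 hii.symm
  · intro c
    have hF := ev_pos hx' Fu.hF.1
    have hL : (0 : ℚ) < (Fu.LL : ℚ) := by exact_mod_cast Fu.hF.2
    have hcf : ∀ i, (Fu.LL : ℚ) * ev x Fu.FF * ((Fu.P.deg x i : ℚ) * Fu.P.sph x i c) =
        ev x (pMul (Fu.cf i) ((Fu.C i).nu c)) := by
      intro i
      have h2 := ev_of_pEq (x : ℚ) (Fu.hcf i)
      rw [ev_pScale, ev_pMul, ev_pScale, ev_pMul, ← Fu.deg_spec hx i] at h2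
      have h3 := ev_pos hx' (Fu.pos i).1
      have h4 : (0 : ℚ) < ((Fu.C i).den : ℚ) := by exact_mod_cast (Fu.pos i).2.2.1
      rw [Fu.sph_eq, ev_pMul, ← mul_div_assoc, ← mul_div_assoc, div_eq_iff h3.ne']
      refine mul_left_cancel₀ h4.ne' ?_
      push_cast at h2
      linear_combination -(ev (x : ℚ) ((Fu.C i).nu c)) * h2
    have h2 : (Fu.LL : ℚ) * ev x Fu.FF * ∑ i, (Fu.P.deg x i : ℚ) * Fu.P.sph x i c =
        ev x (pSum fun i => pMul (Fu.cf i) ((Fu.C i).nu c)) := by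
      rw [Finset.mul_sum, ev_pSum]
      exact Finset.sum_congr rfl fun i _ => hcf i
    have h3 := Fu.hsum c
    have h4 : (0 : ℚ) < (Fu.LL : ℚ) * ev x Fu.FF := by positivity
    refine mul_left_cancel₀ h4.ne' (h2.trans ?_)
    split_ifs at h3 ⊢ with h5
    · rw [ev_of_pEq (x : ℚ) h3, ev_pScale, ev_pMul]
      have h6 := card_quot R hG Fu.Da.t (fun i => x ^ Fu.Da.e i) hq (fun s => x ^ Fu.Da.wl s)
        (by simp only [Fu.Da.wo, pow_zero])
        (fun i s h9 => by
          show x ^ Fu.Da.wl (Fu.Da.t.st i s) = x ^ Fu.Da.e i * x ^ Fu.Da.wl s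
          rw [Fu.Da.ws i s h9, pow_add])
      rw [h6, ← sum_wl Fu.Da x, ev_of_pEq (x : ℚ) Fu.hN]
      push_cast
      ring
    · rw [ev_of_pZero (x : ℚ) _ h3, mul_zero]

include R hG in
/-- **The theorem.** -/
theorem sep (hcen : Cen cs h X α₀) {j₀ : Fin l} {D : Fin l → ℤ} (hi : Hi A j₀ α₀ D) (hr : IsRoot cs h α₀)
    (hX0 : Nat.card (X α₀) = x)
    (hNL : (Nat.card (Y ⧸ PJ cs h T X {i | i ≠ j₀}) : ℚ) = ev x Fu.NL)
    {p' l' : ℕ} (hp : p'.Prime) (hl : l'.Prime) (hS : Same p' l' Y) : Sep Fu.P x p' l' Fu.i₀ := by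
  classical
  have hx' : (2 : ℚ) ≤ (x : ℚ) := by exact_mod_cast hx
  obtain ⟨χ, hχ0, F⟩ := Fu.exists_fam R hG hx hq
  have hNN : (Nat.card (Y ⧸ PJ cs h T X {i | i ≠ j}) : ℚ) = ev x Fu.P.N := by
    have h6 := card_quot R hG Fu.Da.t (fun i => x ^ Fu.Da.e i) hq (fun s => x ^ Fu.Da.wl s)
      (by simp only [Fu.Da.wo, pow_zero])
      (fun i s h9 => by
        show x ^ Fu.Da.wl (Fu.Da.t.st i s) = x ^ Fu.Da.e i * x ^ Fu.Da.wl s
        rw [Fu.Da.ws i s h9, pow_add])
    rw [h6, ← sum_wl Fu.Da x, ev_of_pEq (x : ℚ) Fu.hN]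
  have hNZ : ((Nat.card (Y ⧸ PJ cs h T X {i | i ≠ j}) : ℕ) : ℤ) = evZ x Fu.P.N := by
    have h1 := evZ_cast (x : ℤ) Fu.P.N
    push_cast at h1
    rw [← hNN] at h1
    exact_mod_cast h1.symm
  have hone : ∀ l : ℕ, l.Prime → F.irr Fu.i₀ ∈ B0 l Y := by
    intro l hl M hM
    have hMp : M.IsPrime := isPrime_of_isPModular hM
    have h1 : F.irr Fu.i₀ = ⟨fun _ => 1, isIrrCharacter_one⟩ := Subtype.ext hχ0
    rw [h1]
    exact Blocks.PrincipalSection.one_mem_principalBlock
  have key : ∀ l : ℕ, l.Prime → ∀ S : Finset (Fin m), (∀ i, i ∈ S ↔ F.irr i ∈ B0 l Y) → Tst Fu.P x l S := by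
    intro l hl S hS
    have := hl
    refine ⟨?_, ?_, ?_, ?_⟩
    · intro i hiS
      have h1 := F.cls hi hcen hr (kap := Fu.kap) (by
          intro w hw
          have := Fu.nz
          exact RTab.spec cs h Fu.hZ Fu.Da.t Fu.hkap w hw) (fun i => x ^ Fu.Da.e i) hq (fun s => x ^ Fu.Da.wl s)
        (by simp only [Fu.Da.wo, pow_zero])
        (fun i s h9 => by
          show x ^ Fu.Da.wl (Fu.Da.t.st i s) = x ^ Fu.Da.e i * x ^ Fu.Da.wl s
          rw [Fu.Da.ws i s h9, pow_add]) hl ((hS i).1 hiS) (c := ((x : ℤ) - 1) * evZ x (Fu.P.D i)) ?_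
      · exact h1
      · rw [hX0, hNL, hNN]
        have h2 : ∑ s, ((x ^ Fu.Da.wl s : ℕ) : ℚ) * Fu.P.sph x i (rcl Fu.Da.t α₀ Fu.kap s) =
            ∑ c, ev x (Fu.VV c) * Fu.P.sph x i c := by
          rw [← Fu.hVV.spec x (fun c => Fu.P.sph x i c)]
          exact Finset.sum_congr rfl fun s _ => by rw [rclL_eq]
        rw [h2]
        have h3 := ev_of_pEq (x : ℚ) (Fu.hD i)
        rw [ev_pMul, ev_pMul, ev_pMul, ev_pAdd, ev_pMul, ev_pNeg, ev_pSum] at h3
        have h4 := ev_pos hx' (Fu.pos i).1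
        have h5 : ∑ c, ev (x : ℚ) (Fu.VV c) * Fu.P.sph x i c =
            (∑ c, ev (x : ℚ) (pMul (Fu.VV c) ((Fu.C i).nu c))) / ev x ((Fu.C i).nu (Fu.Da.t.cls Fu.Da.t.o)) := by
          rw [Finset.sum_div]
          refine Finset.sum_congr rfl fun c _ => ?_
          rw [Fu.sph_eq, ev_pMul, mul_div_assoc]
        rw [h5]
        have h6 := evZ_cast (x : ℤ) (Fu.P.D i)
        push_cast at h6 ⊢
        rw [h6]
        refine mul_right_cancel₀ h4.ne' ?_
        have h7 : ∀ a b c : ℚ, c ≠ 0 → (a - b / c) * c = a * c - b := fun a b c hc => by field_simp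
        rw [mul_assoc _ _ (ev (x : ℚ) ((Fu.C i).nu (Fu.Da.t.cls Fu.Da.t.o))), mul_assoc ((x : ℚ) - 1),
          mul_assoc _ _ (ev (x : ℚ) ((Fu.C i).nu (Fu.Da.t.cls Fu.Da.t.o))), h7 _ _ _ h4.ne']
        linear_combination ((x : ℚ) - 1) * h3
    · intro k hk
      have h1 := (H329.PQ.trace_test hl F.mf S hS).1 k (by
        have h2 : ((l ^ k : ℕ) : ℤ) ∣ ((Nat.card (Y ⧸ PJ cs h T X {i | i ≠ j}) : ℕ) : ℤ) := by
          rw [hNZ]
          push_cast
          exact hk
        exact Int.natCast_dvd_natCast.1 h2)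
      have h3 : ∀ i, charDegree (F.irr i : Y → ℂ) = Fu.P.deg x i := fun i => F.charDegree_irr i
      simp only [h3] at h1
      have h4 := Int.natCast_dvd_natCast.2 h1
      push_cast at h4
      exact h4
    · intro hk
      have h1 := (H329.PQ.trace_test hl F.mf S hS).2 (by
        intro h2
        apply hk
        rw [← hNZ]
        exact Int.natCast_dvd_natCast.2 h2)
      have h3 : ∀ i, charDegree (F.irr i : Y → ℂ) = Fu.P.deg x i := fun i => F.charDegree_irr i
      simp only [h3] at h1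
      intro h4
      apply h1
      have h5 : (l : ℤ) ∣ ((∑ i ∈ S, Fu.P.deg x i : ℕ) : ℤ) := by
        push_cast
        exact h4
      exact Int.natCast_dvd_natCast.1 h5
    · intro c
      obtain ⟨s, hs⟩ := Fu.exists_state hx c
      obtain ⟨u, v, h1, h2⟩ := F.co hl S hS (fun ψ hψ g => H77.ClassSet.sum_coset_eq_zero _ F.mf hψ g) s
      refine ⟨u, v, h1, ?_⟩
      rw [← hNN, ← h2, hs]
  refine ⟨Finset.univ.filter fun i => F.irr i ∈ B0 p' Y, ?_, key p' hp _ fun i => ?_, key l' hl _ fun i => ?_⟩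
  · rw [Finset.mem_filter]
    exact ⟨Finset.mem_univ _, hone p' hp⟩
  · rw [Finset.mem_filter]
    exact ⟨fun h => h.2, fun h => ⟨Finset.mem_univ _, h⟩⟩
  · rw [Finset.mem_filter, hS]
    exact ⟨fun h => h.2, fun h => ⟨Finset.mem_univ _, h⟩⟩

end Group

end Full

end Cfsg.Agent.H996.PQ
end

private theorem dce_7ef63594333a : _root_.True := by
  try have : _root_.True := by simp only [_root_.Cfsg.Agent.H996.PQ.Pol.sph.eq_1]
  try have : _root_.True := by simp only [_root_.Cfsg.Agent.H996.PQ.Fam.irr.congr_simp]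
  try have : _root_.True := by simp only [_root_.Cfsg.Agent.H996.PQ.RTab.par.congr_simp]
  try have : _root_.True := by simp only [_root_.Cfsg.Agent.H996.PQ.RTab.word.congr_simp]
  try have : _root_.True := by simp only [_root_.Cfsg.Agent.H967.Sph.wOf.congr_simp]
  try have : _root_.True := by simp only [_root_.Cfsg.Agent.H996.PQ.RTab.word.eq_1]
  try have : _root_.True := by simp only [_root_.Cfsg.Agent.H996.PQ.RTab.st.congr_simp]
  try have : _root_.True := by simp only [_root_.Cfsg.Agent.H996.PQ.RTab.word.eq_2]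
  try have : _root_.True := by simp only [_root_.Cfsg.Agent.H996.PQ.Pol.deg.eq_1]
  try have : _root_.True := by simp only [_root_.Cfsg.Agent.H996.PQ.RTab.good.eq_1]
  try have : _root_.True := by simp only [_root_.Cfsg.Agent.H996.PQ.RTab.isS.eq_1]
  try have : _root_.True := by simp only [_root_.Cfsg.Agent.H996.PQ.RTab.word.eq_def]
  try have : _root_.True := by simp only [_root_.Cfsg.Agent.H996.PQ.RTab.sim.congr_simp]
  try have : _root_.True := by simp only [_root_.Cfsg.Agent.H996.PQ.rclL.eq_1]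
  try have : _root_.True := by simp only [_root_.Cfsg.Agent.H996.PQ.RTab.pair.eq_1]
  try have : _root_.True := by simp only [_root_.Cfsg.Agent.H996.PQ.rcl.eq_1]
  exact _root_.True.intro
end

-- part: H996/PQ/Rows
section
set_option linter.all false
open scoped Cfsg.Agent.FastGrp

/-!
# The separation theorem for the split groups (helper996, for S4612)
-/

set_option autoImplicit false

namespace Cfsg.Agent.H996.PQ

open Cfsg Cfsg.Agent.H967.Sph Cfsg.Agent.H317.PQ Cfsg.Agent.H64.Dl.Sph Cfsg.Agent.H996.Eight.Cert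
open CoxeterSystem Cfsg.Agent.ChevalleyStructure.CoxeterGeom Cfsg.Agent.Tits.Roots Cfsg.Agent.Tits.Core
  Cfsg.Agent.Nodes.Reps Cfsg.Agent.Nodes.BNOf Cfsg.Agent.Nodes.Bruhat Cfsg.Agent.Nodes.LeviDec
open Cfsg.Lie Cfsg.Agent.ChevalleyStructure Cfsg.Agent.ChevalleyStructure.CoxeterGeomTypes Cfsg.Agent.Nodes.RGDChev
  Cfsg.Agent.H35.ExcIdx

universe u

/-- the number of points from a table -/
theorem card_quot_data {I W : Type*} {Y : Type u} [Fintype I] [DecidableEq I] [Group W] [Finite W] [Group Y] [Finite Y]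
    {M : CoxeterMatrix I} {cs : CoxeterSystem M W} {A : I → I → ℤ} {h : IsCartan M A} {p : ℕ} {T : Subgroup Y}
    {n : I → Y} {X : (I → ℤ) → Subgroup Y} (R : RGD cs h p T n X) (hG : GG cs h T X = ⊤) {j : I} {N m : ℕ}
    (Da : Data A j N m) {x : ℕ} (hq : ∀ i, Nat.card (X (sr i)) = x ^ Da.e i) {NL : List ℤ}
    (h : pEq (pSum Da.kk) NL = true) :
    (Nat.card (Y ⧸ PJ cs ‹IsCartan M A› T X {i | i ≠ j}) : ℚ) = ev x NL := by
  rw [card_quot R hG Da.t (fun i => x ^ Da.e i) hq (fun s => x ^ Da.wl s)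
      (by simp only [Da.wo, pow_zero])
      (fun i s h9 => by
        show x ^ Da.wl (Da.t.st i s) = x ^ Da.e i * x ^ Da.wl s
        rw [Da.ws i s h9, pow_add]), ← sum_wl Da x, ev_of_pEq (x : ℚ) h]

instance instNz {l : ℕ} [NeZero l] {A : Fin l → Fin l → ℤ} {j : Fin l} {N m : ℕ} {α₀ : Fin l → ℤ}
    (Fu : Full A j N m α₀) : NeZero Fu.nr := Fu.nz

/-- the order of the highest root group -/
theorem card_top {l : ℕ} [NeZero l] {W : Type*} {Y : Type u} [Group W] [Group Y] {M : CoxeterMatrix (Fin l)}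
    {cs : CoxeterSystem M W} {A A' : Fin l → Fin l → ℤ} {h : IsCartan M A} {p : ℕ} {T : Subgroup Y} {n : Fin l → Y}
    {X : (Fin l → ℤ) → Subgroup Y} (R : RGD cs h p T n X) (hA : A = A') {j : Fin l} {N m : ℕ} {α₀ : Fin l → ℤ}
    (Fu : Full A' j N m α₀) {x : ℕ} (hq : ∀ i, Nat.card (X (sr i)) = x ^ Fu.Da.e i)
    (hw : ∀ r, (∀ k, Fu.Z.vec r k = α₀ k) → ∃ w i, Fu.Z.word 64 r = some (w, i) ∧ Fu.Da.e i = 1) :
    Nat.card (X α₀) = x := by
  subst hA
  obtain ⟨r, hr⟩ := Fu.hZ.top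
  obtain ⟨w, i, h1, h2⟩ := hw r hr
  have h3 := RTab.word_spec cs h Fu.hZ _ _ _ _ h1
  have h4 : α₀ = rep cs h (cs.wordProd w) (sr i) := by
    rw [← h3]
    exact (funext hr).symm
  obtain ⟨k, hk⟩ := exists_rp cs R.nsys (cs.wordProd w)
  have h5 := R.conj_rp hk (isRoot_sr cs h i)
  have h6 : Nat.card (cj k (X (sr i))) = Nat.card (X (sr i)) :=
    (Nat.card_congr (Subgroup.equivMapOfInjective _ _ (MulAut.conj k).injective).toEquiv).symm
  rw [h4, ← h5, h6, hq, h2, pow_one]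

/-- integrality of the degrees -/
theorem Full.degZ {l : ℕ} [NeZero l] {A : Fin l → Fin l → ℤ} {j : Fin l} {N m : ℕ} {α₀ : Fin l → ℤ}
    (Fu : Full A j N m α₀) {x : ℕ} (hx : 2 ≤ x) (i : Fin m) :
    (Fu.P.den i : ℤ) * (Fu.P.deg x i : ℤ) = evZ x (Fu.P.dn i) := by
  have h1 := Fu.deg_spec hx i
  have h2 := evZ_cast (x : ℤ) (Fu.C i).dn
  push_cast at h2
  rw [← h2] at h1
  rw [Fu.hP.1, Fu.hP.2.1]
  exact_mod_cast h1

/-- the theorem for an equal Cartan matrix -/
theorem sep_of {l : ℕ} [NeZero l] {W : Type*} {Y : Type u} [Group W] [Finite W] [Group Y] [Finite Y]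
    {M : CoxeterMatrix (Fin l)} {cs : CoxeterSystem M W} {A A' : Fin l → Fin l → ℤ} {h : IsCartan M A} {p : ℕ}
    {T : Subgroup Y} {n : Fin l → Y} {X : (Fin l → ℤ) → Subgroup Y} (R : RGD cs h p T n X) (hG : GG cs h T X = ⊤)
    (hA : A = A') {j : Fin l} {N m : ℕ} {α₀ : Fin l → ℤ} (Fu : Full A' j N m α₀) {x : ℕ} (hx : 2 ≤ x)
    (hq : ∀ i, Nat.card (X (sr i)) = x ^ Fu.Da.e i) (hcen : Cen cs h X α₀) {j₀ : Fin l} {D : Fin l → ℤ}
    (hi : Hi A j₀ α₀ D) (hr : IsRoot cs h α₀) (hX0 : Nat.card (X α₀) = x) {N' m' : ℕ} (Da' : Data A' j₀ N' m')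
    (hq' : ∀ i, Nat.card (X (sr i)) = x ^ Da'.e i) (hNL : pEq (pSum Da'.kk) Fu.NL = true)
    {p' l' : ℕ} (hp : p'.Prime) (hl : l'.Prime) (hS : Same p' l' Y) : Sep Fu.P x p' l' Fu.i₀ := by
  subst hA
  exact Fu.sep R hG hx hq hcen hi hr hX0 (card_quot_data R hG Da' hq' hNL) hp hl hS

instance finite_group (D : ChevalleyDatum) (K : Type*) [Field K] [Finite K] : Finite ↥(D.group K) := by
  have : Finite (GL D.Idx K) := by
    have : Finite (Matrix D.Idx D.Idx K) := inferInstance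
    infer_instance
  infer_instance

/-- **split groups** -/
theorem split_sep {D : ChevalleyDatum} {l : ℕ} [NeZero l] {M : CoxeterMatrix (Fin l)} (hp : IsType D l M) (K : Type u)
    [Field K] [Fintype K] {A' : Fin l → Fin l → ℤ} (hA : cartanOf D l = A') {j : Fin l} {N m : ℕ}
    {α₀ : Fin l → ℤ} (Fu : Full A' j N m α₀) (he : ∀ i, Fu.Da.e i = 1) {j₀ : Fin l}
    (hi : ∃ (s : ℕ) (Dl : Fin l → ℤ), s < D.nroots ∧
      (∀ r < D.nroots, r ≠ s → (∀ i, 0 ≤ vec D l r i) → D.commTerms r s = []) ∧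
      vec D l s = α₀ ∧ Hi (cartanOf D l) j₀ (vec D l s) Dl)
    {N' m' : ℕ} (Da' : Data A' j₀ N' m') (he' : ∀ i, Da'.e i = 1) (hNL : pEq (pSum Da'.kk) Fu.NL = true)
    {p' l' : ℕ} (hp' : p'.Prime) (hl' : l'.Prime) (hS : Same p' l' ↥(D.group K)) :
    Sep Fu.P (Fintype.card K) p' l' Fu.i₀ := by
  obtain ⟨r, hr⟩ := CharP.exists K
  have : Fact r.Prime := ⟨CharP.char_is_prime K r⟩
  have := finite_W hp M.toCoxeterSystem
  have := finite_group D K
  obtain ⟨s, Dl, hs, hc, rfl, hH⟩ := hi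
  have hroot := isRoot_vec hp M.toCoxeterSystem hs
  refine sep_of (rgd (K := K) hp M.toCoxeterSystem r) (GG_eq_top hp K M.toCoxeterSystem) hA Fu
    Fintype.one_lt_card (fun i => ?_)
    (H241.PQ.cen_split hp K M.toCoxeterSystem hs hc hH.nonneg) hH hroot ?_ Da' (fun i => ?_) hNL hp' hl' hS
  · rw [card_XX hp K M.toCoxeterSystem (isRoot_sr _ _ i), he, pow_one, Nat.card_eq_fintype_card]
  · rw [card_XX hp K M.toCoxeterSystem hroot, Nat.card_eq_fintype_card]
  · rw [card_XX hp K M.toCoxeterSystem (isRoot_sr _ _ i), he', pow_one, Nat.card_eq_fintype_card]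

end Cfsg.Agent.H996.PQ
end

-- part: H996/PQ/BigSum
section
prune_inst 0x2310041413440020000040002022062a57d0001b000230800b006044009073b028040874046801c00100e12811801000000000040400000000a0034000003002088a844002300a20cee001f802182390c0000000000000000000080000004100400c010000
set_option linter.all false
open scoped Cfsg.Agent.FastGrp

-- part: H996/PQ/Big
section
/-!
# Large tables (helper996, for S4612)

Tables with thousands of states: all tests are tests of digits of a few large numbers (`Nat`), the paths exist by a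
maximality argument, the sums of powers of `x` over the states come from one number (`blk_spec`).
-/

set_option autoImplicit false
set_option linter.unusedSectionVars false
set_option linter.unusedVariables false

namespace Cfsg.Agent.H996.PQ.Big

open Cfsg.Agent.H967.Sph Cfsg.Agent.H64.Dl.Sph Cfsg.Agent.H996.Eight.Cert Cfsg.Agent.H996.Eight.En

/-! ### loops -/

/-- all `k < n` -/
noncomputable def allN (n : ℕ) (f : ℕ → Bool) : Bool := Nat.rec true (fun k ih => and (f k) ih) n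

theorem allN_spec {n : ℕ} {f : ℕ → Bool} (h : allN n f = true) : ∀ k < n, f k = true := by
  induction n with
  | zero => intro k hk; omega
  | succ n ih =>
    have h1 : and (f n) (allN n f) = true := h
    rw [Bool.and_eq_true] at h1
    intro k hk
    rcases Nat.lt_succ_iff_lt_or_eq.1 hk with h2 | rfl
    · exact ih h1.2 k h2
    · exact h1.1

/-- some `k < n` -/
noncomputable def anyN (n : ℕ) (f : ℕ → Bool) : Bool := Nat.rec false (fun k ih => or (f k) ih) n

theorem anyN_spec {n : ℕ} {f : ℕ → Bool} (h : anyN n f = true) : ∃ k < n, f k = true := by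
  induction n with
  | zero => exact absurd h (by simp [anyN])
  | succ n ih =>
    have h1 : or (f n) (anyN n f) = true := h
    rw [Bool.or_eq_true] at h1
    rcases h1 with h2 | h2
    · exact ⟨n, Nat.lt_succ_self n, h2⟩
    · obtain ⟨k, hk, h3⟩ := ih h2
      exact ⟨k, Nat.lt_succ_of_lt hk, h3⟩

/-- the sum over `lo ≤ a < lo + 2 ^ d` -/
noncomputable def sumT (d : ℕ) : (ℕ → ℕ) → ℕ → ℕ :=
  Nat.rec (fun f lo => f lo) (fun k ih f lo => Nat.add (ih f lo) (ih f (Nat.add lo (Nat.shiftLeft 1 k)))) d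

theorem sumT_spec (d : ℕ) (f : ℕ → ℕ) : ∀ lo, sumT d f lo = ∑ a ∈ Finset.range (2 ^ d), f (lo + a) := by
  induction d with
  | zero =>
    intro lo
    show f lo = _
    simp
  | succ d ih =>
    intro lo
    have h1 : sumT (d + 1) f lo = sumT d f lo + sumT d f (lo + Nat.shiftLeft 1 d) := rfl
    have h2 : Nat.shiftLeft 1 d = 2 ^ d := by
      show 1 <<< d = 2 ^ d
      rw [Nat.shiftLeft_eq, one_mul]
    rw [h1, ih, ih, h2, pow_succ, mul_two, Finset.sum_range_add]
    simp only [add_assoc]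

/-! ### digits -/

/-- `k`-th digit of 4 bits -/
def dg (k e : ℕ) : ℕ := Nat.land (Nat.shiftRight e (Nat.mul 4 k)) 15

theorem dg_eq (k e : ℕ) : dg k e = e / 16 ^ k % 16 := by
  have h1 : dg k e = (e >>> (4 * k)) &&& (2 ^ 4 - 1) := rfl
  rw [h1, Nat.and_two_pow_sub_one_eq_mod, Nat.shiftRight_eq_div_pow, pow_mul]
  norm_num

/-- the lowest `l` digits -/
def code (l e : ℕ) : ℕ := Nat.land e (Nat.sub (Nat.shiftLeft 1 (Nat.mul 4 l)) 1)

theorem code_eq (l e : ℕ) : code l e = e % 16 ^ l := by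
  have h1 : code l e = e &&& (1 <<< (4 * l) - 1) := rfl
  rw [h1, Nat.shiftLeft_eq, one_mul, Nat.and_two_pow_sub_one_eq_mod, pow_mul]
  norm_num

theorem code_sum (l e : ℕ) : code l e = ∑ k : Fin l, dg k e * 16 ^ (k : ℕ) := by
  rw [code_eq]
  induction l with
  | zero => simp [Nat.mod_one]
  | succ l ih =>
    rw [Fin.sum_univ_castSucc]
    simp only [Fin.val_castSucc, Fin.val_last]
    rw [← ih, dg_eq, pow_succ, Nat.mod_mul]
    ring

theorem unique_digits : ∀ {l : ℕ} {d : Fin l → ℤ}, (∀ k, |d k| ≤ 15) → ∑ k, d k * 16 ^ (k : ℕ) = 0 → ∀ k, d k = 0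
  | 0, _, _, _, k => k.elim0
  | l + 1, d, hd, h, k => by
    rw [Fin.sum_univ_succ] at h
    have h1 : ∑ i : Fin l, d i.succ * 16 ^ ((i.succ : Fin (l + 1)) : ℕ) = 16 * ∑ i : Fin l, d i.succ * 16 ^ (i : ℕ) := by
      rw [Finset.mul_sum]
      refine Finset.sum_congr rfl fun i _ => ?_
      rw [Fin.val_succ, pow_succ]
      ring
    rw [h1, Fin.val_zero, pow_zero, mul_one] at h
    have h2 := hd 0
    rw [abs_le] at h2
    have h3 : d 0 = 0 := by omega
    have h4 : ∑ i : Fin l, d i.succ * 16 ^ (i : ℕ) = 0 := by omega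
    have h5 := unique_digits (fun i => hd i.succ) h4
    refine Fin.cases h3 (fun i => h5 i) k

/-! ### the table -/

/-- the code of the positive part of a row -/
def pcode {l : ℕ} (v : Fin l → ℤ) : ℕ := (List.finRange l).foldr (fun k a => (v k).toNat * 16 ^ (k : ℕ) + a) 0

theorem pcode_eq {l : ℕ} (v : Fin l → ℤ) : pcode v = ∑ k, (v k).toNat * 16 ^ (k : ℕ) := by
  have key : ∀ L : List (Fin l), L.foldr (fun k a => (v k).toNat * 16 ^ (k : ℕ) + a) 0 =
      (L.map fun k => (v k).toNat * 16 ^ (k : ℕ)).sum := by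
    intro L
    induction L with
    | nil => rfl
    | cons k L ih => rw [List.foldr_cons, List.map_cons, List.sum_cons, ih]
  rw [pcode, key, ← List.sum_ofFn, List.ofFn_eq_map]

/-- a large table: entries of 48 bits (code: `4 * l` bits, `wl`: 8 bits, class), images under the reflections (`w`
bits), representatives of the classes -/
structure Bg (l N m : ℕ) where
  V : ℕ
  S : ℕ
  w : ℕ
  R : ℕ
  o : ℕ
  cK : Fin l → ℤ

namespace Bg

variable {l N m : ℕ} [NeZero l] [NeZero N] [NeZero m] (B : Bg l N m)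

/-- the entry -/
def ent (s : ℕ) : ℕ := dig 48 B.V s

/-- the weight of an entry -/
def wlf (l e : ℕ) : ℕ := Nat.land (Nat.shiftRight e (Nat.mul 4 l)) 255

/-- the class of an entry -/
def clf (l e : ℕ) : ℕ := Nat.shiftRight e (Nat.add (Nat.mul 4 l) 8)

def stN (i s : ℕ) : ℕ := dig B.w B.S (Nat.add (Nat.mul l s) i)

def vec (s : Fin N) (i : Fin l) : ℤ := Int.subNatNat (dg i (B.ent s)) 8

def st (i : Fin l) (s : Fin N) : Fin N := Fin.ofNat N (B.stN i s)

def cls (s : Fin N) : Fin m := Fin.ofNat m (clf l (B.ent s))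

def wl (s : Fin N) : ℕ := wlf l (B.ent s)

/-- the test of `vec_st` and of the weights -/
noncomputable def cS (i p n ei a : ℕ) : Bool :=
  (fun b ea => (fun eb u => and (Nat.ble (Nat.succ b) N)
    (and (Nat.beq (Nat.add (Nat.add (code l eb) (Nat.mul u p)) (Nat.mul 8 n))
      (Nat.add (Nat.add (code l ea) (Nat.mul 8 p)) (Nat.mul u n)))
      (or (Nat.ble u 8) (Nat.beq (wlf l eb) (Nat.add ei (wlf l ea)))))) (B.ent b) (dg i ea)) (B.stN i a) (B.ent a)

/-- the test of the classes -/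
noncomputable def cC (i a : ℕ) : Bool := Nat.beq (clf l (B.ent (B.stN i a))) (clf l (B.ent a))

/-- all reflections -/
noncomputable def cSa (i p n ei : ℕ) : Bool := allN N fun a => B.cS i p n ei a

noncomputable def cCa (i : ℕ) : Bool := allN N fun a => B.cC i a

/-- the digits are between `5` and `11`, the classes are less than `m` -/
noncomputable def cD : Bool := allN N fun a => and (Nat.ble (Nat.succ (clf l (B.ent a))) m)
  (allN l fun k => and (Nat.ble 5 (dg k (B.ent a))) (Nat.ble (dg k (B.ent a)) 11))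

/-- the codes increase -/
noncomputable def cI : Bool := allN (Nat.sub N 1) fun a =>
  Nat.ble (Nat.succ (code l (B.ent a))) (code l (B.ent (Nat.succ a)))

/-- the dominant state -/
noncomputable def cR : Bool := allN N fun a => or (Nat.beq a B.o) (anyN l fun i => Nat.ble (dg i (B.ent a)) 7)

/-- the representative of a class -/
def rp (c : ℕ) : ℕ := dig B.w B.R c

/-- the dominant states of the classes -/
noncomputable def cQ (j : ℕ) : Bool := allN N fun a => or (Nat.beq a (B.rp (clf l (B.ent a))))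
  (anyN l fun i => and (not (Nat.beq i j)) (Nat.ble (dg i (B.ent a)) 7))

/-- **The tests.** -/
structure Ok (A : Fin l → Fin l → ℤ) (j : Fin l) (e : Fin l → ℕ) : Prop where
  hA : ∀ i k, |A i k| ≤ 3
  hc : ∀ i, 0 < ∑ k, A i k * B.cK k
  ho : B.o < N
  hv : ∀ k : Fin l, B.vec (Fin.ofNat N B.o) k = if k = j then 1 else 0
  hw : B.wl (Fin.ofNat N B.o) = 0
  hS : ∀ i : Fin l, ∃ p n, p = pcode (fun k => A i k) ∧ n = pcode (fun k => - A i k) ∧ B.cSa i p n (e i) = true
  hC : ∀ i : Fin l, i ≠ j → B.cCa i = true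
  hD : B.cD = true
  hI : B.cI = true
  hR : B.cR = true
  hQ : B.cQ j = true

variable {B} {A : Fin l → Fin l → ℤ} {j : Fin l} {e : Fin l → ℕ} (h : B.Ok A j e)

include h

theorem Ok.clf_lt (s : Fin N) : clf l (B.ent s) < m := by
  have h1 := allN_spec h.hD s s.2
  rw [Bool.and_eq_true] at h1
  exact Nat.le_of_ble_eq_true h1.1

theorem Ok.dg_mem (s : Fin N) (k : Fin l) : 5 ≤ dg k (B.ent s) ∧ dg k (B.ent s) ≤ 11 := by
  have h1 := allN_spec h.hD s s.2
  rw [Bool.and_eq_true] at h1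
  have h2 := allN_spec h1.2 k k.2
  rw [Bool.and_eq_true] at h2
  exact ⟨Nat.le_of_ble_eq_true h2.1, Nat.le_of_ble_eq_true h2.2⟩

omit h in
theorem vec_eq (s : Fin N) (i : Fin l) : B.vec s i = (dg i (B.ent s) : ℤ) - 8 := by
  rw [vec, Int.subNatNat_eq_coe]
  rfl

theorem Ok.st_val (i : Fin l) (s : Fin N) : (B.st i s : ℕ) = B.stN i s := by
  obtain ⟨p, n, -, -, h1⟩ := h.hS i
  have h2 := allN_spec h1 s s.2
  rw [cS, Bool.and_eq_true] at h2
  have h3 : B.stN i s < N := Nat.le_of_ble_eq_true h2.1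
  rw [st, Fin.val_ofNat, Nat.mod_eq_of_lt h3]

theorem Ok.vec_st (i : Fin l) (s : Fin N) (k : Fin l) : B.vec (B.st i s) k = B.vec s k - A i k * B.vec s i := by
  obtain ⟨p, n, hp, hn, h1⟩ := h.hS i
  have h2 := allN_spec h1 s s.2
  rw [cS, Bool.and_eq_true, Bool.and_eq_true] at h2
  have h3 : code l (B.ent (B.stN i s)) + dg i (B.ent s) * p + 8 * n =
      code l (B.ent s) + 8 * p + dg i (B.ent s) * n := Nat.eq_of_beq_eq_true h2.2.1
  rw [← h.st_val, hp, hn, pcode_eq, pcode_eq, code_sum, code_sum, Finset.mul_sum, Finset.mul_sum, Finset.mul_sum,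
    Finset.mul_sum, ← Finset.sum_add_distrib, ← Finset.sum_add_distrib, ← Finset.sum_add_distrib,
    ← Finset.sum_add_distrib] at h3
  have h4 : ∑ k : Fin l, ((dg k (B.ent (B.st i s)) : ℤ) - dg k (B.ent s) + A i k * (dg i (B.ent s) - 8)) *
      16 ^ (k : ℕ) = 0 := by
    have h5 := congrArg (fun z : ℕ => (z : ℤ)) h3
    push_cast at h5
    rw [← sub_eq_zero, ← Finset.sum_sub_distrib] at h5
    rw [← h5]
    refine Finset.sum_congr rfl fun k _ => ?_
    have h6 : A i k = ((A i k).toNat : ℤ) - ((-A i k).toNat : ℤ) := (Int.toNat_sub_toNat_neg _).symm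
    generalize ((A i k).toNat : ℤ) = P at *
    generalize ((-A i k).toNat : ℤ) = Q at *
    rw [h6]
    ring
  have h5 := unique_digits (fun k => by
    have a1 := h.dg_mem (B.st i s) k
    have a2 := h.dg_mem s k
    have a3 := h.dg_mem s i
    have a4 := h.hA i k
    have a5 : |A i k * ((dg i (B.ent s) : ℤ) - 8)| ≤ 9 := by
      rw [abs_mul]
      have a6 : |((dg i (B.ent s) : ℤ) - 8)| ≤ 3 := by
        rw [abs_le]
        omega
      calc |A i k| * |((dg i (B.ent s) : ℤ) - 8)| ≤ 3 * 3 := mul_le_mul a4 a6 (abs_nonneg _) (by norm_num)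
        _ = 9 := by norm_num
    rw [abs_le] at a5 ⊢
    generalize A i k * ((dg i (B.ent s) : ℤ) - 8) = z at *
    omega) h4 k
  rw [vec_eq, vec_eq, vec_eq]
  linear_combination h5

theorem Ok.wl_st (i : Fin l) (s : Fin N) (hs : 0 < B.vec s i) : B.wl (B.st i s) = e i + B.wl s := by
  obtain ⟨p, n, -, -, h1⟩ := h.hS i
  have h2 := allN_spec h1 s s.2
  rw [cS, Bool.and_eq_true, Bool.and_eq_true, Bool.or_eq_true] at h2
  rcases h2.2.2 with h3 | h3
  · exfalso
    have h4 := Nat.le_of_ble_eq_true h3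
    rw [vec_eq] at hs
    omega
  · have h4 : wlf l (B.ent (B.stN i s)) = e i + wlf l (B.ent s) := Nat.eq_of_beq_eq_true h3
    rw [wl, wl, h.st_val, h4]

theorem Ok.clf_st (i : Fin l) (hi : i ≠ j) (s : Fin N) : clf l (B.ent (B.st i s)) = clf l (B.ent s) := by
  have h1 := allN_spec (h.hC i hi) s s.2
  rw [h.st_val]
  exact Nat.eq_of_beq_eq_true h1

theorem Ok.code_lt {a b : ℕ} (hab : a < b) (hb : b < N) : code l (B.ent a) < code l (B.ent b) := by
  induction b with
  | zero => omega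
  | succ b ih =>
    have h1 : code l (B.ent b) < code l (B.ent (b + 1)) :=
      Nat.le_of_ble_eq_true (allN_spec h.hI b (by show b < N - 1; omega))
    rcases Nat.lt_succ_iff_lt_or_eq.1 hab with h2 | rfl
    · exact (ih h2 (by omega)).trans h1
    · exact h1

theorem Ok.vec_inj (a b : Fin N) (hab : B.vec a = B.vec b) : a = b := by
  have h1 : code l (B.ent a) = code l (B.ent b) := by
    rw [code_sum, code_sum]
    refine Finset.sum_congr rfl fun k _ => ?_
    have h2 := congrFun hab k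
    rw [vec_eq, vec_eq] at h2
    have h3 : dg k (B.ent a) = dg k (B.ent b) := by omega
    rw [h3]
  rcases lt_trichotomy (a : ℕ) b with h2 | h2 | h2
  · exact absurd h1 (h.code_lt h2 b.2).ne
  · exact Fin.ext h2
  · exact absurd h1.symm (h.code_lt h2 a.2).ne

theorem Ok.st_st (hA2 : ∀ i, A i i = 2) (i : Fin l) (s : Fin N) : B.st i (B.st i s) = s := by
  refine h.vec_inj _ _ (funext fun k => ?_)
  rw [h.vec_st, h.vec_st, h.vec_st, hA2]
  ring

end Bg

/-- reachability by maximality -/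
theorem reach {l N : ℕ} (st : Fin l → Fin N → Fin N) (ht : Fin N → ℤ) (P : Fin l → Prop) (rep : Fin N → Fin N)
    (hinv : ∀ i a, st i (st i a) = a) (hrep : ∀ i a, P i → rep (st i a) = rep a)
    (h : ∀ a, a = rep a ∨ ∃ i, P i ∧ ht a < ht (st i a)) (a : Fin N) :
    ∃ w : List (Fin l), (∀ i ∈ w, P i) ∧ w.foldl (fun b i => st i b) (rep a) = a := by
  classical
  by_contra hcon
  obtain ⟨b, hb, hmax⟩ := Finset.exists_max_image (Finset.univ.filter fun a : Fin N =>
    ¬ ∃ w : List (Fin l), (∀ i ∈ w, P i) ∧ w.foldl (fun b i => st i b) (rep a) = a) ht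
    ⟨a, Finset.mem_filter.2 ⟨Finset.mem_univ _, hcon⟩⟩
  have hb' := (Finset.mem_filter.1 hb).2
  apply hb'
  rcases h b with h1 | ⟨i, hi, h1⟩
  · exact ⟨[], by simp, h1.symm⟩
  · have h2 : ∃ w : List (Fin l), (∀ i ∈ w, P i) ∧ w.foldl (fun b i => st i b) (rep (st i b)) = st i b := by
      by_contra hc
      exact absurd h1 (not_lt.2 (hmax _ (Finset.mem_filter.2 ⟨Finset.mem_univ _, hc⟩)))
    obtain ⟨w, hw, h3⟩ := h2
    refine ⟨w ++ [i], ?_, ?_⟩
    · intro k hk
      rcases List.mem_append.1 hk with h4 | h4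
      · exact hw k h4
      · rw [List.mem_singleton.1 h4]; exact hi
    · rw [hrep i b hi] at h3
      rw [List.foldl_append, h3, List.foldl_cons, List.foldl_nil, hinv]

namespace Bg

variable {l N m : ℕ} [NeZero l] [NeZero N] [NeZero m] {B : Bg l N m} {A : Fin l → Fin l → ℤ} {j : Fin l}
  {e : Fin l → ℕ} (h : B.Ok A j e)

include h

theorem Ok.ht_lt (i : Fin l) (a : Fin N) (ha : B.vec a i < 0) :
    ∑ k, B.cK k * B.vec a k < ∑ k, B.cK k * B.vec (B.st i a) k := by
  rw [← sub_pos, ← Finset.sum_sub_distrib]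
  have h1 : ∀ k, B.cK k * B.vec (B.st i a) k - B.cK k * B.vec a k = (A i k * B.cK k) * (- B.vec a i) := by
    intro k
    rw [h.vec_st]
    ring
  rw [Finset.sum_congr rfl fun k _ => h1 k, ← Finset.sum_mul]
  exact mul_pos (h.hc i) (by linarith)

theorem Ok.path (hA2 : ∀ i, A i i = 2) (a : Fin N) :
    ∃ w : List (Fin l), w.foldl (fun b i => B.st i b) (Fin.ofNat N B.o) = a := by
  obtain ⟨w, -, hw⟩ := reach B.st (fun a => ∑ k, B.cK k * B.vec a k) (fun _ => True) (fun _ => Fin.ofNat N B.o)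
    (h.st_st hA2) (fun _ _ _ => rfl) (fun a => by
      have h1 := allN_spec h.hR a a.2
      rw [Bool.or_eq_true] at h1
      rcases h1 with h2 | h2
      · left
        apply Fin.ext
        rw [Fin.val_ofNat, Nat.mod_eq_of_lt h.ho]
        exact Nat.eq_of_beq_eq_true h2
      · right
        obtain ⟨i, hi, h3⟩ := anyN_spec h2
        refine ⟨⟨i, hi⟩, trivial, h.ht_lt _ _ ?_⟩
        have h4 := Nat.le_of_ble_eq_true h3
        rw [vec_eq]
        show ((dg i (B.ent a) : ℕ) : ℤ) - 8 < 0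
        omega) a
  exact ⟨w, hw⟩

theorem Ok.cpath (hA2 : ∀ i, A i i = 2) (a : Fin N) :
    ∃ w : List (Fin l), (∀ i ∈ w, i ≠ j) ∧
      w.foldl (fun b i => B.st i b) (Fin.ofNat N (B.rp (clf l (B.ent a)))) = a := by
  obtain ⟨w, h0, hw⟩ := reach B.st (fun a => ∑ k, B.cK k * B.vec a k) (fun i => i ≠ j)
    (fun a => Fin.ofNat N (B.rp (clf l (B.ent a))))
    (h.st_st hA2) (fun i a hi => by
      show Fin.ofNat N (B.rp (clf l (B.ent (B.st i a)))) = _
      rw [h.clf_st i hi]) (fun a => by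
      have h1 := allN_spec h.hQ a a.2
      rw [Bool.or_eq_true] at h1
      rcases h1 with h2 | h2
      · left
        apply Fin.ext
        have h3 : (a : ℕ) = B.rp (clf l (B.ent a)) := Nat.eq_of_beq_eq_true h2
        rw [Fin.val_ofNat, ← h3, Nat.mod_eq_of_lt a.2]
      · right
        obtain ⟨i, hi, h3⟩ := anyN_spec h2
        rw [Bool.and_eq_true] at h3
        refine ⟨⟨i, hi⟩, ?_, h.ht_lt _ _ ?_⟩
        · rintro rfl
          rw [show Nat.beq i i = true from Nat.beq_refl i] at h3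
          exact absurd h3.1 (by simp)
        · have h4 := Nat.le_of_ble_eq_true h3.2
          rw [vec_eq]
          show ((dg i (B.ent a) : ℕ) : ℤ) - 8 < 0
          omega) a
  exact ⟨w, h0, hw⟩

omit h in
/-- **The table.** -/
noncomputable def tab (B : Bg l N m) (A : Fin l → Fin l → ℤ) (j : Fin l) (e : Fin l → ℕ) (h : B.Ok A j e)
    (hA2 : ∀ i, A i i = 2) : Tab A j N m where
  vec := B.vec
  st := B.st
  cls := B.cls
  o := Fin.ofNat N B.o
  vec_o := by
    funext k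
    rw [h.hv, Pi.single_apply]
  vec_inj := h.vec_inj
  vec_st := h.vec_st
  path a := (h.path hA2 a).choose
  path_spec a := (h.path hA2 a).choose_spec
  cls_st i hi a := by
    rw [cls, cls, h.clf_st i hi]
  crep c := Fin.ofNat N (B.rp c)
  cpath a := (h.cpath hA2 a).choose
  cpath_ne a := (h.cpath hA2 a).choose_spec.1
  cpath_spec a := by
    have h1 : ((B.cls a : Fin m) : ℕ) = clf l (B.ent a) := by
      rw [cls, Fin.val_ofNat, Nat.mod_eq_of_lt (h.clf_lt a)]
    rw [h1]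
    exact (h.cpath hA2 a).choose_spec.2

end Bg

end Cfsg.Agent.H996.PQ.Big
end

-- part: H996/PQ/BigSum
section
/-!
# Large tables: sums of powers over the states (helper996, for S4612)

`digit_card`: the digits of `∑ 2 ^ (b * f s)` are the numbers of the `s` with a given value of `f`; `blk_spec`: the sums of
`x ^ wl s` over the blocks; `Bg.chkM`, `Bg.chkK`, `Bg.chkC`: the tests of `Data` and `Full`.
-/

set_option autoImplicit false
set_option linter.unusedSectionVars false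
set_option linter.unusedVariables false

namespace Cfsg.Agent.H996.PQ.Big

open Cfsg.Agent.H967.Sph Cfsg.Agent.H64.Dl.Sph Cfsg.Agent.H996.Eight.Cert Cfsg.Agent.H996.Eight.En

/-! ### polynomials -/

theorem evZ_eq_zero_of (a z : ℤ) (h : ∀ k : ℕ, 0 < k → ∃ r : ℤ, a + k * r = 0) : a = 0 := by
  obtain ⟨r, hr⟩ := h (a.natAbs + 1) (Nat.succ_pos _)
  by_contra ha
  have h1 : ((a.natAbs + 1 : ℕ) : ℤ) ∣ a := ⟨-r, by linarith⟩
  have h2 := Int.natAbs_dvd_natAbs.2 h1
  rw [Int.natAbs_natCast] at h2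
  have h3 := Nat.le_of_dvd (Int.natAbs_pos.2 ha) h2
  omega

theorem pZero_of_ev : ∀ (p : List ℤ), (∀ k : ℕ, 0 < k → evZ k p = 0) → pZero p = true
  | [], _ => rfl
  | a :: p, h => by
    have h1 : a = 0 := evZ_eq_zero_of a 0 fun k hk => ⟨evZ k p, h k hk⟩
    rw [pZero, Bool.and_eq_true, decide_eq_true_eq]
    refine ⟨h1, pZero_of_ev p fun k hk => ?_⟩
    have h2 : a + k * evZ k p = 0 := h k hk
    rw [h1, zero_add] at h2
    rcases mul_eq_zero.1 h2 with h3 | h3
    · exfalso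
      have : k = 0 := by exact_mod_cast h3
      omega
    · exact h3

theorem pEq_of_ev {p q : List ℤ} (h : ∀ k : ℕ, 0 < k → ev k p = ev k q) : pEq p q = true := by
  refine pZero_of_ev _ fun k hk => ?_
  have h1 := evZ_cast (k : ℤ) (pAdd p (pNeg q))
  push_cast at h1
  rw [ev_pAdd, ev_pNeg, h k hk, add_neg_cancel] at h1
  exact_mod_cast h1

/-! ### counting with digits -/

/-- the digits of a sum of powers are the cardinalities of the fibres -/
theorem digit_card {ι : Type*} (s : Finset ι) (f : ι → ℕ) (b : ℕ) (hb : s.card < 2 ^ b) (k : ℕ) :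
    (∑ i ∈ s, 2 ^ (b * f i)) / 2 ^ (b * k) % 2 ^ b = (s.filter fun i => f i = k).card := by
  classical
  have hB : 0 < 2 ^ b := Nat.two_pow_pos b
  have h0 : ∀ i, 2 ^ (b * f i) = (2 ^ b) ^ f i := fun i => by rw [pow_mul]
  simp only [pow_mul]
  generalize 2 ^ b = B at *
  have h1 : ∑ i ∈ s, B ^ f i = ∑ i ∈ s.filter (fun i => f i < k), B ^ f i +
      (B ^ k * (s.filter fun i => f i = k).card + ∑ i ∈ s.filter (fun i => k < f i), B ^ f i) := by
    have h2 : (s.filter fun i => f i = k).card * B ^ k = ∑ i ∈ s.filter (fun i => f i = k), B ^ f i := by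
      rw [Finset.sum_congr rfl (g := fun _ => B ^ k) (fun i hi => by rw [(Finset.mem_filter.1 hi).2]),
        Finset.sum_const, smul_eq_mul]
    rw [mul_comm, h2, ← Finset.sum_filter_add_sum_filter_not s (fun i => f i < k)]
    congr 1
    rw [← Finset.sum_filter_add_sum_filter_not (s.filter fun i => ¬ f i < k) (fun i => f i = k), Finset.filter_filter,
      Finset.filter_filter]
    congr 1
    · refine Finset.sum_congr ?_ fun _ _ => rfl
      ext i
      simp only [Finset.mem_filter]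
      constructor
      · rintro ⟨a1, -, a3⟩; exact ⟨a1, a3⟩
      · rintro ⟨a1, a3⟩; exact ⟨a1, by omega, a3⟩
    · refine Finset.sum_congr ?_ fun _ _ => rfl
      ext i
      simp only [Finset.mem_filter]
      constructor
      · rintro ⟨a1, a2, a3⟩; exact ⟨a1, by omega⟩
      · rintro ⟨a1, a3⟩; exact ⟨a1, by omega, by omega⟩
  have h2 : ∃ t, ∑ i ∈ s.filter (fun i => k < f i), B ^ f i = B ^ k * (B * t) := by
    have h3 : B ^ k * B ∣ ∑ i ∈ s.filter (fun i => k < f i), B ^ f i := by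
      refine Finset.dvd_sum fun i hi => ?_
      rw [← pow_succ]
      exact pow_dvd_pow _ (Finset.mem_filter.1 hi).2
    obtain ⟨t, ht⟩ := h3
    exact ⟨t, by rw [ht, mul_assoc]⟩
  obtain ⟨t, ht⟩ := h2
  have h3 : ∑ i ∈ s.filter (fun i => f i < k), B ^ f i < B ^ k := by
    rcases k with _ | k
    · rw [Finset.filter_false_of_mem (fun i _ => by omega), Finset.sum_empty, pow_zero]
      exact one_pos
    · have h4 : ∑ i ∈ s.filter (fun i => f i < k + 1), B ^ f i ≤ (s.filter (fun i => f i < k + 1)).card * B ^ k := by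
        rw [← smul_eq_mul]
        refine Finset.sum_le_card_nsmul _ _ _ fun i hi => ?_
        exact Nat.pow_le_pow_right hB (by have := (Finset.mem_filter.1 hi).2; omega)
      refine h4.trans_lt ?_
      rw [pow_succ, mul_comm]
      exact Nat.mul_lt_mul_of_pos_left ((Finset.card_filter_le _ _).trans_lt hb) (pow_pos hB k)
  rw [h1, ht, ← mul_add, Nat.add_mul_div_left _ _ (pow_pos hB k), Nat.div_eq_of_lt h3, zero_add, Nat.add_mul_mod_self_left,
    Nat.mod_eq_of_lt ((Finset.card_filter_le _ _).trans_lt hb)]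

/-- digits as a polynomial -/
def digL (b : ℕ) : ℕ → ℕ → List ℤ
  | 0, _ => []
  | n + 1, z => Int.ofNat (Nat.land z (Nat.sub (Nat.shiftLeft 1 b) 1)) :: digL b n (Nat.shiftRight z b)

theorem land_eq (z b : ℕ) : Nat.land z (Nat.sub (Nat.shiftLeft 1 b) 1) = z % 2 ^ b := by
  have h1 : Nat.land z (Nat.sub (Nat.shiftLeft 1 b) 1) = z &&& (1 <<< b - 1) := rfl
  rw [h1, Nat.shiftLeft_eq, one_mul, Nat.and_two_pow_sub_one_eq_mod]

theorem ev_digL (x : ℚ) (b : ℕ) : ∀ n z, ev x (digL b n z) = ∑ w ∈ Finset.range n, ((z / 2 ^ (b * w) % 2 ^ b : ℕ) : ℚ) * x ^ w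
  | 0, z => by simp [digL]
  | n + 1, z => by
    rw [digL, ev_cons, ev_digL x b n, Finset.sum_range_succ', land_eq, Finset.mul_sum, add_comm]
    have h2 : Nat.shiftRight z b = z / 2 ^ b := Nat.shiftRight_eq_div_pow z b
    rw [h2]
    congr 1
    · refine Finset.sum_congr rfl fun w _ => ?_
      rw [Nat.div_div_eq_div_mul, ← pow_add, show b + b * w = b * (w + 1) by ring, pow_succ]
      ring
    · rw [mul_zero, pow_zero, Nat.div_one, pow_zero, mul_one]
      rfl

/-- the block number `k` with `Λ` digits -/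
def blk (b Λ Z k : ℕ) : List ℤ :=
  digL b Λ (Nat.land (Nat.shiftRight Z (Nat.mul (Nat.mul b Λ) k)) (Nat.sub (Nat.shiftLeft 1 (Nat.mul b Λ)) 1))

theorem ev_blk (x : ℚ) (b Λ Z k : ℕ) : ev x (blk b Λ Z k) =
    ∑ w ∈ Finset.range Λ, ((Z / 2 ^ (b * (k * Λ + w)) % 2 ^ b : ℕ) : ℚ) * x ^ w := by
  rw [blk, ev_digL]
  refine Finset.sum_congr rfl fun w hw => ?_
  rw [Finset.mem_range] at hw
  have h2 : Nat.shiftRight Z (Nat.mul (Nat.mul b Λ) k) = Z / 2 ^ (b * Λ * k) := Nat.shiftRight_eq_div_pow Z _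
  have h3 : Nat.mul b Λ = b * Λ := rfl
  rw [land_eq, h2, h3]
  congr 2
  have h4 : 2 ^ (b * Λ) = 2 ^ (b * w) * 2 ^ (b * (Λ - w)) := by
    rw [← pow_add, ← mul_add]
    congr 2
    omega
  have h5 : 2 ^ b ∣ 2 ^ (b * (Λ - w)) := by
    refine pow_dvd_pow _ ?_
    exact Nat.le_mul_of_pos_right b (by omega)
  rw [h4, Nat.mod_mul_right_div_self, Nat.mod_mod_of_dvd _ h5, Nat.div_div_eq_div_mul, ← pow_add]
  congr 3
  ring

/-- **the sums over the blocks** -/
theorem blk_spec {N b Λ Z : ℕ} (hb : N < 2 ^ b) (bl wl : Fin N → ℕ) (hwl : ∀ s, wl s < Λ)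
    (hZ : ∑ s : Fin N, 2 ^ (b * (bl s * Λ + wl s)) = Z) (x : ℚ) (k : ℕ) :
    ∑ s, (if bl s = k then x ^ wl s else 0) = ev x (blk b Λ Z k) := by
  classical
  rw [ev_blk, ← hZ]
  have h1 : ∀ w ∈ Finset.range Λ, (((∑ s : Fin N, 2 ^ (b * (bl s * Λ + wl s))) / 2 ^ (b * (k * Λ + w)) % 2 ^ b : ℕ) : ℚ) *
      x ^ w = ∑ s : Fin N, if bl s = k ∧ wl s = w then x ^ w else 0 := by
    intro w hw
    rw [Finset.mem_range] at hw
    rw [digit_card Finset.univ (fun s => bl s * Λ + wl s) b (by rw [Finset.card_univ, Fintype.card_fin]; exact hb),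
      ← Finset.sum_filter, Finset.sum_const, nsmul_eq_mul]
    congr 3
    ext s
    simp only [Finset.mem_filter, Finset.mem_univ, true_and]
    have h2 := hwl s
    constructor
    · intro h3
      have h4 : bl s = k := by
        have h5 : (bl s * Λ + wl s) / Λ = (k * Λ + w) / Λ := by rw [h3]
        rwa [mul_comm, Nat.mul_add_div (by omega), Nat.div_eq_of_lt h2, add_zero, mul_comm, Nat.mul_add_div (by omega),
          Nat.div_eq_of_lt hw, add_zero] at h5
      subst h4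
      exact ⟨rfl, by omega⟩
    · rintro ⟨rfl, rfl⟩
      rfl
  rw [Finset.sum_congr rfl h1, Finset.sum_comm]
  refine Finset.sum_congr rfl fun s _ => ?_
  split_ifs with h2
  · rw [Finset.sum_eq_single (wl s)]
    · rw [if_pos ⟨h2, rfl⟩]
    · intro w _ hw
      rw [if_neg (fun h3 => hw h3.2.symm)]
    · intro h3
      exact absurd (Finset.mem_range.2 (hwl s)) h3
  · refine (Finset.sum_eq_zero fun w _ => ?_).symm
    rw [if_neg (fun h3 => h2 h3.1)]

/-- the test of the sum -/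
noncomputable def packT (b d Λ N : ℕ) (bl wl : ℕ → ℕ) : ℕ :=
  sumT d (fun a => bif Nat.ble (Nat.succ a) N then Nat.shiftLeft 1 (Nat.mul b (Nat.add (Nat.mul (bl a) Λ) (wl a))) else 0) 0

theorem packT_spec {b d Λ N : ℕ} {bl wl : ℕ → ℕ} (hd : N ≤ 2 ^ d) :
    ∑ s : Fin N, 2 ^ (b * (bl s * Λ + wl s)) = packT b d Λ N bl wl := by
  have h1 : ∀ a : ℕ, (bif Nat.ble (Nat.succ a) N then
      Nat.shiftLeft 1 (Nat.mul b (Nat.add (Nat.mul (bl a) Λ) (wl a))) else 0) =
      if a < N then 2 ^ (b * (bl a * Λ + wl a)) else 0 := by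
    intro a
    by_cases h2 : a < N
    · rw [if_pos h2, show Nat.ble (Nat.succ a) N = true from Nat.ble_eq_true_of_le h2]
      show 1 <<< (b * (bl a * Λ + wl a)) = _
      rw [Nat.shiftLeft_eq, one_mul]
    · rw [if_neg h2]
      have h3 : Nat.ble (Nat.succ a) N = false := by
        rw [← Bool.not_eq_true]
        intro h4
        exact h2 (Nat.le_of_ble_eq_true h4)
      rw [h3]
      rfl
  rw [packT, sumT_spec]
  simp only [zero_add, h1]
  rw [← Finset.sum_filter]
  have h2 : Finset.filter (fun a => a < N) (Finset.range (2 ^ d)) = Finset.range N := by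
    ext a
    simp only [Finset.mem_filter, Finset.mem_range]
    omega
  rw [h2, Finset.sum_range]

namespace Bg

variable {l N m : ℕ} [NeZero l] [NeZero N] [NeZero m] (B : Bg l N m)

/-- the sign of the `j`-th coordinate -/
def sgn (j a : ℕ) : ℕ := bif Nat.ble (dg j (B.ent a)) 7 then 1 else 0

/-- the key of a state for the matrix -/
def keyM (j a : ℕ) : ℕ :=
  Nat.add (Nat.mul (Nat.add (Nat.mul (clf l (B.ent a)) m) (clf l (B.ent (B.stN j a)))) 2) (B.sgn j a)

/-- the test of the sums for the matrix -/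
noncomputable def cZ (b d Λ j Z : ℕ) : Bool :=
  and (Nat.beq (packT b d Λ N (B.keyM j) (fun a => wlf l (B.ent a))) Z)
    (allN N fun a => Nat.ble (Nat.succ (wlf l (B.ent a))) Λ)

/-- the matrix from the sums -/
def matZ (b Λ Z ej : ℕ) (c c' : Fin m) : List ℤ :=
  pAdd (pAdd (blk b Λ Z ((c * m + c') * 2 + 1)) (if c = c' then
    (fun p => pAdd (pShift ej p) (pNeg p)) (pSum fun c'' : Fin m => blk b Λ Z ((c * m + c'') * 2 + 1)) else []))
    (pShift ej (blk b Λ Z ((c * m + c') * 2)))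

/-- the sums over the classes -/
def kZ (b Λ Z : ℕ) (c : Fin m) : List ℤ :=
  pSum fun c' : Fin m => pAdd (blk b Λ Z ((c * m + c') * 2 + 1)) (blk b Λ Z ((c * m + c') * 2))

variable {B} {A : Fin l → Fin l → ℤ} {j : Fin l} {e : Fin l → ℕ} (h : B.Ok A j e) {b d Λ Z : ℕ} (hb : N < 2 ^ b)
  (hd : N ≤ 2 ^ d) (hZ : B.cZ b d Λ j Z = true)

include h hb hd hZ

theorem Ok.blk (x : ℚ) (c c' : Fin m) (σ : ℕ) (hσ : σ < 2) :
    ev x (blk b Λ Z ((c * m + c') * 2 + σ)) =
      ∑ s : Fin N, (if B.cls s = c ∧ B.cls (B.st j s) = c' ∧ (if B.vec s j < 0 then 1 else 0) = σ then x ^ B.wl s else 0) := by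
  rw [cZ, Bool.and_eq_true] at hZ
  have h1 : packT b d Λ N (B.keyM j) (fun a => wlf l (B.ent a)) = Z := Nat.eq_of_beq_eq_true hZ.1
  rw [← blk_spec hb (fun s : Fin N => B.keyM j s) (fun s => B.wl s)
    (fun s => Nat.le_of_ble_eq_true (allN_spec hZ.2 s s.2)) (by
      rw [← h1, ← packT_spec hd]
      rfl) x]
  refine Finset.sum_congr rfl fun s _ => ?_
  have h2 : B.keyM j s = (clf l (B.ent s) * m + clf l (B.ent (B.st j s))) * 2 + B.sgn j s := by
    rw [h.st_val]
    rfl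
  have h3 : B.sgn j s = if B.vec s j < 0 then 1 else 0 := by
    rw [sgn, vec_eq]
    by_cases h4 : dg j (B.ent s) ≤ 7
    · rw [show Nat.ble (dg j (B.ent s)) 7 = true from Nat.ble_eq_true_of_le h4, if_pos (by omega)]
      rfl
    · have h5 : Nat.ble (dg j (B.ent s)) 7 = false := by
        rw [← Bool.not_eq_true]
        intro h6
        exact h4 (Nat.le_of_ble_eq_true h6)
      rw [h5, if_neg (by omega)]
      rfl
  have hc : ∀ (s : Fin N) (c : Fin m), B.cls s = c ↔ clf l (B.ent s) = c := by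
    intro s c
    rw [cls, Fin.ext_iff, Fin.val_ofNat, Nat.mod_eq_of_lt (h.clf_lt s)]
  simp only [hc, ← h3, h2]
  have h4 : B.sgn j s < 2 := by
    rw [h3]
    split_ifs <;> norm_num
  have h5 := h.clf_lt s
  have h6 := h.clf_lt (B.st j s)
  have h7 : ((clf l (B.ent s) * m + clf l (B.ent (B.st j s))) * 2 + B.sgn j s = (c * m + c') * 2 + σ) ↔
      (clf l (B.ent s) = c ∧ clf l (B.ent (B.st j s)) = c' ∧ B.sgn j s = σ) := by
    constructor
    · intro h8
      have h9 : B.sgn j s = σ := by omega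
      have h10 : clf l (B.ent s) * m + clf l (B.ent (B.st j s)) = c * m + c' := by omega
      have h11 : clf l (B.ent s) = c := by
        have h12 : (clf l (B.ent s) * m + clf l (B.ent (B.st j s))) / m = (c * m + c') / m := by rw [h10]
        rwa [mul_comm, Nat.mul_add_div (by omega), Nat.div_eq_of_lt h6, add_zero, mul_comm,
          Nat.mul_add_div (by omega), Nat.div_eq_of_lt c'.2, add_zero] at h12
      rw [h11] at h10
      exact ⟨h11, by omega, h9⟩
    · rintro ⟨h8, h9, h10⟩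
      rw [h8, h9, h10]
  simp only [h7]

theorem Ok.chkK (hA2 : ∀ i, A i i = 2) {kk : Fin m → List ℤ} (hkk : ∀ c : Fin m, pEq (kZ b Λ Z c) (kk c) = true) :
    ChkK (B.tab A j e h hA2) B.wl kk := by
  intro c
  refine pEq_of_ev fun x _ => ?_
  rw [← ev_of_pEq (x : ℚ) (hkk c), kZ, ev_pSum]
  have key : ∀ (l : List (Fin N)),
      ev (x : ℚ) (l.foldr (fun s p => if (B.tab A j e h hA2).cls s = c then pAdd (pShift (B.wl s) [1]) p else p) []) =
      (l.map fun s => if (B.tab A j e h hA2).cls s = c then (x : ℚ) ^ B.wl s else 0).sum := by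
    intro l
    induction l with
    | nil => rfl
    | cons s l ih =>
      rw [List.foldr_cons, List.map_cons, List.sum_cons]
      split_ifs with h1
      · rw [ev_pAdd, ih, ev_pShift, ev_cons, ev_nil]
        push_cast
        ring
      · rw [ih, zero_add]
  rw [key, ← List.ofFn_eq_map, List.sum_ofFn]
  have h1 : ∀ c' : Fin m, ev (x : ℚ) (pAdd (Big.blk b Λ Z ((c * m + c') * 2 + 1)) (Big.blk b Λ Z ((c * m + c') * 2))) =
      ∑ s : Fin N, (if B.cls s = c ∧ B.cls (B.st j s) = c' then (x : ℚ) ^ B.wl s else 0) := by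
    intro c'
    have h2 := h.blk hb hd hZ x c c' 0 (by norm_num)
    rw [add_zero] at h2
    rw [ev_pAdd, h.blk hb hd hZ x c c' 1 (by norm_num), h2, ← Finset.sum_add_distrib]
    refine Finset.sum_congr rfl fun s _ => ?_
    by_cases h3 : B.cls s = c ∧ B.cls (B.st j s) = c'
    · by_cases h4 : B.vec s j < 0
      · simp [h3.1, h3.2, h4]
      · simp [h3.1, h3.2, h4]
    · rw [if_neg h3, if_neg (fun h4 => h3 ⟨h4.1, h4.2.1⟩), if_neg (fun h4 => h3 ⟨h4.1, h4.2.1⟩), add_zero]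
  rw [Finset.sum_congr rfl fun c' _ => h1 c', Finset.sum_comm]
  refine Finset.sum_congr rfl fun s _ => ?_
  show (if B.cls s = c then (x : ℚ) ^ B.wl s else 0) = _
  split_ifs with h3
  · rw [Finset.sum_eq_single (B.cls (B.st j s))]
    · rw [if_pos ⟨h3, rfl⟩]
    · intro c' _ hc'
      rw [if_neg (fun h4 => hc' h4.2.symm)]
    · intro h4
      exact absurd (Finset.mem_univ _) h4
  · refine (Finset.sum_eq_zero fun c' _ => ?_).symm
    rw [if_neg (fun h4 => h3 h4.1)]

theorem Ok.chkM (hA2 : ∀ i, A i i = 2) {mat : Fin m → Fin m → List ℤ}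
    (hmat : ∀ c c' : Fin m, pEq (matZ b Λ Z (e j) c c') (mat c c') = true) : ChkM (B.tab A j e h hA2) e B.wl mat := by
  intro c c'
  refine pEq_of_ev fun x _ => ?_
  rw [← ev_of_pEq (x : ℚ) (hmat c c')]
  have key : ∀ (L : List (Fin N)),
      ev (x : ℚ) (L.foldr (fun s p => if (B.tab A j e h hA2).cls s = c then
        pAdd (ctr (B.tab A j e h hA2) e B.wl s c') p else p) []) =
      (L.map fun s => if B.cls s = c then ev (x : ℚ) (ctr (B.tab A j e h hA2) e B.wl s c') else 0).sum := by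
    intro L
    induction L with
    | nil => rfl
    | cons s L ih =>
      rw [List.foldr_cons, List.map_cons, List.sum_cons]
      show ev (x : ℚ) (if B.cls s = c then _ else _) = _
      split_ifs with h1
      · rw [ev_pAdd, ih]
      · rw [ih, zero_add]
  rw [key, ← List.ofFn_eq_map, List.sum_ofFn]
  have hctr : ∀ s, ev (x : ℚ) (ctr (B.tab A j e h hA2) e B.wl s c') = if B.vec s j < 0 then
      (if B.cls (B.st j s) = c' then (x : ℚ) ^ B.wl s else 0) +
        (if B.cls s = c' then (x : ℚ) ^ B.wl s * ((x : ℚ) ^ e j - 1) else 0)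
      else if B.cls (B.st j s) = c' then (x : ℚ) ^ (B.wl s + e j) else 0 := by
    intro s
    show ev (x : ℚ) (if B.vec s j < 0 then pAdd (if B.cls (B.st j s) = c' then pShift (B.wl s) [1] else [])
      (if B.cls s = c' then pShift (B.wl s) (pAdd (pShift (e j) [1]) [-1]) else [])
      else if B.cls (B.st j s) = c' then pShift (B.wl s + e j) [1] else []) = _
    split_ifs <;> simp only [ev_pAdd, ev_pShift, ev_cons, ev_nil] <;> push_cast <;> ring
  simp only [hctr]
  have h0 := h.blk hb hd hZ x c c' 0 (by norm_num)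
  rw [add_zero] at h0
  rw [matZ, ev_pAdd, ev_pAdd, ev_pShift, h0, h.blk hb hd hZ x c c' 1 (by norm_num)]
  have h1 : ev (x : ℚ) (if c = c' then (fun p => pAdd (pShift (e j) p) (pNeg p))
      (pSum fun c'' : Fin m => Big.blk b Λ Z ((c * m + c'') * 2 + 1)) else []) =
      ∑ s : Fin N, (if c = c' ∧ B.cls s = c ∧ B.vec s j < 0 then (x : ℚ) ^ B.wl s * ((x : ℚ) ^ e j - 1) else 0) := by
    by_cases hcc : c = c'
    · rw [if_pos hcc]
      show ev (x : ℚ) (pAdd (pShift (e j) _) (pNeg _)) = _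
      rw [ev_pAdd, ev_pShift, ev_pNeg, ev_pSum, Finset.sum_congr rfl fun c'' _ => h.blk hb hd hZ x c c'' 1 (by norm_num),
        Finset.sum_comm]
      have h2 : ∀ s : Fin N, ∑ c'' : Fin m, (if B.cls s = c ∧ B.cls (B.st j s) = c'' ∧
          (if B.vec s j < 0 then 1 else 0) = 1 then (x : ℚ) ^ B.wl s else 0) =
          if B.cls s = c ∧ B.vec s j < 0 then (x : ℚ) ^ B.wl s else 0 := by
        intro s
        by_cases h3 : B.cls s = c ∧ B.vec s j < 0
        · rw [if_pos h3, Finset.sum_eq_single (B.cls (B.st j s))]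
          · rw [if_pos ⟨h3.1, rfl, by rw [if_pos h3.2]⟩]
          · intro c'' _ hc''
            rw [if_neg (fun h4 => hc'' h4.2.1.symm)]
          · intro h4
            exact absurd (Finset.mem_univ _) h4
        · rw [if_neg h3]
          refine Finset.sum_eq_zero fun c'' _ => ?_
          rw [if_neg]
          rintro ⟨a1, -, a3⟩
          apply h3
          refine ⟨a1, ?_⟩
          by_contra h4
          rw [if_neg h4] at a3
          exact absurd a3 (by norm_num)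
      simp only [h2]
      have h3 : ∀ S : ℚ, (x : ℚ) ^ e j * S + -S = S * ((x : ℚ) ^ e j - 1) := fun S => by ring
      rw [h3, Finset.sum_mul]
      refine Finset.sum_congr rfl fun s _ => ?_
      by_cases h4 : B.cls s = c ∧ B.vec s j < 0
      · rw [if_pos h4, if_pos ⟨hcc, h4⟩]
      · rw [if_neg h4, if_neg (fun h5 => h4 h5.2), zero_mul]
    · rw [if_neg hcc, ev_nil]
      refine (Finset.sum_eq_zero fun s _ => ?_).symm
      rw [if_neg (fun h5 => hcc h5.1)]
  rw [h1, Finset.mul_sum, ← Finset.sum_add_distrib, ← Finset.sum_add_distrib]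
  refine Finset.sum_congr rfl fun s _ => ?_
  by_cases h2 : B.cls s = c
  · by_cases h3 : B.vec s j < 0
    · by_cases h4 : B.cls (B.st j s) = c'
      · by_cases h5 : c = c'
        · simp [h2, h3, h4, h5]
        · simp [h2, h3, h4, h5]
      · by_cases h5 : c = c'
        · simp [h2, h3, h4, h5]
        · simp [h2, h3, h4, h5]
    · by_cases h4 : B.cls (B.st j s) = c'
      · simp [h2, h3, h4, pow_add, mul_comm]
      · simp [h2, h3, h4]
  · simp [h2]

omit hb hd hZ in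
theorem Ok.wl_lt (hZ : B.cZ b d Λ j Z = true) (s : Fin N) : B.wl s < Λ := by
  rw [cZ, Bool.and_eq_true] at hZ
  exact Nat.le_of_ble_eq_true (allN_spec hZ.2 s s.2)

end Bg

namespace Bg

variable {l N m : ℕ} [NeZero l] [NeZero N] [NeZero m]

/-- the pairing of an entry with a vector of natural numbers -/
def dotN (al : Fin l → ℕ) (e : ℕ) : ℕ :=
  (List.finRange l).foldr (fun k a => Nat.add (Nat.mul (al k) (dg k e)) a) 0

theorem dotN_eq (al : Fin l → ℕ) (e : ℕ) : dotN al e = ∑ k, al k * dg k e := by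
  have key : ∀ L : List (Fin l), L.foldr (fun k a => Nat.add (Nat.mul (al k) (dg k e)) a) 0 =
      (L.map fun k => al k * dg k e).sum := by
    intro L
    induction L with
    | nil => rfl
    | cons k L ih =>
      rw [List.foldr_cons, List.map_cons, List.sum_cons, ih]
      rfl
  rw [dotN, key, ← List.sum_ofFn, List.ofFn_eq_map]

/-- the test of the sums for the long roots -/
noncomputable def cV (B : Bg l N m) (b d Λ : ℕ) (al : Fin l → ℕ) (T0 D Z : ℕ) : Bool :=
  and (Nat.beq (packT b d Λ N (fun a => Nat.sub T0 (dotN al (B.ent a))) (fun a => wlf l (B.ent a))) Z)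
    (allN N fun a => Nat.ble (Nat.succ (Nat.sub T0 (dotN al (B.ent a)))) D)

/-- the class of a coordinate -/
def kapN (o : Fin m) (kap : ℕ → Fin m) (n : ℕ) : Fin m :=
  match n with
  | 0 => o
  | n + 1 => kap (n + 1)

/-- the sums from the number -/
def vZ (b Λ Z D : ℕ) (o : Fin m) (kap : ℕ → Fin m) (c : Fin m) : List ℤ :=
  pSum fun n : Fin D => if kapN o kap n = c then blk b Λ Z n else []

theorem Ok.chkC {B : Bg l N m} {A : Fin l → Fin l → ℤ} {j : Fin l} {e : Fin l → ℕ} (h : B.Ok A j e) {b d Λ Z : ℕ}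
    (hb : N < 2 ^ b) (hd : N ≤ 2 ^ d) (hZ : B.cZ b d Λ j Z = true) (hA2 : ∀ i, A i i = 2) {α₀ : Fin l → ℤ}
    {al : Fin l → ℕ} (hal : ∀ k, α₀ k = al k) {T0 D Z2 : ℕ} (hT : T0 = 8 * ∑ k, al k)
    (hV : B.cV b d Λ al T0 D Z2 = true) {kap : ℕ → Fin m} {o : Fin m} (ho : o = B.cls (Fin.ofNat N B.o))
    {VV : Fin m → List ℤ} (hVV : ∀ c, pEq (vZ b Λ Z2 D o kap c) (VV c) = true) :
    ChkC (rclL (B.tab A j e h hA2) α₀ kap) B.wl VV := by
  classical
  rw [cV, Bool.and_eq_true] at hV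
  have h1 : packT b d Λ N (fun a => Nat.sub T0 (dotN al (B.ent a))) (fun a => wlf l (B.ent a)) = Z2 :=
    Nat.eq_of_beq_eq_true hV.1
  have hcf : ∀ s, rclL (B.tab A j e h hA2) α₀ kap s = kapN o kap (T0 - dotN al (B.ent s)) := by
    intro s
    have h2 : ∑ k, α₀ k * (B.tab A j e h hA2).vec s k = (dotN al (B.ent s) : ℤ) - T0 := by
      show ∑ k, α₀ k * B.vec s k = _
      rw [dotN_eq, hT]
      push_cast
      rw [Finset.mul_sum, ← Finset.sum_sub_distrib]
      refine Finset.sum_congr rfl fun k _ => ?_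
      rw [hal, vec_eq]
      ring
    rw [rclL_eq, rcl, h2]
    split_ifs with h3
    · have h4 : T0 - dotN al (B.ent s) = 0 := by omega
      rw [h4, ho]
      rfl
    · obtain ⟨n, hn⟩ : ∃ n, T0 - dotN al (B.ent s) = n + 1 := ⟨T0 - dotN al (B.ent s) - 1, by omega⟩
      rw [hn]
      show kap _ = kap (n + 1)
      congr 1
      omega
  intro c
  refine pEq_of_ev fun x _ => ?_
  rw [← ev_of_pEq (x : ℚ) (hVV c), vZ, ev_pSum]
  have key : ∀ (L : List (Fin N)),
      ev (x : ℚ) (L.foldr (fun s p => if rclL (B.tab A j e h hA2) α₀ kap s = c then pAdd (pShift (B.wl s) [1]) p else p) []) =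
      (L.map fun s => if rclL (B.tab A j e h hA2) α₀ kap s = c then (x : ℚ) ^ B.wl s else 0).sum := by
    intro L
    induction L with
    | nil => rfl
    | cons s L ih =>
      rw [List.foldr_cons, List.map_cons, List.sum_cons]
      split_ifs with h1
      · rw [ev_pAdd, ih, ev_pShift, ev_cons, ev_nil]
        push_cast
        ring
      · rw [ih, zero_add]
  rw [key, ← List.ofFn_eq_map, List.sum_ofFn]
  have h2 : ∀ n : Fin D, ev (x : ℚ) (if kapN o kap n = c then Big.blk b Λ Z2 n else []) =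
      ∑ s : Fin N, (if kapN o kap n = c ∧ T0 - dotN al (B.ent s) = n then (x : ℚ) ^ B.wl s else 0) := by
    intro n
    by_cases h3 : kapN o kap n = c
    · rw [if_pos h3, ← blk_spec hb (fun s : Fin N => T0 - dotN al (B.ent s)) (fun s => B.wl s)
        (fun s => h.wl_lt hZ s) (by
          rw [← h1, ← packT_spec hd]
          rfl) x]
      refine Finset.sum_congr rfl fun s _ => ?_
      simp only [h3, true_and]
    · rw [if_neg h3, ev_nil]
      refine (Finset.sum_eq_zero fun s _ => ?_).symm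
      rw [if_neg (fun h4 => h3 h4.1)]
  rw [Finset.sum_congr rfl fun n _ => h2 n, Finset.sum_comm]
  refine Finset.sum_congr rfl fun s _ => ?_
  rw [hcf]
  have h3 : T0 - dotN al (B.ent s) < D := Nat.le_of_ble_eq_true (allN_spec hV.2 s s.2)
  split_ifs with h4
  · rw [Finset.sum_eq_single ⟨_, h3⟩]
    · rw [if_pos ⟨h4, rfl⟩]
    · intro n _ hn
      rw [if_neg (fun h5 => hn (Fin.ext h5.2.symm))]
    · intro h5
      exact absurd (Finset.mem_univ _) h5
  · refine (Finset.sum_eq_zero fun n _ => ?_).symm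
    rw [if_neg]
    rintro ⟨h5, h6⟩
    rw [h6] at h4
    exact h4 h5

end Bg

end Cfsg.Agent.H996.PQ.Big
end

private theorem dce_c23f5751e90e : _root_.True := by
  try have : _root_.True := by simp only [_root_.Cfsg.Agent.H996.PQ.Big.Bg.wl.eq_1]
  try have : _root_.True := by simp only [_root_.Cfsg.Agent.H996.PQ.Big.Bg.dotN.eq_1]
  try have : _root_.True := by simp only [_root_.Cfsg.Agent.H996.PQ.Big.Bg.vec.eq_1]
  try have : _root_.True := by simp only [_root_.Cfsg.Agent.H996.PQ.Big.Bg.kZ.eq_1]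
  try have : _root_.True := by simp only [_root_.Cfsg.Agent.H996.PQ.Big.digL.eq_2]
  try have : _root_.True := by simp only [_root_.Cfsg.Agent.H996.PQ.Big.Bg.cls.congr_simp]
  try have : _root_.True := by simp only [_root_.Cfsg.Agent.H996.PQ.Big.Bg.st.eq_1]
  try have : _root_.True := by simp only [_root_.Cfsg.Agent.H996.PQ.Big.Bg.cS.eq_1]
  try have : _root_.True := by simp only [_root_.Cfsg.Agent.H996.PQ.Big.Bg.st.congr_simp]
  try have : _root_.True := by simp only [_root_.Cfsg.Agent.H996.PQ.Big.Bg.vZ.eq_1]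
  try have : _root_.True := by simp only [_root_.Cfsg.Agent.H996.PQ.Big.pcode.eq_1]
  try have : _root_.True := by simp only [_root_.Cfsg.Agent.H996.PQ.Big.digL.eq_1]
  try have : _root_.True := by simp only [_root_.Cfsg.Agent.H996.PQ.Big.Bg.cls.eq_1]
  try have : _root_.True := by simp only [_root_.Cfsg.Agent.H996.PQ.Big.Bg.sgn.eq_1]
  try have : _root_.True := by simp only [_root_.Cfsg.Agent.H996.PQ.Big.Bg.matZ.eq_1]
  try have : _root_.True := by simp only [_root_.Cfsg.Agent.H996.PQ.Big.anyN.eq_1]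
  try have : _root_.True := by simp only [_root_.Cfsg.Agent.H996.PQ.Big.Bg.cV.eq_1]
  try have : _root_.True := by simp only [_root_.Cfsg.Agent.H996.PQ.Big.Bg.tab.congr_simp]
  try have : _root_.True := by simp only [_root_.Cfsg.Agent.H996.PQ.Big.Bg.cZ.eq_1]
  try have : _root_.True := by simp only [_root_.Cfsg.Agent.H996.PQ.Big.digL.eq_def]
  try have : _root_.True := by simp only [_root_.Cfsg.Agent.H996.PQ.Big.blk.eq_1]
  try have : _root_.True := by simp only [_root_.Cfsg.Agent.H996.PQ.Big.packT.eq_1]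
  exact _root_.True.intro
end

-- part: H996/PQ/SepX
section
prune_inst 0x11002144044000000018000062206606ee0000b200600800b00004440d833f40a040096124a01c1200d88ac50031004811000050420000000a00080001180080000006008108a008e00010002102600000000000000000000000800000041004008000000
set_option linter.all false
open scoped Cfsg.Agent.FastGrp

/-!
# The extended tests (helper996, for S4612)

* `mem_B0_two` : integral characters of odd degree are in the principal `2`-block;
* `HasVal.sameBlock` : two constituents of `1_P^G` with congruent eigenvalues (`lam`) are in the same block;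
* `TstX`, `Full.sepX`.
-/

set_option autoImplicit false
set_option linter.unusedSectionVars false

namespace Cfsg.Agent.H996.PQ

open Cfsg Cfsg.Agent.H967.Sph Cfsg.Agent.H317.PQ Cfsg.Agent.Blocks.Basic Cfsg.Agent.Blocks.Local Cfsg.Agent.H64.Dl.Sph
  Cfsg.Agent.H996.Eight.Cert
open CoxeterSystem Cfsg.Agent.ChevalleyStructure.CoxeterGeom Cfsg.Agent.Tits.Roots Cfsg.Agent.Tits.Core
  Cfsg.Agent.Nodes.Reps Cfsg.Agent.Nodes.BNOf Cfsg.Agent.Nodes.Bruhat Cfsg.Agent.Nodes.LeviDec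

universe u

/-- integral characters of odd degree are in the principal `2`-block -/
theorem mem_B0_two {G : Type u} [Group G] [Finite G] {χ : IrrCharacter G} {v : G → ℤ}
    (hv : ∀ g, (χ : G → ℂ) g = v g) (hodd : Odd (v 1)) : χ ∈ B0 2 G := by
  classical
  have := Fintype.ofFinite G
  rw [H766.PQ.mem_B0_iff Nat.prime_two]
  intro h0
  have h1 : ((∑ g : G with ¬ 2 ∣ orderOf g, v g : ℤ) : ℂ) = 0 := by
    rw [← h0]
    push_cast
    exact Finset.sum_congr rfl fun g _ => (hv g).symm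
  have h2 : ∑ g : G with ¬ 2 ∣ orderOf g, v g = 0 := by exact_mod_cast h1
  have hinv : ∀ g, v g⁻¹ = v g := by
    intro g
    have h3 := Cfsg.Agent.Blocks.Orthogonality.irr_apply_inv χ.2 g
    rw [hv, hv] at h3
    have h4 : ((v g⁻¹ : ℤ) : ℂ) = ((v g : ℤ) : ℂ) := by
      rw [h3]
      simp
    exact_mod_cast h4
  have h3 : ((∑ g : G with ¬ 2 ∣ orderOf g, v g : ℤ) : ZMod 2) = ((v 1 : ℤ) : ZMod 2) := by
    have h4 : (1 : G) ∈ Finset.univ.filter fun g : G => ¬ 2 ∣ orderOf g := by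
      rw [Finset.mem_filter, orderOf_one]
      exact ⟨Finset.mem_univ _, by decide⟩
    rw [← Finset.add_sum_erase _ _ h4]
    push_cast
    rw [add_eq_left]
    refine Finset.sum_involution (fun g _ => g⁻¹) ?_ ?_ ?_ ?_
    · intro g _
      rw [hinv]
      exact CharTwo.add_self_eq_zero _
    · intro g hg _ h5
      rw [Finset.mem_erase, Finset.mem_filter] at hg
      have h6 : g ^ 2 = 1 := by
        rw [pow_two]
        nth_rewrite 1 [← h5]
        exact inv_mul_cancel g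
      have h7 := orderOf_dvd_of_pow_eq_one h6
      rcases (Nat.dvd_prime Nat.prime_two).1 h7 with h8 | h8
      · exact hg.1 (orderOf_eq_one_iff.1 h8)
      · exact hg.2.2 (by rw [h8])
    · intro g hg
      rw [Finset.mem_erase, Finset.mem_filter] at hg ⊢
      exact ⟨fun h5 => hg.1 (inv_eq_one.1 h5), Finset.mem_univ _, by rw [orderOf_inv]; exact hg.2.2⟩
    · intro g _
      exact inv_inv g
  rw [h2] at h3
  have h4 := (ZMod.intCast_eq_one_iff_odd).2 hodd
  rw [h4] at h3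
  exact absurd h3 (by decide)

section Base

variable {I W : Type*} {Y : Type u} [Fintype I] [DecidableEq I] [Group W] [Finite W] [Group Y] [Finite Y]
    {M : CoxeterMatrix I} {cs : CoxeterSystem M W} {A : I → I → ℤ} {h : IsCartan M A} {p : ℕ} {T : Subgroup Y}
    {n : I → Y} {X : (I → ℤ) → Subgroup Y} (R : RGD cs h p T n X) (hG : GG cs h T X = ⊤)
    {j : I} {N m : ℕ} (t : Tab A j N m)

/-- the values are integers -/
theorem HasVal.exists_int {χ : Y → ℂ} {d : ℕ} {a : Fin m → ℚ} (H : HasVal R hG t χ d a) :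
    ∃ v : Y → ℤ, ∀ g, χ g = v g := by
  have h1 : ∀ g, ∃ k : ℤ, χ g = k := by
    intro g
    refine Cfsg.Agent.Characters.GaloisBasic.exists_int_of_rat (Characters.Core.isIrr_isCharacter H.irr) g
      ⟨(d : ℚ) * (∑ᶠ y : Y, a (t.cls (stY R hG t (y⁻¹ * g * y)))) / Nat.card Y, ?_⟩
    have h2 := H.val g
    have h3 : (Nat.card Y : ℂ) ≠ 0 := Nat.cast_ne_zero.2 Nat.card_pos.ne'
    push_cast
    rw [eq_div_iff h3, mul_comm, h2]
  choose v hv using h1
  exact ⟨v, hv⟩

theorem HasVal.base {χ : Y → ℂ} {d : ℕ} {a : Fin m → ℚ} (H : HasVal R hG t χ d a) : a (t.cls t.o) = 1 := by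
  classical
  have := Fintype.ofFinite Y
  have h1 := H.val 1
  have h3 : (Nat.card Y : ℂ) ≠ 0 := Nat.cast_ne_zero.2 Nat.card_pos.ne'
  have h4 : (d : ℂ) ≠ 0 := by
    rw [← H.one]
    exact irr_one_ne_zero H.irr
  have h5 : ∀ y : Y, a (t.cls (stY R hG t (y⁻¹ * 1 * y))) = a (t.cls t.o) := by
    intro y
    rw [mul_one, inv_mul_cancel, (stY_eq_o_iff R hG t).2 (one_mem _)]
  rw [finsum_eq_sum_of_fintype, Finset.sum_congr rfl fun y _ => h5 y, Finset.sum_const, Finset.card_univ, nsmul_eq_mul,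
    H.one, ← Nat.card_eq_fintype_card] at h1
  push_cast at h1
  have h6 : ((a (t.cls t.o) : ℚ) : ℂ) = 1 := by
    refine mul_left_cancel₀ (mul_ne_zero h3 h4) ?_
    rw [mul_one]
    linear_combination -h1
  exact_mod_cast h6

/-- the spherical function on the cosets -/
noncomputable def sph0 (a : Fin m → ℚ) (x : Y ⧸ PJ cs h T X {i | i ≠ j}) : ℚ := a (t.cls (stY R hG t x.out))

theorem sph0_coe (a : Fin m → ℚ) (g : Y) :
    sph0 R hG t a (g : Y ⧸ PJ cs h T X {i | i ≠ j}) = a (t.cls (stY R hG t g)) := by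
  have h1 : (g⁻¹ * (g : Y ⧸ PJ cs h T X {i | i ≠ j}).out) ∈ PJ cs h T X {i | i ≠ j} :=
    QuotientGroup.eq.1 (Quotient.out_eq' (g : Y ⧸ PJ cs h T X {i | i ≠ j})).symm
  have h2 := cls_mul_right R hG t h1 g
  rw [mul_inv_cancel_left] at h2
  rw [sph0, h2]

theorem HasVal.hasSph [Fintype (Y ⧸ PJ cs h T X {i | i ≠ j})] {χ : Y → ℂ} {d : ℕ} {a : Fin m → ℚ}
    (H : HasVal R hG t χ d a) : H582.Sph.HasSph Y ((1 : Y) : Y ⧸ PJ cs h T X {i | i ≠ j}) (fun x => x.out)
      (fun x => ((sph0 R hG t a x : ℚ) : ℂ)) χ := by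
  classical
  have := Fintype.ofFinite Y
  have hQ : ∀ q ∈ PJ cs h T X {i | i ≠ j}, ∀ x, sph0 R hG t a (q • x) = sph0 R hG t a x := by
    intro q hq x
    induction x using Quotient.inductionOn' with
    | h g =>
      show sph0 R hG t a ((q * g : Y) : Y ⧸ PJ cs h T X {i | i ≠ j}) =
        sph0 R hG t a (g : Y ⧸ PJ cs h T X {i | i ≠ j})
      rw [sph0_coe, sph0_coe, stY_mul_left R hG t hq]
  have hd : (d : ℂ) ≠ 0 := by
    rw [← H.one]
    exact irr_one_ne_zero H.irr
  have hX : (Nat.card (Y ⧸ PJ cs h T X {i | i ≠ j}) : ℂ) ≠ 0 := Nat.cast_ne_zero.2 Nat.card_pos.ne'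
  refine ⟨?_, ?_, (d : ℂ) / Nat.card (Y ⧸ PJ cs h T X {i | i ≠ j}), div_ne_zero hd hX, ?_⟩
  · intro q hq x
    have h1 : q ∈ PJ cs h T X {i | i ≠ j} := by
      have h2 : ((q * 1 : Y) : Y ⧸ PJ cs h T X {i | i ≠ j}) = ((1 : Y) : Y ⧸ PJ cs h T X {i | i ≠ j}) := hq
      have h3 := QuotientGroup.eq.1 h2
      rw [mul_one, mul_one] at h3
      exact inv_mem_iff.1 h3
    show ((sph0 R hG t a (q • x) : ℚ) : ℂ) = _
    rw [hQ q h1]
  · show ((sph0 R hG t a ((1 : Y) : Y ⧸ PJ cs h T X {i | i ≠ j}) : ℚ) : ℂ) = 1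
    rw [sph0_coe, (stY_eq_o_iff R hG t).2 (one_mem _), H.base]
    norm_num
  · intro g
    have hγ : ∀ x : Y ⧸ PJ cs h T X {i | i ≠ j}, x.out • ((1 : Y) : Y ⧸ PJ cs h T X {i | i ≠ j}) = x := by
      intro x
      rw [MulAction.Quotient.smul_coe, smul_eq_mul, mul_one]
      exact Quotient.out_eq' x
    have h1 := H.val g
    rw [finsum_eq_sum_of_fintype] at h1
    have h2 : ∑ y : Y, a (t.cls (stY R hG t (y⁻¹ * g * y))) =
        ∑ y : Y, sph0 R hG t a ((y⁻¹ * g * y : Y) : Y ⧸ PJ cs h T X {i | i ≠ j}) :=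
      Finset.sum_congr rfl fun y _ => (sph0_coe R hG t a _).symm
    rw [h2, sum_gamma (cs := cs) (h := h) (T := T) (X := X) (j := j) (sph0 R hG t a) hQ (fun x => x.out) hγ g] at h1
    have h3 : (Nat.card Y : ℂ) = Nat.card (Y ⧸ PJ cs h T X {i | i ≠ j}) * Nat.card (PJ cs h T X {i | i ≠ j}) := by
      rw [Subgroup.card_eq_card_quotient_mul_card_subgroup (PJ cs h T X {i | i ≠ j})]
      push_cast
      rfl
    have hP : (Nat.card (PJ cs h T X {i | i ≠ j}) : ℂ) ≠ 0 := Nat.cast_ne_zero.2 Nat.card_pos.ne'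
    rw [h3] at h1
    refine mul_left_cancel₀ (mul_ne_zero hX hP) (h1.trans ?_)
    push_cast
    field_simp

variable (q : I → ℕ) (hq : ∀ i, Nat.card (X (sr i)) = q i)

include hq in
/-- the size of the orbits of the parabolic subgroup -/
theorem card_orbit (wt : Fin N → ℕ) (hw : wt t.o = 1) (hws : ∀ i s, 0 < t.vec s i → wt (t.st i s) = q i * wt s)
    (g : Y) : (Nat.card (MulAction.orbit (MulAction.stabilizer Y ((1 : Y) : Y ⧸ PJ cs h T X {i | i ≠ j}))
      (g : Y ⧸ PJ cs h T X {i | i ≠ j})) : ℚ) =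
      ∑ s, (if t.cls s = t.cls (stY R hG t g) then (wt s : ℚ) else 0) := by
  classical
  have := Fintype.ofFinite Y
  have := Fintype.ofFinite (Y ⧸ PJ cs h T X {i | i ≠ j})
  obtain ⟨O, hO⟩ : ∃ O, O = MulAction.orbit (MulAction.stabilizer Y ((1 : Y) : Y ⧸ PJ cs h T X {i | i ≠ j}))
      (g : Y ⧸ PJ cs h T X {i | i ≠ j}) := ⟨_, rfl⟩
  have hst : ∀ q : Y, q ∈ MulAction.stabilizer Y ((1 : Y) : Y ⧸ PJ cs h T X {i | i ≠ j}) ↔
      q ∈ PJ cs h T X {i | i ≠ j} := by
    intro q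
    rw [MulAction.mem_stabilizer_iff, MulAction.Quotient.smul_coe, smul_eq_mul, QuotientGroup.eq, mul_one, mul_one,
      inv_mem_iff]
  have hmem : ∀ z : Y, (z : Y ⧸ PJ cs h T X {i | i ≠ j}) ∈ O ↔ t.cls (stY R hG t z) = t.cls (stY R hG t g) := by
    have key : ∀ q ∈ PJ cs h T X {i | i ≠ j}, ∀ x, q • x ∈ O ↔ x ∈ O := by
      intro q hq x
      have h1 : q • x = (⟨q, (hst q).2 hq⟩ : MulAction.stabilizer Y ((1 : Y) : Y ⧸ PJ cs h T X {i | i ≠ j})) • x := rfl
      rw [hO, h1]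
      constructor
      · intro h2
        have h3 := MulAction.mem_orbit_of_mem_orbit
          (⟨q, (hst q).2 hq⟩ : MulAction.stabilizer Y ((1 : Y) : Y ⧸ PJ cs h T X {i | i ≠ j}))⁻¹ h2
        rwa [inv_smul_smul] at h3
      · intro h2
        exact MulAction.mem_orbit_of_mem_orbit _ h2
    obtain ⟨b, hb⟩ := exists_fun R hG t
      (fun z => if (z : Y ⧸ PJ cs h T X {i | i ≠ j}) ∈ O then (1 : ℚ) else 0)
      (fun y hy z => by
        have h1 : ((y * z : Y) : Y ⧸ PJ cs h T X {i | i ≠ j}) ∈ O ↔ (z : Y ⧸ PJ cs h T X {i | i ≠ j}) ∈ O :=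
          key y hy (z : Y ⧸ PJ cs h T X {i | i ≠ j})
        simp only [h1])
      (fun y hy z => by
        have h1 : ((z * y : Y) : Y ⧸ PJ cs h T X {i | i ≠ j}) = (z : Y ⧸ PJ cs h T X {i | i ≠ j}) :=
          QuotientGroup.eq.2 (by simpa using hy)
        simp only [h1])
    intro z
    constructor
    · intro hz
      rw [hO] at hz
      obtain ⟨⟨q, hq⟩, hqz⟩ := hz
      have h1 : ((q * g : Y) : Y ⧸ PJ cs h T X {i | i ≠ j}) = (z : Y ⧸ PJ cs h T X {i | i ≠ j}) := hqz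
      have h2 := QuotientGroup.eq.1 h1
      have h3 := cls_mul_right R hG t h2 (q * g)
      rw [mul_inv_cancel_left] at h3
      rw [h3, stY_mul_left R hG t ((hst q).1 hq)]
    · intro hz
      have h1 := hb g
      have h2 := hb z
      beta_reduce at h1 h2
      rw [hz, ← h1, if_pos (show (g : Y ⧸ PJ cs h T X {i | i ≠ j}) ∈ O by rw [hO]; exact MulAction.mem_orbit_self _)] at h2
      by_contra h3
      rw [if_neg h3] at h2
      exact zero_ne_one h2
  have h1 := sum_quot R hG t q hq wt hw hws (fun s => if t.cls s = t.cls (stY R hG t g) then (1 : ℚ) else 0)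
    (fun x => if x ∈ O then (1 : ℚ) else 0) (fun z => by simp only [hmem])
  rw [← hO, Nat.card_eq_fintype_card, ← Set.toFinset_card, Finset.card_eq_sum_ones, Nat.cast_sum]
  rw [Finset.sum_ite, Finset.sum_const_zero, add_zero] at h1
  have h2 : (O.toFinset : Finset (Y ⧸ PJ cs h T X {i | i ≠ j})) = Finset.univ.filter fun x => x ∈ O := by
    ext x
    simp
  rw [h2]
  push_cast
  rw [h1]
  refine Finset.sum_congr rfl fun s _ => ?_
  split_ifs <;> simp

include hq in
/-- **congruent eigenvalues, same block** -/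
theorem HasVal.sameBlock (wt : Fin N → ℕ) (hw : wt t.o = 1)
    (hws : ∀ i s, 0 < t.vec s i → wt (t.st i s) = q i * wt s) {χ χ' : Y → ℂ} {d d' : ℕ} {a a' : Fin m → ℚ}
    (H : HasVal R hG t χ d a) (H' : HasVal R hG t χ' d' a') {l : ℕ} {M' : Ideal AlgInt} (hM : IsPModular l M')
    (hc : ∀ c, ∃ z : ℤ, (∑ s, (if t.cls s = c then (wt s : ℚ) else 0)) * (a c - a' c) = l * z) :
    SameBlock M' χ χ' := by
  classical
  have := Fintype.ofFinite Y
  have := Fintype.ofFinite (Y ⧸ PJ cs h T X {i | i ≠ j})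
  have hp := hM.2.1.isPrime
  have hγ : ∀ x : Y ⧸ PJ cs h T X {i | i ≠ j}, x.out • ((1 : Y) : Y ⧸ PJ cs h T X {i | i ≠ j}) = x := by
    intro x
    rw [MulAction.Quotient.smul_coe, smul_eq_mul, mul_one]
    exact Quotient.out_eq' x
  refine H582.Sph.sameBlock_of_base hM hγ (H.hasSph R hG t) (H'.hasSph R hG t) fun y => Or.inl ?_
  induction y using Quotient.inductionOn' with
  | h g =>
    show MemLocalIdeal M' ((Nat.card (MulAction.orbit (MulAction.stabilizer Y
      ((1 : Y) : Y ⧸ PJ cs h T X {i | i ≠ j})) (g : Y ⧸ PJ cs h T X {i | i ≠ j})) : ℂ) *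
      ((sph0 R hG t a (g : Y ⧸ PJ cs h T X {i | i ≠ j}) : ℚ) - (sph0 R hG t a' (g : Y ⧸ PJ cs h T X {i | i ≠ j}) : ℚ)))
    obtain ⟨z, hz⟩ := hc (t.cls (stY R hG t g))
    rw [← card_orbit R hG t q hq wt hw hws g] at hz
    rw [sph0_coe, sph0_coe]
    have h1 := congrArg (fun r : ℚ => (r : ℂ)) hz
    push_cast at h1
    rw [h1]
    exact memLocalIdeal_mul_right (memLocalIdeal_p hM) (memLocalRing_intCast _)

end Base

/-- **The extended tests** for `S = {i | χ i ∈ B0 p G}`, `g = |G|`; `lam i c`: the eigenvalue of the double coset `c` -/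
structure TstX {m : ℕ} (P : Pol m) (lam : Fin m → Fin m → List ℤ) (x p g : ℕ) (S : Finset (Fin m)) : Prop extends
    Tst P x p S where
  odd : p = 2 → ∀ i, Odd (P.deg x i) → i ∈ S
  dz : ∀ i ∈ S, p ∣ g → (P.deg x i).factorization p < g.factorization p
  blk : ∀ i i', (∀ c, (p : ℤ) ∣ evZ x (lam i c) - evZ x (lam i' c)) → (i ∈ S ↔ i' ∈ S)

/-- the same set for both primes -/
def SepX {m : ℕ} (P : Pol m) (lam : Fin m → Fin m → List ℤ) (x p l g : ℕ) (i₀ : Fin m) : Prop :=
  ∃ S : Finset (Fin m), i₀ ∈ S ∧ TstX P lam x p g S ∧ TstX P lam x l g S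

theorem SepX.sep {m : ℕ} {P : Pol m} {lam : Fin m → Fin m → List ℤ} {x p l g : ℕ} {i₀ : Fin m}
    (h : SepX P lam x p l g i₀) : Sep P x p l i₀ := by
  obtain ⟨S, h1, h2, h3⟩ := h
  exact ⟨S, h1, h2.toTst, h3.toTst⟩

namespace Full

variable {l : ℕ} [NeZero l] {A : Fin l → Fin l → ℤ} {j : Fin l} {N m : ℕ} {α₀ : Fin l → ℤ} (Fu : Full A j N m α₀)

/-- `lam` are the eigenvalues -/
def Lam (lam : Fin m → Fin m → List ℤ) : Prop :=
  ∀ i c, pEq (pMul (lam i c) (Fu.P.nu i Fu.P.o)) (pMul (Fu.Da.kk c) (Fu.P.nu i c)) = true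

theorem Lam.spec {Fu : Full A j N m α₀} {lam : Fin m → Fin m → List ℤ} (hlam : Fu.Lam lam) {x : ℕ} (hx : 2 ≤ x)
    (i c : Fin m) : ev x (Fu.Da.kk c) * Fu.P.sph x i c = ev x (lam i c) := by
  have hx' : (2 : ℚ) ≤ (x : ℚ) := by exact_mod_cast hx
  have h1 := ev_of_pEq (x : ℚ) (hlam i c)
  rw [ev_pMul, ev_pMul] at h1
  have h2 := ev_pos hx' (Fu.pos i).1
  have h3 : ev (x : ℚ) (Fu.P.nu i Fu.P.o) = ev x ((Fu.C i).nu (Fu.Da.t.cls Fu.Da.t.o)) := by
    rw [Fu.hP.2.2.1, Fu.hP.2.2.2]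
  rw [Pol.sph, ← mul_div_assoc, ← h1, mul_div_assoc, div_self (by rw [h3]; exact h2.ne'), mul_one]

section Group

variable {W : Type*} {Y : Type u} [Group W] [Finite W] [Group Y] [Finite Y]
    {M : CoxeterMatrix (Fin l)} {cs : CoxeterSystem M W} {h : IsCartan M A} {p : ℕ} {T : Subgroup Y}
    {n : Fin l → Y} {X : (Fin l → ℤ) → Subgroup Y} (R : RGD cs h p T n X) (hG : GG cs h T X = ⊤)
    {x : ℕ} (hx : 2 ≤ x) (hq : ∀ i, Nat.card (X (sr i)) = x ^ Fu.Da.e i)

include hx hq in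
include R hG in
/-- **The extended theorem.** -/
theorem sepX {lam : Fin m → Fin m → List ℤ} (hlam : Fu.Lam lam) (hcen : Cen cs h X α₀) {j₀ : Fin l} {D : Fin l → ℤ}
    (hi : Hi A j₀ α₀ D) (hr : IsRoot cs h α₀) (hX0 : Nat.card (X α₀) = x)
    (hNL : (Nat.card (Y ⧸ PJ cs h T X {i | i ≠ j₀}) : ℚ) = ev x Fu.NL)
    {p' l' : ℕ} (hp : p'.Prime) (hl : l'.Prime) (hS : Same p' l' Y) : SepX Fu.P lam x p' l' (Nat.card Y) Fu.i₀ := by
  classical
  have hx' : (2 : ℚ) ≤ (x : ℚ) := by exact_mod_cast hx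
  obtain ⟨χ, hχ0, F⟩ := Fu.exists_fam R hG hx hq
  have hws : ∀ i s, 0 < Fu.Da.t.vec s i → x ^ Fu.Da.wl (Fu.Da.t.st i s) = x ^ Fu.Da.e i * x ^ Fu.Da.wl s := by
    intro i s h9
    rw [Fu.Da.ws i s h9, pow_add]
  have hwo : x ^ Fu.Da.wl Fu.Da.t.o = 1 := by rw [Fu.Da.wo, pow_zero]
  have hNN : (Nat.card (Y ⧸ PJ cs h T X {i | i ≠ j}) : ℚ) = ev x Fu.P.N := by
    have h6 := card_quot R hG Fu.Da.t (fun i => x ^ Fu.Da.e i) hq (fun s => x ^ Fu.Da.wl s) hwo hws
    rw [h6, ← sum_wl Fu.Da x, ev_of_pEq (x : ℚ) Fu.hN]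
  have hNZ : ((Nat.card (Y ⧸ PJ cs h T X {i | i ≠ j}) : ℕ) : ℤ) = evZ x Fu.P.N := by
    have h1 := evZ_cast (x : ℤ) Fu.P.N
    push_cast at h1
    rw [← hNN] at h1
    exact_mod_cast h1.symm
  have hone : ∀ l : ℕ, l.Prime → F.irr Fu.i₀ ∈ B0 l Y := by
    intro l hl M hM
    have hMp : M.IsPrime := isPrime_of_isPModular hM
    have h1 : F.irr Fu.i₀ = ⟨fun _ => 1, isIrrCharacter_one⟩ := Subtype.ext hχ0
    rw [h1]
    exact Blocks.PrincipalSection.one_mem_principalBlock
  have h3 : ∀ i, charDegree (F.irr i : Y → ℂ) = Fu.P.deg x i := fun i => F.charDegree_irr i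
  have key : ∀ l : ℕ, l.Prime → ∀ S : Finset (Fin m), (∀ i, i ∈ S ↔ F.irr i ∈ B0 l Y) →
      TstX Fu.P lam x l (Nat.card Y) S := by
    intro l hl S hS
    have := hl
    refine ⟨⟨?_, ?_, ?_, ?_⟩, ?_, ?_, ?_⟩
    · intro i hiS
      have h1 := F.cls hi hcen hr (kap := Fu.kap) (by
          intro w hw
          have := Fu.nz
          exact RTab.spec cs h Fu.hZ Fu.Da.t Fu.hkap w hw) (fun i => x ^ Fu.Da.e i) hq (fun s => x ^ Fu.Da.wl s)
        hwo hws hl ((hS i).1 hiS) (c := ((x : ℤ) - 1) * evZ x (Fu.P.D i)) ?_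
      · exact h1
      · rw [hX0, hNL, hNN]
        have h2 : ∑ s, ((x ^ Fu.Da.wl s : ℕ) : ℚ) * Fu.P.sph x i (rcl Fu.Da.t α₀ Fu.kap s) =
            ∑ c, ev x (Fu.VV c) * Fu.P.sph x i c := by
          rw [← Fu.hVV.spec x (fun c => Fu.P.sph x i c)]
          exact Finset.sum_congr rfl fun s _ => by rw [rclL_eq]
        rw [h2]
        have h3 := ev_of_pEq (x : ℚ) (Fu.hD i)
        rw [ev_pMul, ev_pMul, ev_pMul, ev_pAdd, ev_pMul, ev_pNeg, ev_pSum] at h3
        have h4 := ev_pos hx' (Fu.pos i).1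
        have h5 : ∑ c, ev (x : ℚ) (Fu.VV c) * Fu.P.sph x i c =
            (∑ c, ev (x : ℚ) (pMul (Fu.VV c) ((Fu.C i).nu c))) / ev x ((Fu.C i).nu (Fu.Da.t.cls Fu.Da.t.o)) := by
          rw [Finset.sum_div]
          refine Finset.sum_congr rfl fun c _ => ?_
          rw [Fu.sph_eq, ev_pMul, mul_div_assoc]
        rw [h5]
        have h6 := evZ_cast (x : ℤ) (Fu.P.D i)
        push_cast at h6 ⊢
        rw [h6]
        refine mul_right_cancel₀ h4.ne' ?_
        have h7 : ∀ a b c : ℚ, c ≠ 0 → (a - b / c) * c = a * c - b := fun a b c hc => by field_simp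
        rw [mul_assoc _ _ (ev (x : ℚ) ((Fu.C i).nu (Fu.Da.t.cls Fu.Da.t.o))), mul_assoc ((x : ℚ) - 1),
          mul_assoc _ _ (ev (x : ℚ) ((Fu.C i).nu (Fu.Da.t.cls Fu.Da.t.o))), h7 _ _ _ h4.ne']
        linear_combination ((x : ℚ) - 1) * h3
    · intro k hk
      have h1 := (H329.PQ.trace_test hl F.mf S hS).1 k (by
        have h2 : ((l ^ k : ℕ) : ℤ) ∣ ((Nat.card (Y ⧸ PJ cs h T X {i | i ≠ j}) : ℕ) : ℤ) := by
          rw [hNZ]
          push_cast
          exact hk
        exact Int.natCast_dvd_natCast.1 h2)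
      simp only [h3] at h1
      have h4 := Int.natCast_dvd_natCast.2 h1
      push_cast at h4
      exact h4
    · intro hk
      have h1 := (H329.PQ.trace_test hl F.mf S hS).2 (by
        intro h2
        apply hk
        rw [← hNZ]
        exact Int.natCast_dvd_natCast.2 h2)
      simp only [h3] at h1
      intro h4
      apply h1
      have h5 : (l : ℤ) ∣ ((∑ i ∈ S, Fu.P.deg x i : ℕ) : ℤ) := by
        push_cast
        exact h4
      exact Int.natCast_dvd_natCast.1 h5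
    · intro c
      obtain ⟨s, hs⟩ := Fu.exists_state hx c
      obtain ⟨u, v, h1, h2⟩ := F.co hl S hS (fun ψ hψ g => H77.ClassSet.sum_coset_eq_zero _ F.mf hψ g) s
      refine ⟨u, v, h1, ?_⟩
      rw [← hNN, ← h2, hs]
    · rintro rfl i hodd
      rw [hS]
      obtain ⟨v, hv⟩ := (F.val i).exists_int
      refine mem_B0_two hv ?_
      have h4 := hv 1
      rw [(F.val i).one] at h4
      have h5 : v 1 = Fu.P.deg x i := by exact_mod_cast h4.symm
      rw [h5]
      exact_mod_cast hodd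
    · intro i hiS hlg
      have h4 := H766.PQ.not_defect_zero hl hlg ((hS i).1 hiS)
      rwa [h3] at h4
    · intro i i' hc
      obtain ⟨M', hM⟩ := Cfsg.Agent.Blocks.ExistsModular.exists_isPModular hl
      have hMp : M'.IsPrime := isPrime_of_isPModular hM
      have h4 : SameBlock M' (χ i) (χ i') := by
        refine HasVal.sameBlock R hG Fu.Da.t (fun i => x ^ Fu.Da.e i) hq (fun s => x ^ Fu.Da.wl s) hwo hws
          (F.val i) (F.val i') hM ?_
        intro c
        obtain ⟨z, hz⟩ := hc c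
        refine ⟨z, ?_⟩
        have h5 : ∑ s, (if Fu.Da.t.cls s = c then ((x ^ Fu.Da.wl s : ℕ) : ℚ) else 0) = ev x (Fu.Da.kk c) := by
          rw [← ChkK.spec (x : ℚ) Fu.Da.chkK c, Finset.sum_filter]
          refine Finset.sum_congr rfl fun s _ => ?_
          split_ifs
          · push_cast
            rfl
          · rfl
        rw [h5, mul_sub, hlam.spec hx, hlam.spec hx]
        have h6 := evZ_cast (x : ℤ) (lam i c)
        have h7 := evZ_cast (x : ℤ) (lam i' c)
        push_cast at h6 h7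
        rw [← h6, ← h7]
        exact_mod_cast hz
      rw [hS, hS, B0_eq hl hM]
      have h5 : ∀ a b : IrrCharacter Y, SameBlock M' (a : Y → ℂ) (b : Y → ℂ) →
          a ∈ principalBlock M' Y → b ∈ principalBlock M' Y := by
        intro a b hab ha g
        have h6 := memLocalIdeal_add (ha g) (hab g)
        have h7 : centralChar (fun _ : Y => (1 : ℂ)) g - centralChar (a : Y → ℂ) g +
            (centralChar (a : Y → ℂ) g - centralChar (b : Y → ℂ) g) =
            centralChar (fun _ : Y => (1 : ℂ)) g - centralChar (b : Y → ℂ) g := by ring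
        rwa [h7] at h6
      refine ⟨h5 _ _ h4, h5 _ _ fun g => ?_⟩
      have h6 := memLocalIdeal_neg (h4 g)
      rwa [neg_sub] at h6
  refine ⟨Finset.univ.filter fun i => F.irr i ∈ B0 p' Y, ?_, key p' hp _ fun i => ?_, key l' hl _ fun i => ?_⟩
  · rw [Finset.mem_filter]
    exact ⟨Finset.mem_univ _, hone p' hp⟩
  · rw [Finset.mem_filter]
    exact ⟨fun h => h.2, fun h => ⟨Finset.mem_univ _, h⟩⟩
  · rw [Finset.mem_filter, hS]
    exact ⟨fun h => h.2, fun h => ⟨Finset.mem_univ _, h⟩⟩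

end Group

end Full

end Cfsg.Agent.H996.PQ

private theorem dce_997ee94f74b5 : _root_.True := by
  try have : _root_.True := by simp only [_root_.Cfsg.Agent.H996.PQ.sph0.congr_simp]
  try have : _root_.True := by simp only [_root_.Cfsg.Agent.H996.PQ.sph0.eq_1]
  exact _root_.True.intro
end

-- part: H996/PQ/FullTwEa_mg
section
set_option linter.all false

-- part: H996/PQ/FullTwEa
section
/-!
# Full certificate: `²E₆`, node `0` (helper996, for S4612; made by a program)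

`|G : P| = 1*q^0*P2*P3*P4*P6*P8*P12*P18`, number of the long root subgroups `1*q^0*P2*P3*P4*P6*P8*P12*P18` (`Pn` the cyclotomic
polynomials at `q`). Constituents (degree, `D`):
* `0`: degree `1*q^0 / 1`, `D = 0`
* `1`: degree `1*q^1*P8*P18 / 1`, `D = 1*q^10*P2*P3*P4*P6*P12`
* `2`: degree `1*q^2*P4*P8*P10*P12 / 1`, `D = 1*q^10*P2*P3*P6*P18`
* `3`: degree `1*q^3*P2^4*P6^2*P10*P18 / 2`, `D = 1*q^9*P3*P4*P8*P12`
* `4`: degree `1*q^3*P3^2*P8*P10*P18 / 2`, `D = 1*q^9*P2*P4*P6*P12*(-1 + 1*q + 1*q^2 + 1*q^3)`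
-/

set_option autoImplicit false
set_option maxRecDepth 20000

namespace Cfsg.Agent.H996.PQ.FullTwEa

open Cfsg.Agent.H967.Sph Cfsg.Agent.H64.Dl.Sph Cfsg.Agent.H996.Eight Cfsg.Agent.H996.Eight.Cert Cfsg.Agent.H996.Eight.En

def c0 : Crt 5 := ⟨[], fun _ => [1], [], [1], 1⟩

/-- the certificates -/
def C (i : Fin 5) : Crt 5 := ([c0, TabTwEa.c1, TabTwEa.c2, TabTwEa.c3, TabTwEa.c4] : List (Crt 5)).getD i c0


/-- the polynomials -/
def pol : Pol 5 where
  N := [1, 1, 1, 0, 1, 1, 2, 1, 1, 1, 2, 2, 1, 1, 1, 2, 1, 1, 0, 1, 1, 1]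
  dn i := (C i).dn
  den i := (C i).den
  D i := ([[], [0, 0, 0, 0, 0, 0, 0, 0, 0, 0, 1, 1, 1, 1, 1, 1, 1, 1, 1, 1, 1, 1], [0, 0, 0, 0, 0, 0, 0, 0, 0, 0, 1, 1, 1, 0, 0, 0, 0, 0, 0, 1, 1, 1], [0, 0, 0, 0, 0, 0, 0, 0, 0, 1, 1, 1, 0, 1, 1, 2, 1, 1, 0, 1, 1, 1], [0, 0, 0, 0, 0, 0, 0, 0, 0, -1, 1, 1, 0, 1, 1, 0, 1, 1, 0, 1, 1, 1]] : List (List ℤ)).getD i []
  o := 0
  nu i := (C i).nu

/-- the long roots -/
def rt : RTab 4 12 where
  V := 95804355709607688306258705470107305653006388174070834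
  S := 1699689687821084979630105002185708523317618492525406147924862532433349034004965152026569243572471733938715872985089
  P := 280384106402320
  Q := 1099511627776

/-- **The full certificate.** -/
def full : Full TabTwEa.A 0 24 5 ![2, 3, 4, 2] where
  Da := TabTwEa.data
  C := C
  i₀ := 0
  P := pol
  hP := ⟨rfl, rfl, rfl, by decide +kernel⟩
  hN := by decide +kernel
  triv := ⟨by decide +kernel, rfl, rfl⟩
  ok := fun i => match i with
    | 0 => fun h => absurd rfl h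
    | 1 => fun _ => ⟨ok1_of_ok TabTwEa.ok1, TabTwEa.dvd1⟩
    | 2 => fun _ => ⟨ok1_of_ok TabTwEa.ok2, TabTwEa.dvd2⟩
    | 3 => fun _ => ⟨ok1_of_ok TabTwEa.ok3, TabTwEa.dvd3⟩
    | 4 => fun _ => ⟨ok1_of_ok TabTwEa.ok4, TabTwEa.dvd4⟩
  uq := fun i => match i with
    | 0 => fun h => absurd rfl h
    | 1 => fun _ => uq_of_ok TabTwEa.ok1
    | 2 => fun _ => uq_of_ok TabTwEa.ok2
    | 3 => fun _ => uq_of_ok TabTwEa.ok3
    | 4 => fun _ => uq_of_ok TabTwEa.ok4
  FF := [0, 0, 0, 0, 0, 0, 0, 0, 0, 1, 1]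
  LL := 2
  cf i := ([[0, 0, 0, 0, 0, 0, 0, 0, 0, 2, 2], [0, 0, 0, 0, 2, 0, 0, -2, 2, 0, 2, -2, 0, 0, 2], [0, 0, 2, 0, 0, 0, 2, 0, 2, 0, 0, 0, 2], [1, 1, 0, 0, 0, 0, 0, 0, 0, 1, 1], [1, 1, 1, -1, 0, 0, 2, 0, 0, -1, 1, 1, 1]] : List (List ℤ)).getD i []
  hF := by decide +kernel
  hcf := by decide +kernel
  hsum := by decide +kernel
  hne := by decide +kernel
  NL := [1, 1, 1, 0, 1, 1, 2, 1, 1, 1, 2, 2, 1, 1, 1, 2, 1, 1, 0, 1, 1, 1]
  nr := 12
  nz := ⟨by decide⟩
  Z := rt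
  hZ := ⟨by decide +kernel, by decide +kernel, by decide +kernel⟩
  kap n := ([0, 1, 4] : List (Fin 5)).getD n 0
  hkap := by decide +kernel
  VV c := ([[1, 1, 1, 0, 1, 1, 2, 1, 1, 1, 2, 1, 0, 1, 0, 1], [0, 0, 0, 0, 0, 0, 0, 0, 0, 0, 0, 1, 1, 0, 1, 1, 1, 1, 0, 1, 1], [], [], [0, 0, 0, 0, 0, 0, 0, 0, 0, 0, 0, 0, 0, 0, 0, 0, 0, 0, 0, 0, 0, 1]] : List (List ℤ)).getD c []
  hVV := by decide +kernel
  hD := by decide +kernel

end Cfsg.Agent.H996.PQ.FullTwEa
end

-- part: H996/PQ/FullTwEb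
section
/-!
# Full certificate: `²E₆`, node `3` (helper996, for S4612; made by a program)

`|G : P| = 1*q^0*P2^2*P3*P4*P6^2*P10*P12*P18`, number of the long root subgroups `1*q^0*P2*P3*P4*P6*P8*P12*P18` (`Pn` the cyclotomic
polynomials at `q`). Constituents (degree, `D`):
* `0`: degree `1*q^0 / 1`, `D = 0`
* `1`: degree `1*q^2*P4*P8*P10*P12 / 1`, `D = 1*q^10*P2*P3*P6*P18`
* `2`: degree `1*q^3*P4^2*P10*P12*P18 / 2`, `D = 1*q^9*P1*P2*P3^2*P6*P8`
* `3`: degree `1*q^3*P3^2*P8*P10*P18 / 2`, `D = 1*q^9*P2*P4*P6*P12*(-1 + 1*q + 1*q^2 + 1*q^3)`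
* `4`: degree `1*q^6*P4^2*P8*P12*P18 / 1`, `D = 1*q^9*P2*P3*P6*P10*(-1 + 1*q^2 + 1*q^3)`
-/

set_option autoImplicit false
set_option maxRecDepth 20000

namespace Cfsg.Agent.H996.PQ.FullTwEb

open Cfsg.Agent.H967.Sph Cfsg.Agent.H64.Dl.Sph Cfsg.Agent.H996.Eight Cfsg.Agent.H996.Eight.Cert Cfsg.Agent.H996.Eight.En

def c0 : Crt 5 := ⟨[], fun _ => [1], [], [1], 1⟩

/-- the certificates -/
def C (i : Fin 5) : Crt 5 := ([c0, TabTwEb.c1, TabTwEb.c2, TabTwEb.c3, TabTwEb.c4] : List (Crt 5)).getD i c0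


/-- the polynomials -/
def pol : Pol 5 where
  N := [1, 0, 1, 0, 1, 1, 1, 1, 1, 2, 1, 2, 0, 2, 1, 2, 1, 1, 1, 1, 1, 0, 1, 0, 1]
  dn i := (C i).dn
  den i := (C i).den
  D i := ([[], [0, 0, 0, 0, 0, 0, 0, 0, 0, 0, 1, 1, 1, 0, 0, 0, 0, 0, 0, 1, 1, 1], [0, 0, 0, 0, 0, 0, 0, 0, 0, -1, -1, -1, 0, -1, -1, 0, 1, 1, 0, 1, 1, 1], [0, 0, 0, 0, 0, 0, 0, 0, 0, -1, 1, 1, 0, 1, 1, 0, 1, 1, 0, 1, 1, 1], [0, 0, 0, 0, 0, 0, 0, 0, 0, -1, 0, 0, 1, 0, 0, 1, 1, 1, 0, 1, 1, 1]] : List (List ℤ)).getD i []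
  o := 0
  nu i := (C i).nu

/-- the long roots -/
def rt : RTab 4 12 where
  V := 95804355709607688306258705470107305653006388174070834
  S := 1699689687821084979630105002185708523317618492525406147924862532433349034004965152026569243572471733938715872985089
  P := 280384106402320
  Q := 1099511627776

/-- **The full certificate.** -/
def full : Full TabTwEb.A 3 24 5 ![2, 3, 4, 2] where
  Da := TabTwEb.data
  C := C
  i₀ := 0
  P := pol
  hP := ⟨rfl, rfl, rfl, by decide +kernel⟩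
  hN := by decide +kernel
  triv := ⟨by decide +kernel, rfl, rfl⟩
  ok := fun i => match i with
    | 0 => fun h => absurd rfl h
    | 1 => fun _ => ⟨ok1_of_ok TabTwEb.ok1, TabTwEb.dvd1⟩
    | 2 => fun _ => ⟨ok1_of_ok TabTwEb.ok2, TabTwEb.dvd2⟩
    | 3 => fun _ => ⟨ok1_of_ok TabTwEb.ok3, TabTwEb.dvd3⟩
    | 4 => fun _ => ⟨ok1_of_ok TabTwEb.ok4, TabTwEb.dvd4⟩
  uq := fun i => match i with
    | 0 => fun h => absurd rfl h
    | 1 => fun _ => uq_of_ok TabTwEb.ok1
    | 2 => fun _ => uq_of_ok TabTwEb.ok2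
    | 3 => fun _ => uq_of_ok TabTwEb.ok3
    | 4 => fun _ => uq_of_ok TabTwEb.ok4
  FF := [0, 0, 0, 0, 0, 0, 0, 0, 0, 1]
  LL := 2
  cf i := ([[0, 0, 0, 0, 0, 0, 0, 0, 0, 2], [0, 0, 2, -2, 2, -2, 2, 0, 2, -2, 2, -2, 2], [1, -1, 1, -2, 2, -1, 3, -3, 2, -3, 3, -1, 2, -2, 1, -1, 1], [1, 0, 1, -2, 1, -1, 3, -1, 1, -2, 1, 0, 1], [2, 0, 0, -2, 0, 0, 4, 0, 0, -2, 0, 0, 2]] : List (List ℤ)).getD i []
  hF := by decide +kernel
  hcf := by decide +kernel
  hsum := by decide +kernel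
  hne := by decide +kernel
  NL := [1, 1, 1, 0, 1, 1, 2, 1, 1, 1, 2, 2, 1, 1, 1, 2, 1, 1, 0, 1, 1, 1]
  nr := 12
  nz := ⟨by decide⟩
  Z := rt
  hZ := ⟨by decide +kernel, by decide +kernel, by decide +kernel⟩
  kap n := ([0, 0, 2] : List (Fin 5)).getD n 0
  hkap := by decide +kernel
  VV c := ([[1, 0, 1, 0, 1, 1, 1, 1, 1, 2, 1, 2, 0, 2, 1, 1, 1, 0, 1], [], [0, 0, 0, 0, 0, 0, 0, 0, 0, 0, 0, 0, 0, 0, 0, 1, 0, 1, 0, 1, 1, 0, 1, 0, 1], [], []] : List (List ℤ)).getD c []
  hVV := by decide +kernel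
  hD := by decide +kernel

end Cfsg.Agent.H996.PQ.FullTwEb
end
end

-- part: H996/PQ/RowE8
section
prune_inst 0x80000000000000c010000
set_option linter.all false

-- part: H996/PQ/FullE8a
section
/-!
# Full certificate: `E₈`, node `7` (helper996, for S4612; made by a program)

`|G : P| = 1*q^0*P2*P3*P4^2*P5*P6*P8*P10*P12*P15*P20*P24*P30`, number of the long root subgroups `1*q^0*P2*P3*P4^2*P5*P6*P8*P10*P12*P15*P20*P24*P30` (`Pn` the cyclotomic
polynomials at `q`). Constituents (degree, `D`):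
* `0`: degree `1*q^0 / 1`, `D = 0`
* `1`: degree `1*q^1*P4^2*P8*P12*P20*P24 / 1`, `D = 1*q^28*P2*P3*P5*P6*P10*P15*P30`
* `2`: degree `1*q^2*P5*P7*P10*P14*P15*P20*P30 / 1`, `D = 1*q^28*P2*P3*P4^2*P6*P8*P12^2*P24`
* `3`: degree `1*q^3*P4^2*P7*P8*P9*P12*P14*P20*P24*P30 / 2`, `D = 1*q^27*P2*P3*P5*P6*P10*P15*(-1 + 1*q + 2*q^2 + 1*q^3 + -1*q^4 + -1*q^5 + -1*q^6 + 1*q^8 + 1*q^9)`
* `4`: degree `1*q^3*P2^4*P6^2*P7*P8*P10^2*P14*P18*P24*P30 / 2`, `D = 1*q^27*P3*P4^2*P5*P12*P15*P20`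
-/

set_option autoImplicit false
set_option maxRecDepth 20000

namespace Cfsg.Agent.H996.PQ.FullE8a

open Cfsg.Agent.H967.Sph Cfsg.Agent.H64.Dl.Sph Cfsg.Agent.H996.Eight Cfsg.Agent.H996.Eight.Cert Cfsg.Agent.H996.Eight.En

def c0 : Crt 5 := ⟨[], fun _ => [1], [], [1], 1⟩

/-- the certificates -/
def C (i : Fin 5) : Crt 5 := ([c0, TabE8a.c1, TabE8a.c2, TabE8a.c3, TabE8a.c4] : List (Crt 5)).getD i c0


/-- the polynomials -/
def pol : Pol 5 where
  N := [1, 1, 1, 1, 1, 1, 2, 2, 2, 2, 3, 3, 4, 4, 4, 4, 5, 5, 6, 6, 6, 6, 7, 7, 7, 7, 7, 7, 8, 8, 7, 7, 7, 7, 7, 7, 6, 6, 6, 6, 5, 5, 4, 4, 4, 4, 3, 3, 2, 2, 2, 2, 1, 1, 1, 1, 1, 1]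
  dn i := (C i).dn
  den i := (C i).den
  D i := ([[], [0, 0, 0, 0, 0, 0, 0, 0, 0, 0, 0, 0, 0, 0, 0, 0, 0, 0, 0, 0, 0, 0, 0, 0, 0, 0, 0, 0, 1, 1, 1, 1, 1, 1, 1, 1, 1, 1, 1, 1, 1, 1, 1, 1, 1, 1, 1, 1, 1, 1, 1, 1, 1, 1, 1, 1, 1, 1], [0, 0, 0, 0, 0, 0, 0, 0, 0, 0, 0, 0, 0, 0, 0, 0, 0, 0, 0, 0, 0, 0, 0, 0, 0, 0, 0, 0, 1, 1, 1, 1, 1, 1, 2, 2, 2, 2, 2, 2, 2, 2, 2, 2, 2, 2, 2, 2, 2, 2, 2, 2, 1, 1, 1, 1, 1, 1], [0, 0, 0, 0, 0, 0, 0, 0, 0, 0, 0, 0, 0, 0, 0, 0, 0, 0, 0, 0, 0, 0, 0, 0, 0, 0, 0, -1, 1, 1, 1, 1, 1, 2, 2, 2, 2, 3, 3, 3, 3, 3, 4, 3, 3, 3, 3, 3, 2, 2, 2, 2, 1, 1, 1, 1, 1, 1], [0, 0, 0, 0, 0, 0, 0, 0, 0, 0, 0, 0, 0, 0, 0, 0, 0, 0, 0, 0, 0, 0, 0, 0, 0, 0, 0, 1, 1, 1, 1, 1, 1, 2, 2, 2, 2, 3, 3, 3, 3, 3, 2, 3, 3, 3, 3, 3, 2, 2, 2, 2, 1, 1, 1, 1, 1, 1]] : List (List ℤ)).getD i []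
  o := 0
  nu i := (C i).nu

/-- the long roots -/
def rt : RTab 8 120 where
  V := 2100020286289708022728750121353947231689149176131912325417323069374807835891849100212416534538317675140526809684235181136627093156390183586601159224906995976684953872587104286477133692106859835989227407083354270609659533458284018605019031941012835377317560878819079989014503705857133098782434834491039744480946571953879089108643472542769077949406607736255405738470995239103581405806692099376381953985693141059592821474177949835009960827225527723761209748605186542473985172662065636952808873603149327288232329761821657623959632822807653143402132655831391129433987407290990579474021911603171787917649960784558302928180037753895779246618086883096189853616253652864584241164493512303419004158779014873642243254498171001062346406103240086406459520261836198760589318237630660607998698669433018161389460301660248809362897346120954833972953025103501505969479269799359877178924907819785695329615596822525807244550432347535851609482138115802707504598757478167818025249219205395213804627611311169833732175970007928304449087461746399482570597277503037777165807227478115674304167790169080502056825462612882845951152388383556341601143829362856222719976197678130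
  S := 37964132487728913253175362948305392475973385062606356889301558574814353954091346062601644884844939245501598891705383148703981347267602077731761859722854707120404705595324031880450139790527700080912751173200870966554648662813735960087009924262711139954931187793546877306276362539281141757458644863126591326941807227369305135687005343775797432424935682930925480823846806745891691724103519271011012930799813166770230735359537288166760017935190406487037793130803677132387830000046535178659935876980511657723610491045336770024818425302100163733093705712911777580618521613430585450772523610792362702528705506122013795364113684401887278657113010765590241074955748848522155754598790110918982900477428794011507423557488169025148206426824013083701794965572754856453986804804964748660499872846122628884739197736559307800172411277327439953094484842373370867549785774631007555446011621403008194072510814872127115834995040291603776752622356390803756214639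734866442794916201787764101644634841920777784623825056507901052245862211404481912062454441857053460485649249957665169850872102099617962262259078746246886911897722716885634923679540340337649136224750688742446138458630344752424238765666029135826170624611029734259488452111917757494626167823548513568369493151367573398015727958946783305540912284834006391897162114537245094320408762560821931451942498792004387182322219561378478310746534722832780729317632069631632896706654587793177122548916204528288775605457817920583318587907247449777632270206174712264099206329841450720056604412030537277818290311714285638257484454359457787492349741240893493099450832805834057354528303103699219245284802748997963372541380474543996577477459297022974654748853517404185174313443294452498134724178859696958810458557047278580754513114713129462866000487085367316697915884752765001477457896981703876872532363579271126882088938781910550161137719550952602048717317641132121721705323170325083560520739322861792047887464197118276286402434105223954094095428346582152005043375095793794894731264691667198103078956383480262451067729861313944682399277178187383245537826734191548547704281695918876679895641493826707236656393219554167524455867580563545380663329866731180367081429897166105803270439538666786787144180493493933796065651233245941144571489219885261475449335650542796179662459423036761761959116800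
  P := 3121748549592383900151901456947904276636282735688336713846040764147481848205762391658192120977814351001631776467453447822990223950601748483360103
  Q := 13874437610526695962725170992555491339111331048330517811971874069178033946499607815107366135974999265753046658973962260165513092096006614417408

/-- **The full certificate.** -/
def full : Full TabE8a.A 7 240 5 ![2, 3, 4, 6, 5, 4, 3, 2] where
  Da := TabE8a.data
  C := C
  i₀ := 0
  P := pol
  hP := ⟨rfl, rfl, rfl, by decide +kernel⟩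
  hN := by (simp only [Cfsg.Agent.H996.Eight.Kq.pEq_eq]; decide +kernel)
  triv := ⟨by decide +kernel, rfl, rfl⟩
  ok := fun i => match i with
    | 0 => fun h => absurd rfl h
    | 1 => fun _ => ⟨ok1_of_ok TabE8a.ok1, TabE8a.dvd1⟩
    | 2 => fun _ => ⟨ok1_of_ok TabE8a.ok2, TabE8a.dvd2⟩
    | 3 => fun _ => ⟨ok1_of_ok TabE8a.ok3, TabE8a.dvd3⟩
    | 4 => fun _ => ⟨ok1_of_ok TabE8a.ok4, TabE8a.dvd4⟩
  uq := fun i => match i with
    | 0 => fun h => absurd rfl h
    | 1 => fun _ => uq_of_ok TabE8a.ok1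
    | 2 => fun _ => uq_of_ok TabE8a.ok2
    | 3 => fun _ => uq_of_ok TabE8a.ok3
    | 4 => fun _ => uq_of_ok TabE8a.ok4
  FF := [0, 0, 0, 0, 0, 0, 0, 0, 0, 0, 0, 0, 0, 0, 0, 0, 0, 0, 0, 0, 0, 0, 0, 0, 0, 0, 0, 1, 1, 0, -1, -1, 0, 1, 1]
  LL := 2
  cf i := ([[0, 0, 0, 0, 0, 0, 0, 0, 0, 0, 0, 0, 0, 0, 0, 0, 0, 0, 0, 0, 0, 0, 0, 0, 0, 0, 0, 2, 2, 0, -2, -2, 0, 2, 2], [0, 0, 0, 0, 0, 0, 0, 0, 0, 0, 0, 0, 0, 2, 0, 0, 0, 0, 0, 2, 0, 0, 0, 2, 0, 2, 0, 0, 0, 2, 0, 2, 0, 0, 0, 2, 0, 0, 0, 0, 0, 2], [0, 0, 0, 0, 0, 2, 0, -2, 0, 2, 0, 0, 0, 0, 0, 2, 0, 0, 0, 0, 0, 2, 0, 0, 0, 0, 0, 2, 0, 0, 0, 0, 0, 2, 0, -2, 0, 2], [1, 1, 0, -2, -2, -1, 3, 4, 2, -3, -3, -2, 3, 3, 1, -4, -1, 1, 5, 2, -1, -6, -1, 2, 5, 1, -1, -4, 1, 3, 3, -2, -3, -3, 2, 4, 3, -1, -2, -2, 0, 1, 1], [1, 1, 0, -1, -1, 0, 1, 1, 0, 0, 0, 0, 1, 1, 0, 0, 0, 0, 0, 0, 0, 1, 1, 0, 0, 0, 0, 1, 1, 0, -1, -1, 0, 1, 1]] : List (List ℤ)).getD i []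
  hF := by decide +kernel
  hcf := by (simp only [Cfsg.Agent.H996.Eight.Kq.pEq_eq]; decide +kernel)
  hsum := by (simp only [Cfsg.Agent.H996.Eight.Kq.pEq_eq, Cfsg.Agent.H996.Eight.Kq.pZero_eq]; decide +kernel)
  hne := by (simp only [Cfsg.Agent.H996.Eight.Kq.pNV_eq]; decide +kernel)
  NL := [1, 1, 1, 1, 1, 1, 2, 2, 2, 2, 3, 3, 4, 4, 4, 4, 5, 5, 6, 6, 6, 6, 7, 7, 7, 7, 7, 7, 8, 8, 7, 7, 7, 7, 7, 7, 6, 6, 6, 6, 5, 5, 4, 4, 4, 4, 3, 3, 2, 2, 2, 2, 1, 1, 1, 1, 1, 1]
  nr := 120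
  nz := ⟨by decide⟩
  Z := rt
  hZ := ⟨by decide +kernel, by decide +kernel, by decide +kernel⟩
  kap n := ([0, 1, 4] : List (Fin 5)).getD n 0
  hkap := by decide +kernel
  VV c := ([[1, 1, 1, 1, 1, 1, 2, 2, 2, 2, 3, 3, 4, 4, 4, 4, 5, 5, 6, 6, 6, 6, 7, 7, 7, 7, 7, 7, 8, 7, 6, 6, 6, 6, 5, 5, 4, 4, 3, 3, 2, 2, 1, 1, 1, 1], [0, 0, 0, 0, 0, 0, 0, 0, 0, 0, 0, 0, 0, 0, 0, 0, 0, 0, 0, 0, 0, 0, 0, 0, 0, 0, 0, 0, 0, 1, 1, 1, 1, 1, 2, 2, 2, 2, 3, 3, 3, 3, 3, 3, 3, 3, 3, 3, 2, 2, 2, 2, 1, 1, 1, 1, 1], [], [], [0, 0, 0, 0, 0, 0, 0, 0, 0, 0, 0, 0, 0, 0, 0, 0, 0, 0, 0, 0, 0, 0, 0, 0, 0, 0, 0, 0, 0, 0, 0, 0, 0, 0, 0, 0, 0, 0, 0, 0, 0, 0, 0, 0, 0, 0, 0, 0, 0, 0, 0, 0, 0, 0, 0, 0, 0, 1]] : List (List ℤ)).getD c []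
  hVV := by (delta Cfsg.Agent.H996.PQ.ChkC; simp only [Cfsg.Agent.H996.Eight.Kq.pEq_eq]; decide +kernel)
  hD := by (simp only [Cfsg.Agent.H996.Eight.Kq.pEq_eq]; decide +kernel)

end Cfsg.Agent.H996.PQ.FullE8a
end

-- part: H996/PQ/RowE8
section
/-!
# The separation theorem and the polynomials: `E₈(q)`, node `7` (helper996, for S4612; made by a program)
-/

set_option autoImplicit false

namespace Cfsg.Agent.H996.PQ.FullE8a

open Cfsg Cfsg.Agent.H317.PQ Cfsg.Agent.H996.Eight Cfsg.Agent.H996.Eight.Cert Cfsg.Agent.H35.ExcIdx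
open Cfsg.Lie Cfsg.Agent.ChevalleyStructure.CoxeterGeomTypes Cfsg.Agent.Nodes.RGDChev

universe u

theorem evdn3 (x : ℤ) : evZ x (pol.dn 3) = x ^ 3 * (x ^ 2 + 1) ^ 2 * (x ^ 6 + x ^ 5 + x ^ 4 + x ^ 3 + x ^ 2 + x + 1) * (x ^ 4 + 1) * (x ^ 6 + x ^ 3 + 1) * (x ^ 4 - x ^ 2 + 1) * (x ^ 6 - x ^ 5 + x ^ 4 - x ^ 3 + x ^ 2 - x + 1) * (x ^ 8 - x ^ 6 + x ^ 4 - x ^ 2 + 1) * (x ^ 8 - x ^ 4 + 1) * (x ^ 8 + x ^ 7 - x ^ 5 - x ^ 4 - x ^ 3 + x + 1) :=
  Cfsg.Agent.H996.Eight.Kq.ev_of (by decide +kernel)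

/-- the degrees: `evdn` -/
theorem deg {x : ℕ} (hx : 2 ≤ x) (i : Fin 5) : (pol.den i : ℤ) * (pol.deg x i : ℤ) = evZ x (pol.dn i) :=
  full.degZ hx i

theorem hA : cartanOf chevE8 8 = TabE8a.A := by
  funext i k
  revert i k
  decide +kernel

end Cfsg.Agent.H996.PQ.FullE8a
end
end

-- part: H423/PQ/CoVal
section
prune_inst 0x1003044004000000018000222204606ca00002200488800100006000bc21e42a001084120200c12101884910001000811000000420000000a0004000000000008800600a1088008e00016002102600000000000000000000000800000041004008000000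
set_option linter.all false
open scoped Cfsg.Agent.FastGrp

-- part: H423/PQ/CoSt
section
/-!
# The spherical machine for parabolic subgroups of higher corank: states (helper423, for S4612)

As `H967.Sph.Table`, `State`, `Oper`, `Count`, with the vector `e_j` replaced by a vector `c ≥ 0`; the parabolic
subgroup is that of the nodes `i` with `c i = 0`.
-/

set_option autoImplicit false
set_option linter.unusedSectionVars false

namespace Cfsg.Agent.H423.PQ.Co

open CoxeterSystem Cfsg.Agent.ChevalleyStructure.CoxeterGeom Cfsg.Agent.Tits.Roots Cfsg.Agent.Tits.Core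
  Cfsg.Agent.Tits.Exchange Cfsg.Agent.Nodes.Reps Cfsg.Agent.Nodes.BNOf Cfsg.Agent.Nodes.Bruhat
  Cfsg.Agent.Nodes.LeviDec
open Cfsg.Agent.H967.Sph (wOf cell_wOf cell_pos cell_neg opT opT_apply opT_left sum_opT eq_sum_sr)

/-- The states `vec s : I → ℤ` are the vectors `k ↦ ∑ j, c j * (w α_k)_j`, `w ∈ W`; `o` is the state of `w = 1`; `st i` is
right multiplication by `s_i`; `cls` numbers the classes under the `st i`, `c i = 0`. -/
structure Tab {I : Type*} [DecidableEq I] (A : I → I → ℤ) (c : I → ℤ) (N m : ℕ) where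
  nn : ∀ i, 0 ≤ c i
  vec : Fin N → I → ℤ
  st : I → Fin N → Fin N
  cls : Fin N → Fin m
  o : Fin N
  vec_o : ∀ k, vec o k = c k
  vec_inj : ∀ a b, vec a = vec b → a = b
  vec_st : ∀ i a k, vec (st i a) k = vec a k - A i k * vec a i
  path : Fin N → List I
  path_spec : ∀ a, (path a).foldl (fun b i => st i b) o = a
  cls_st : ∀ i, c i = 0 → ∀ a, cls (st i a) = cls a
  crep : Fin m → Fin N
  cpath : Fin N → List I
  cpath_ne : ∀ a, ∀ i ∈ cpath a, c i = 0
  cpath_spec : ∀ a, (cpath a).foldl (fun b i => st i b) (crep (cls a)) = a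

/-- The operator `T_i` on the functions of the state. -/
def Tab.tau {I : Type*} [DecidableEq I] {A : I → I → ℤ} {c : I → ℤ} {N m : ℕ} (t : Tab A c N m) (q : I → ℕ) (i : I)
    (φ : Fin N → ℚ) (s : Fin N) : ℚ :=
  if t.vec s i < 0 then φ (t.st i s) + ((q i : ℚ) - 1) * φ s else (q i : ℚ) * φ (t.st i s)

section State

variable {I W : Type*} [Fintype I] [DecidableEq I] [Group W] {M : CoxeterMatrix I}
  (cs : CoxeterSystem M W) {A : I → I → ℤ} (h : IsCartan M A) {c : I → ℤ} {N m : ℕ}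

/-- The weight vector of `w`. -/
def lam (c : I → ℤ) (w : W) (k : I) : ℤ := ∑ j, c j * rep cs h w (sr k) j

theorem lam_one : lam cs h c 1 = c := by
  funext k
  rw [lam, Finset.sum_eq_single k]
  · rw [map_one, Module.End.one_apply, sr_self, mul_one]
  · intro j _ hj
    rw [map_one, Module.End.one_apply, sr_ne hj, mul_zero]
  · exact fun h => absurd (Finset.mem_univ _) h

theorem lam_mul_simple (w : W) (i k : I) :
    lam cs h c (w * cs.simple i) k = lam cs h c w k - A i k * lam cs h c w i := by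
  have h1 : ∀ j, rep cs h (w * cs.simple i) (sr k) j = rep cs h w (sr k) j - A i k * rep cs h w (sr i) j := by
    intro j
    rw [rep_mul_apply, rep_simple_eq, map_sub, map_smul, Pi.sub_apply, Pi.smul_apply, smul_eq_mul, sr,
      pairing_single, mul_one]
  rw [lam, Finset.sum_congr rfl fun j _ => by rw [h1 j], lam, lam, Finset.mul_sum, ← Finset.sum_sub_distrib]
  exact Finset.sum_congr rfl fun j _ => by ring

/-- left multiplication by `s_i`, `c i = 0`, does not change the weight -/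
theorem rep_apply_of_mem {v : W} (hv : v ∈ WJ cs {i | c i = 0}) (x : I → ℤ) :
    ∑ j, c j * rep cs h v x j = ∑ j, c j * x j := by
  obtain ⟨ω, hω, rfl⟩ := exists_word_of_mem_WJ cs hv
  clear hv
  induction ω with
  | nil => rw [wordProd_nil, map_one]; rfl
  | cons i ω ih =>
    rw [← ih fun k hk => hω k (by simp [hk])]
    refine Finset.sum_congr rfl fun j _ => ?_
    rw [wordProd_cons, rep_mul_apply]
    by_cases hj : j = i
    · subst hj
      have h1 : c j = 0 := hω j (by simp)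
      rw [h1, zero_mul, zero_mul]
    · rw [rep_simple_apply cs h i _ j hj]

theorem lam_mul_left {v : W} (hv : v ∈ WJ cs {i | c i = 0}) (w : W) : lam cs h c (v * w) = lam cs h c w := by
  funext k
  have h1 := rep_apply_of_mem cs h hv (rep cs h w (sr k))
  rw [lam, lam, ← h1]
  exact Finset.sum_congr rfl fun j _ => by rw [rep_mul_apply]

/-- an element fixing the weight lies in `W_J`, `J = {i | c i = 0}` -/
theorem mem_WJ_of_fix (hc : ∀ i, 0 ≤ c i) : ∀ {u : W}, (∀ x, ∑ j, c j * rep cs h u x j = ∑ j, c j * x j) →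
    u ∈ WJ cs {i | c i = 0} := by
  intro u
  induction hn : cs.length u using Nat.strong_induction_on generalizing u with
  | _ l ih =>
  intro hu
  by_cases hu1 : u = 1
  · rw [hu1]; exact one_mem _
  obtain ⟨i, hi⟩ := cs.exists_leftDescent_of_ne_one hu1
  have hi' : cs.length (cs.simple i * u) < cs.length u := hi
  have hij : c i = 0 := by
    have hneg : rep cs h u⁻¹ (sr i) ≤ 0 := by
      refine nonpos_of_lt cs h u⁻¹ i ?_
      rw [← cs.length_inv u, ← cs.length_inv (cs.simple i * u), mul_inv_rev, inv_simple] at hi'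
      exact hi'
    have h1 := hu (rep cs h u⁻¹ (sr i))
    rw [rep_apply_inv] at h1
    have h2 : ∑ j, c j * (sr i : I → ℤ) j = c i := by
      rw [Finset.sum_eq_single i]
      · rw [sr_self, mul_one]
      · intro j _ hj
        rw [sr_ne hj, mul_zero]
      · exact fun h => absurd (Finset.mem_univ _) h
    have h3 : ∑ j, c j * rep cs h u⁻¹ (sr i) j ≤ 0 :=
      Finset.sum_nonpos fun j _ => mul_nonpos_of_nonneg_of_nonpos (hc j) (hneg j)
    have h4 := hc i
    omega
  have h1 := ih (cs.length (cs.simple i * u)) (by omega) (u := cs.simple i * u) rfl (fun x => by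
    rw [← hu x]
    refine Finset.sum_congr rfl fun j _ => ?_
    rw [rep_mul_apply]
    by_cases hj : j = i
    · subst hj
      rw [hij, zero_mul, zero_mul]
    · rw [rep_simple_apply cs h i _ j hj])
  have h2 : u = cs.simple i * (cs.simple i * u) := by rw [← mul_assoc, simple_mul_simple_self, one_mul]
  rw [h2]
  exact mul_mem (simple_mem_WJ cs hij) h1

theorem mem_WJ_of_lam (hc : ∀ i, 0 ≤ c i) {w w' : W} (he : lam cs h c w = lam cs h c w') :
    w' * w⁻¹ ∈ WJ cs {i | c i = 0} := by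
  apply mem_WJ_of_fix cs h hc
  have h1 : ∀ y : I → ℤ, ∑ j, c j * rep cs h w' y j = ∑ j, c j * rep cs h w y j := by
    intro y
    have key : ∀ v : W, ∑ j, c j * rep cs h v y j = ∑ k, y k * lam cs h c v k := by
      intro v
      have h2 : ∀ j, rep cs h v y j = ∑ k, y k * rep cs h v (sr k) j := by
        intro j
        conv_lhs => rw [eq_sum_sr y]
        rw [map_sum, Finset.sum_apply]
        refine Finset.sum_congr rfl fun k _ => ?_
        rw [map_smul, Pi.smul_apply, smul_eq_mul]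
      rw [Finset.sum_congr rfl fun j _ => by rw [h2 j, Finset.mul_sum], Finset.sum_comm]
      refine Finset.sum_congr rfl fun k _ => ?_
      rw [lam, Finset.mul_sum]
      exact Finset.sum_congr rfl fun j _ => by ring
    rw [key, key, he]
  intro x
  have h2 : ∀ j, rep cs h (w' * w⁻¹) x j = rep cs h w' (rep cs h w⁻¹ x) j := fun j => by rw [rep_mul_apply]
  rw [Finset.sum_congr rfl fun j _ => by rw [h2 j], h1, rep_apply_inv]

namespace Tab

variable (t : Tab A c N m)

theorem exists_state (w : W) : ∃ s, t.vec s = lam cs h c w := by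
  obtain ⟨ω, rfl⟩ := cs.wordProd_surjective w
  induction ω using List.reverseRecOn with
  | nil => exact ⟨t.o, by rw [wordProd_nil, lam_one]; exact funext t.vec_o⟩
  | append_singleton ω i ih =>
    obtain ⟨s, hs⟩ := ih
    refine ⟨t.st i s, ?_⟩
    rw [wordProd_append, wordProd_singleton]
    funext k
    rw [t.vec_st, lam_mul_simple, hs]

/-- The state of `w`. -/
noncomputable def sw (w : W) : Fin N := (t.exists_state cs h w).choose

theorem vec_sw (w : W) : t.vec (t.sw cs h w) = lam cs h c w := (t.exists_state cs h w).choose_spec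

theorem sw_eq {w : W} {s : Fin N} (hs : t.vec s = lam cs h c w) : t.sw cs h w = s :=
  t.vec_inj _ _ (by rw [vec_sw, hs])

theorem sw_one : t.sw cs h 1 = t.o := t.sw_eq cs h (by rw [lam_one]; exact funext t.vec_o)

theorem sw_mul_simple (w : W) (i : I) : t.sw cs h (w * cs.simple i) = t.st i (t.sw cs h w) := by
  apply t.sw_eq cs h
  funext k
  rw [t.vec_st, lam_mul_simple, vec_sw]

theorem sw_mul_left {v : W} (hv : v ∈ WJ cs {i | c i = 0}) (w : W) : t.sw cs h (v * w) = t.sw cs h w :=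
  t.sw_eq cs h (by rw [vec_sw, lam_mul_left cs h hv])

theorem mem_WJ_of_sw {w w' : W} (he : t.sw cs h w = t.sw cs h w') : w' * w⁻¹ ∈ WJ cs {i | c i = 0} := by
  apply mem_WJ_of_lam cs h t.nn
  rw [← vec_sw cs h t, ← vec_sw cs h t, he]

theorem sw_wordProd (w : W) (ω : List I) :
    t.sw cs h (w * cs.wordProd ω) = ω.foldl (fun b i => t.st i b) (t.sw cs h w) := by
  induction ω generalizing w with
  | nil => rw [wordProd_nil, mul_one, List.foldl_nil]
  | cons i ω ih => rw [wordProd_cons, ← mul_assoc, ih, List.foldl_cons, sw_mul_simple]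

theorem exists_sw (s : Fin N) : ∃ w, t.sw cs h w = s :=
  ⟨cs.wordProd (t.path s), by rw [← one_mul (cs.wordProd _), sw_wordProd, sw_one, t.path_spec]⟩

include cs h in
theorem st_st (i : I) (s : Fin N) : t.st i (t.st i s) = s := by
  obtain ⟨w, rfl⟩ := t.exists_sw cs h s
  rw [← sw_mul_simple, ← sw_mul_simple, simple_mul_simple_cancel_right]

include cs h in
theorem vec_st_self (i : I) (s : Fin N) : t.vec (t.st i s) i = - t.vec s i := by
  rw [t.vec_st, h.diag]; ring

include cs h in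
theorem st_eq_of_zero {i : I} {s : Fin N} (h0 : t.vec s i = 0) : t.st i s = s :=
  t.vec_inj _ _ (by funext k; rw [t.vec_st, h0, mul_zero, sub_zero])

/-- states of the same class are reached from the representative by letters of `J` -/
theorem exists_word {k : Fin m} {w : W} (hw : t.sw cs h w = t.crep k) {w' : W} (hc : t.cls (t.sw cs h w') = k) :
    ∃ v ∈ WJ cs {i | c i = 0}, ∃ u ∈ WJ cs {i | c i = 0}, w' = u * w * v := by
  have h1 := t.cpath_spec (t.sw cs h w')
  rw [hc, ← hw, ← sw_wordProd] at h1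
  refine ⟨_, wordProd_mem_WJ cs (t.cpath_ne (t.sw cs h w')), _, t.mem_WJ_of_sw cs h h1, ?_⟩
  group

end Tab

end State

section Group

variable {I W Y : Type*} [Fintype I] [DecidableEq I] [Group W] [Finite W] [Group Y] {M : CoxeterMatrix I}
  {cs : CoxeterSystem M W} {A : I → I → ℤ} {h : IsCartan M A} {p : ℕ} {T : Subgroup Y} {n : I → Y}
  {X : (I → ℤ) → Subgroup Y} (R : RGD cs h p T n X) (hG : GG cs h T X = ⊤) {c : I → ℤ} {N m : ℕ} (t : Tab A c N m)

/-- The state of `g`. -/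
noncomputable def stY (g : Y) : Fin N := t.sw cs h (wOf R hG g)

theorem stY_eq {w : W} {g : Y} (hg : Cell R.nsys cs h X w g) : stY R hG t g = t.sw cs h w := by
  rw [stY, Cell.unique R (cell_wOf R hG g) hg]

theorem stY_mul_right_B (g : Y) {b : Y} (hb : b ∈ RGD.B cs h T X) : stY R hG t (g * b) = stY R hG t g :=
  stY_eq R hG t ((cell_wOf R hG g).mul_right hb)

/-- the weight vector of a state -/
theorem vec_stY (g : Y) (i : I) : t.vec (stY R hG t g) i = ∑ j, c j * rep cs h (wOf R hG g) (sr i) j := by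
  rw [stY, Tab.vec_sw]
  rfl

theorem vec_nonneg {g : Y} {i : I} (h0 : 0 ≤ rep cs h (wOf R hG g) (sr i)) : 0 ≤ t.vec (stY R hG t g) i := by
  rw [vec_stY]
  exact Finset.sum_nonneg fun j _ => mul_nonneg (t.nn j) (h0 j)

theorem vec_nonpos {g : Y} {i : I} (h0 : rep cs h (wOf R hG g) (sr i) ≤ 0) : t.vec (stY R hG t g) i ≤ 0 := by
  rw [vec_stY]
  exact Finset.sum_nonpos fun j _ => mul_nonpos_of_nonneg_of_nonpos (t.nn j) (h0 j)

theorem stY_pos {g : Y} {i : I} (h0 : 0 ≤ rep cs h (wOf R hG g) (sr i)) {x : Y} (hx : x ∈ X (sr i)) :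
    stY R hG t (g * x * n i) = t.st i (stY R hG t g) := by
  rw [stY_eq R hG t (cell_pos R h0 (cell_wOf R hG g) hx), Tab.sw_mul_simple, stY]

theorem stY_neg {g : Y} {i : I} (h0 : rep cs h (wOf R hG g) (sr i) ≤ 0) :
    ∃ x₀ ∈ X (sr i), stY R hG t (g * x₀ * n i) = t.st i (stY R hG t g) ∧
      ∀ x ∈ X (sr i), x ≠ x₀ → stY R hG t (g * x * n i) = stY R hG t g := by
  obtain ⟨x₀, hx₀, h1, h2⟩ := cell_neg R h0 (cell_wOf R hG g)
  refine ⟨x₀, hx₀, ?_, fun x hx hne => ?_⟩
  · rw [stY_eq R hG t h1, Tab.sw_mul_simple, stY]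
  · rw [stY_eq R hG t (h2 x hx hne), stY]

/-- the elements of state `o` are the elements of the parabolic subgroup -/
theorem stY_eq_o_iff {g : Y} : stY R hG t g = t.o ↔ g ∈ PJ cs h T X {i | c i = 0} := by
  rw [cell_mem_PJ_iff R (cell_wOf R hG g), stY]
  constructor
  · intro h1
    rw [← Tab.sw_one cs h t] at h1
    have h2 := Tab.mem_WJ_of_sw cs h t h1.symm
    rwa [inv_one, mul_one] at h2
  · intro h1
    rw [← Tab.sw_one cs h t, ← mul_one (wOf R hG g), Tab.sw_mul_left cs h t h1]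

/-- left multiplication by the parabolic subgroup does not change the state -/
theorem stY_mul_left {y : Y} (hy : y ∈ PJ cs h T X {i | c i = 0}) (g : Y) : stY R hG t (y * g) = stY R hG t g := by
  -- first for generators
  have key : ∀ (v : W), v ∈ WJ cs {i | c i = 0} → ∀ (k : Y), Rp cs R.nsys v k → ∀ g, stY R hG t (k * g) = stY R hG t g := by
    intro v hv
    obtain ⟨ω, hω, rfl⟩ := exists_word_of_mem_WJ cs hv
    clear hv
    induction ω with
    | nil =>
      intro k hk g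
      rw [wordProd_nil] at hk
      exact stY_eq R hG t ((cell_wOf R hG g).mul_left (RGD.T_le_B hk.mem_of_one))
    | cons i ω ih =>
      intro k hk g
      rw [wordProd_cons] at hk
      have hi : c i = 0 := hω i (by simp)
      have h1 : Rp cs R.nsys (cs.wordProd ω) ((n i)⁻¹ * k) := by
        have := (rp_simple cs R.nsys i).inv.mul hk
        rwa [inv_simple, simple_mul_simple_cancel_left] at this
      have h2 := ih (fun l hl => hω l (by simp [hl])) _ h1 g
      have h3 : k * g = n i * ((n i)⁻¹ * k * g) := by group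
      rw [h3, ← h2]
      generalize (n i)⁻¹ * k * g = g'
      have h4 : cs.simple i ∈ WJ cs {i | c i = 0} := simple_mem_WJ cs hi
      rcases Cell.simple_mul R (cell_of_rp (rp_simple cs R.nsys i)) (cell_wOf R hG g') with h5 | ⟨-, h5⟩
      · rw [stY_eq R hG t h5, Tab.sw_mul_left cs h t h4, stY]
      · rw [stY_eq R hG t h5, stY]
  obtain ⟨v, hv, b₁, hb₁, k, hk, b₂, hb₂, rfl⟩ := (mem_PJ_iff_cell R).1 hy
  have h1 : ∀ b ∈ RGD.B cs h T X, ∀ g, stY R hG t (b * g) = stY R hG t g := fun b hb g =>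
    stY_eq R hG t ((cell_wOf R hG g).mul_left hb)
  rw [mul_assoc, mul_assoc, h1 b₁ hb₁, key v hv k hk, h1 b₂ hb₂]

/-- right multiplication by the parabolic subgroup does not change the class of the state -/
theorem cls_mul_right {y : Y} (hy : y ∈ PJ cs h T X {i | c i = 0}) (g : Y) :
    t.cls (stY R hG t (g * y)) = t.cls (stY R hG t g) := by
  have key : ∀ (v : W), v ∈ WJ cs {i | c i = 0} → ∀ (k : Y), Rp cs R.nsys v k → ∀ g,
      t.cls (stY R hG t (g * k)) = t.cls (stY R hG t g) := by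
    intro v hv
    obtain ⟨ω, hω, rfl⟩ := exists_word_of_mem_WJ cs hv
    clear hv
    induction ω with
    | nil =>
      intro k hk g
      rw [wordProd_nil] at hk
      rw [stY_mul_right_B R hG t g (RGD.T_le_B hk.mem_of_one)]
    | cons i ω ih =>
      intro k hk g
      rw [wordProd_cons] at hk
      have hi : c i = 0 := hω i (by simp)
      have h1 : Rp cs R.nsys (cs.wordProd ω) ((n i)⁻¹ * k) := by
        have := (rp_simple cs R.nsys i).inv.mul hk
        rwa [inv_simple, simple_mul_simple_cancel_left] at this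
      have h2 := ih (fun l hl => hω l (by simp [hl])) _ h1 (g * n i)
      have h3 : g * n i * ((n i)⁻¹ * k) = g * k := by group
      rw [← h3, h2]
      rcases nonneg_or_nonpos cs h (wOf R hG g) i with h0 | h0
      · have h4 := stY_pos R hG t h0 (one_mem (X (sr i)))
        rw [mul_one] at h4
        rw [h4, t.cls_st i hi]
      · obtain ⟨x₀, hx₀, h4, h5⟩ := stY_neg R hG t h0
        by_cases h6 : (1 : Y) = x₀
        · rw [← h6, mul_one] at h4
          rw [h4, t.cls_st i hi]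
        · have h7 := h5 1 (one_mem _) h6
          rw [mul_one] at h7
          rw [h7]
  obtain ⟨v, hv, b₁, hb₁, k, hk, b₂, hb₂, rfl⟩ := (mem_PJ_iff_cell R).1 hy
  rw [← mul_assoc, stY_mul_right_B R hG t _ hb₂, ← mul_assoc, key v hv k hk, stY_mul_right_B R hG t _ hb₁]

/-- bi-invariant functions are functions of the class of the state -/
theorem exists_fun (F : Y → ℚ) (hl : ∀ y ∈ PJ cs h T X {i | c i = 0}, ∀ g, F (y * g) = F g)
    (hr : ∀ y ∈ PJ cs h T X {i | c i = 0}, ∀ g, F (g * y) = F g) :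
    ∃ b : Fin m → ℚ, ∀ g, F g = b (t.cls (stY R hG t g)) := by
  choose k hk using fun w : W => exists_rp cs R.nsys w
  choose r hr' using fun c : Fin m => t.exists_sw cs h (t.crep c)
  refine ⟨fun c => F (k (r c)), fun g => ?_⟩
  -- the value at `g` is the value at the representative of the Weyl group element
  have h1 : ∀ (w : W) (g : Y), Cell R.nsys cs h X w g → F g = F (k w) := by
    rintro w g ⟨b₁, hb₁, l, hl', b₂, hb₂, rfl⟩
    rw [hr _ (B_le_PJ hb₂), hl _ (B_le_PJ hb₁)]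
    have h2 : l = k w * ((k w)⁻¹ * l) := by group
    rw [h2, hr _ (B_le_PJ (RGD.T_le_B ((hk w).unique hl')))]
  rw [h1 _ g (cell_wOf R hG g)]
  obtain ⟨v, hv, u, hu, e⟩ := Tab.exists_word cs h t (hr' (t.cls (stY R hG t g))) (w' := wOf R hG g) rfl
  have h3 : Rp cs R.nsys (u * r (t.cls (stY R hG t g)) * v) (k u * k (r (t.cls (stY R hG t g))) * k v) :=
    ((hk u).mul (hk _)).mul (hk v)
  rw [e, ← h1 _ _ (cell_of_rp h3), hr _ (LJ_le_PJ (rp_mem_LJ R hv (hk v))),
    hl _ (LJ_le_PJ (rp_mem_LJ R hu (hk u)))]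

section Op

variable [Finite Y] (q : I → ℕ) (hq : ∀ i, Nat.card (X (sr i)) = q i)

include hq in
/-- **the key lemma**: `T_i` on the functions of the state -/
theorem opT_stY (i : I) (φ : Fin N → ℚ) :
    opT X n i (fun g => φ (stY R hG t g)) = fun g => t.tau q i φ (stY R hG t g) := by
  classical
  have := Fintype.ofFinite (X (sr i))
  funext g
  rw [opT_apply, finsum_eq_sum_of_fintype]
  have hcard : (Fintype.card (X (sr i)) : ℚ) = q i := by rw [← hq, Nat.card_eq_fintype_card]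
  rcases nonneg_or_nonpos cs h (wOf R hG g) i with h0 | h0
  · have h1 : ∀ x : X (sr i), φ (stY R hG t (g * x * n i)) = φ (t.st i (stY R hG t g)) := fun x => by
      rw [stY_pos R hG t h0 x.2]
    rw [Finset.sum_congr rfl fun x _ => h1 x, Finset.sum_const, Finset.card_univ, nsmul_eq_mul, hcard, Tab.tau,
      if_neg]
    rw [not_lt]
    exact vec_nonneg R hG t h0
  · obtain ⟨x₀, hx₀, h1, h2⟩ := stY_neg R hG t h0
    have h3 : ∑ x : X (sr i), φ (stY R hG t (g * x * n i)) =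
        φ (t.st i (stY R hG t g)) + ((q i : ℚ) - 1) * φ (stY R hG t g) := by
      rw [← Finset.add_sum_erase _ _ (Finset.mem_univ (⟨x₀, hx₀⟩ : X (sr i)))]
      congr 1
      · exact congrArg φ h1
      · have h4 : ∀ x ∈ Finset.univ.erase (⟨x₀, hx₀⟩ : X (sr i)),
            φ (stY R hG t (g * x * n i)) = φ (stY R hG t g) := fun x hx => by
          rw [h2 x x.2 fun h5 => Finset.ne_of_mem_erase hx (Subtype.ext h5)]
        rw [Finset.sum_congr rfl h4, Finset.sum_const, Finset.card_erase_of_mem (Finset.mem_univ _),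
          Finset.card_univ, nsmul_eq_mul, Nat.cast_sub Fintype.card_pos, hcard, Nat.cast_one]
    rw [h3, Tab.tau]
    split_ifs with h5
    · rfl
    · have h6 : t.vec (stY R hG t g) i = 0 := le_antisymm (vec_nonpos R hG t h0) (not_lt.1 h5)
      rw [Tab.st_eq_of_zero cs h t h6]
      ring

end Op

section Count

variable [Fintype Y] (q : I → ℕ) (hq : ∀ i, Nat.card (X (sr i)) = q i)

/-- The number of elements of a given state. -/
noncomputable def cnt (s : Fin N) : ℚ := ∑ g, (Pi.single s (1 : ℚ) : Fin N → ℚ) (stY R hG t g)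

include hq in
theorem cnt_st {i : I} {s : Fin N} (hs : 0 < t.vec s i) : cnt R hG t (t.st i s) = q i * cnt R hG t s := by
  have h1 := sum_opT (X := X) (n := n) q hq i (fun g => (Pi.single s (1 : ℚ) : Fin N → ℚ) (stY R hG t g))
  rw [opT_stY R hG t q hq] at h1
  rw [cnt, cnt, ← h1]
  refine Finset.sum_congr rfl fun g _ => ?_
  beta_reduce
  generalize stY R hG t g = u
  unfold Tab.tau
  have h2 : t.vec u i < 0 → u ≠ s := by
    rintro h3 rfl
    omega
  by_cases hu : u = t.st i s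
  · subst hu
    have h3 : t.vec (t.st i s) i < 0 := by
      rw [Tab.vec_st_self cs h t]
      omega
    rw [if_pos h3, Tab.st_st cs h t, Pi.single_eq_same, Pi.single_eq_same, Pi.single_eq_of_ne (h2 h3), mul_zero,
      add_zero]
  · have h4 : t.st i u ≠ s := by
      intro h5
      apply hu
      rw [← h5, Tab.st_st cs h t]
    rw [Pi.single_eq_of_ne hu, Pi.single_eq_of_ne h4]
    split_ifs with h5
    · rw [Pi.single_eq_of_ne (h2 h5), mul_zero, add_zero]
    · rw [mul_zero]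

include hq in
theorem cnt_eq (wt : Fin N → ℕ) (hw : wt t.o = 1) (hws : ∀ i s, 0 < t.vec s i → wt (t.st i s) = q i * wt s)
    (s : Fin N) : cnt R hG t s = wt s * cnt R hG t t.o := by
  have hq0 : ∀ i, (q i : ℚ) ≠ 0 := fun i => by
    rw [← hq i]
    exact Nat.cast_ne_zero.2 Nat.card_pos.ne'
  have key : ∀ ω : List I, cnt R hG t (ω.foldl (fun b i => t.st i b) t.o) =
      wt (ω.foldl (fun b i => t.st i b) t.o) * cnt R hG t t.o := by
    intro ω
    induction ω using List.reverseRecOn with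
    | nil => rw [List.foldl_nil, hw, Nat.cast_one, one_mul]
    | append_singleton ω i ih =>
      rw [List.foldl_append, List.foldl_cons, List.foldl_nil]
      generalize ω.foldl (fun b i => t.st i b) t.o = u at ih ⊢
      rcases lt_trichotomy (t.vec u i) 0 with h1 | h1 | h1
      · have h2 : 0 < t.vec (t.st i u) i := by
          rw [Tab.vec_st_self cs h t]
          omega
        have h3 := cnt_st R hG t q hq h2
        have h4 := hws i (t.st i u) h2
        rw [Tab.st_st cs h t] at h3 h4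
        rw [h3, h4, Nat.cast_mul, mul_assoc] at ih
        exact mul_left_cancel₀ (hq0 i) ih
      · rw [Tab.st_eq_of_zero cs h t h1]
        exact ih
      · rw [cnt_st R hG t q hq h1, ih, hws i u h1, Nat.cast_mul, mul_assoc]
  have h1 := key (t.path s)
  rwa [t.path_spec] at h1

theorem sum_stY (φ : Fin N → ℚ) : ∑ g, φ (stY R hG t g) = ∑ s, φ s * cnt R hG t s := by
  have h1 : ∀ g, φ (stY R hG t g) = ∑ s, φ s * (Pi.single s (1 : ℚ) : Fin N → ℚ) (stY R hG t g) := by
    intro g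
    rw [Finset.sum_eq_single (stY R hG t g)]
    · rw [Pi.single_eq_same, mul_one]
    · intro s _ hs
      rw [Pi.single_eq_of_ne (Ne.symm hs), mul_zero]
    · exact fun h1 => absurd (Finset.mem_univ _) h1
  rw [Finset.sum_congr rfl fun g _ => h1 g, Finset.sum_comm]
  refine Finset.sum_congr rfl fun s _ => ?_
  rw [cnt, Finset.mul_sum]

theorem cnt_o : cnt R hG t t.o = Nat.card (PJ cs h T X {i | c i = 0}) := by
  classical
  rw [cnt]
  have h1 : ∀ g, (Pi.single t.o (1 : ℚ) : Fin N → ℚ) (stY R hG t g) =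
      if g ∈ PJ cs h T X {i | c i = 0} then 1 else 0 := by
    intro g
    split_ifs with h2
    · rw [(stY_eq_o_iff R hG t).2 h2, Pi.single_eq_same]
    · rw [Pi.single_eq_of_ne]
      exact fun h3 => h2 ((stY_eq_o_iff R hG t).1 h3)
  rw [Finset.sum_congr rfl fun g _ => h1 g, Finset.sum_boole, Nat.card_eq_fintype_card, Fintype.card_subtype]

include hq in
/-- the sum over the points of a function of the class -/
theorem sum_quot (wt : Fin N → ℕ) (hw : wt t.o = 1) (hws : ∀ i s, 0 < t.vec s i → wt (t.st i s) = q i * wt s)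
    (φ : Fin N → ℚ) (f : Y ⧸ PJ cs h T X {i | c i = 0} → ℚ) (hf : ∀ g : Y, f g = φ (stY R hG t g))
    [Fintype (Y ⧸ PJ cs h T X {i | c i = 0})] : ∑ x, f x = ∑ s, wt s * φ s := by
  classical
  have hc0 : (Nat.card (PJ cs h T X {i | c i = 0}) : ℚ) ≠ 0 := Nat.cast_ne_zero.2 Nat.card_pos.ne'
  have h1 : ∑ g, φ (stY R hG t g) = Nat.card (PJ cs h T X {i | c i = 0}) * ∑ x, f x := by
    rw [Finset.sum_congr rfl fun g _ => (hf g).symm]
    rw [← Finset.sum_fiberwise Finset.univ (fun g : Y => (g : Y ⧸ PJ cs h T X {i | c i = 0})), Finset.mul_sum]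
    refine Finset.sum_congr rfl fun x _ => ?_
    have h2 : ∀ g ∈ Finset.univ.filter (fun g : Y => (g : Y ⧸ PJ cs h T X {i | c i = 0}) = x), f g = f x := by
      intro g hg
      rw [(Finset.mem_filter.1 hg).2]
    rw [Finset.sum_congr rfl h2, Finset.sum_const, nsmul_eq_mul]
    congr 1
    rw [Nat.cast_inj]
    induction x using Quotient.inductionOn' with
    | h y =>
      have h3 : Finset.univ.filter (fun g : Y => (g : Y ⧸ PJ cs h T X {i | c i = 0}) = Quotient.mk'' y) =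
          Finset.univ.image (fun x : PJ cs h T X {i | c i = 0} => y * x) := by
        ext g
        rw [Finset.mem_filter, Finset.mem_image]
        constructor
        · rintro ⟨-, h4⟩
          have h5 : y⁻¹ * g ∈ PJ cs h T X {i | c i = 0} := QuotientGroup.eq.1 h4.symm
          exact ⟨⟨_, h5⟩, Finset.mem_univ _, by simp⟩
        · rintro ⟨x, -, rfl⟩
          exact ⟨Finset.mem_univ _, (QuotientGroup.eq.2 (by simp)).symm⟩
      rw [h3, Finset.card_image_of_injective _ (fun a b hab => Subtype.ext (mul_left_cancel hab)), Finset.card_univ,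
        Nat.card_eq_fintype_card]
  rw [sum_stY, Finset.sum_congr rfl fun s _ => by rw [cnt_eq R hG t q hq wt hw hws s, cnt_o], ] at h1
  have h2 : ∑ s, φ s * (wt s * (Nat.card (PJ cs h T X {i | c i = 0}) : ℚ)) =
      Nat.card (PJ cs h T X {i | c i = 0}) * ∑ s, wt s * φ s := by
    rw [Finset.mul_sum]
    exact Finset.sum_congr rfl fun s _ => by ring
  rw [h2] at h1
  exact (mul_left_cancel₀ hc0 h1).symm

end Count

end Group

end Cfsg.Agent.H423.PQ.Co
end

-- part: H423/PQ/CoVal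
section
/-!
# The spherical machine for parabolic subgroups of higher corank: characters (helper423, for S4612)

As `H996.Eight.Av`, `H996.PQ.Val` and the beginning of `H996.PQ.SepX`, for the parabolic subgroup of the nodes `i` with
`ω₀ i = 0`, and the joint eigenspace of the averages of the `T_i`, `i ∈ S`.
-/

set_option autoImplicit false
set_option linter.unusedSectionVars false

namespace Cfsg.Agent.H423.PQ.Co

open Cfsg Cfsg.Agent.H317.PQ Cfsg.Agent.Blocks.Basic Cfsg.Agent.Blocks.Local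
open CoxeterSystem Cfsg.Agent.ChevalleyStructure.CoxeterGeom Cfsg.Agent.Tits.Roots Cfsg.Agent.Tits.Core
  Cfsg.Agent.Nodes.Reps Cfsg.Agent.Nodes.BNOf Cfsg.Agent.Nodes.Bruhat Cfsg.Agent.Nodes.LeviDec
open Cfsg.Agent.H967.Sph (wOf cell_wOf opT opT_apply opT_left)
open Cfsg.Agent.H996.PQ (finsum_subgroup exists_of_spherical_val)

universe u

variable {I W : Type*} {Y : Type u} [Fintype I] [DecidableEq I] [Group W] [Finite W] [Group Y] [Finite Y]
    {M : CoxeterMatrix I} {cs : CoxeterSystem M W} {A : I → I → ℤ} {h : IsCartan M A} {p : ℕ} {T : Subgroup Y}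
    {n : I → Y} {X : (I → ℤ) → Subgroup Y} (R : RGD cs h p T n X) (hG : GG cs h T X = ⊤)
    {ω₀ : I → ℤ} {N m : ℕ} (t : Tab A ω₀ N m) (q : I → ℕ) (hq : ∀ i, Nat.card (X (sr i)) = q i)

include hq in
/-- the average over `P` of a function of the state -/
theorem sum_P [Fintype Y] [Fintype (PJ cs h T X {i | ω₀ i = 0})]
    (wt : Fin N → ℕ) (hw : wt t.o = 1) (hws : ∀ i s, 0 < t.vec s i → wt (t.st i s) = q i * wt s)
    (φ : Fin N → ℚ) (g : Y) :
    (∑ p : PJ cs h T X {i | ω₀ i = 0}, φ (stY R hG t (g * p))) *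
        ∑ s, (if t.cls s = t.cls (stY R hG t g) then (wt s : ℚ) else 0) =
      Fintype.card (PJ cs h T X {i | ω₀ i = 0}) *
        ∑ s, (if t.cls s = t.cls (stY R hG t g) then wt s * φ s else 0) := by
  classical
  obtain ⟨b, hb⟩ := exists_fun R hG t
    (fun g => ∑ p : PJ cs h T X {i | ω₀ i = 0}, φ (stY R hG t (g * p)))
    (fun y hy g => Finset.sum_congr rfl fun p _ => by rw [mul_assoc, stY_mul_left R hG t hy])
    (fun y hy g => by
      rw [← Equiv.sum_comp (Equiv.mulLeft (⟨y, hy⟩ : PJ cs h T X {i | ω₀ i = 0}))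
        (fun p : PJ cs h T X {i | ω₀ i = 0} => φ (stY R hG t (g * p)))]
      refine Finset.sum_congr rfl fun p _ => ?_
      rw [Equiv.coe_mulLeft, Subgroup.coe_mul, mul_assoc])
  obtain ⟨c, hc⟩ : ∃ c, c = t.cls (stY R hG t g) := ⟨_, rfl⟩
  rw [← hc]
  have hbg := hb g
  beta_reduce at hbg
  rw [hbg, ← hc]
  -- two computations of a sum
  have h1 : ∑ y : Y, ∑ p : PJ cs h T X {i | ω₀ i = 0},
      (fun s => if t.cls s = c then φ s else 0) (stY R hG t (y * p)) =
      ∑ y : Y, (fun s => if t.cls s = c then b c else 0) (stY R hG t y) := by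
    refine Finset.sum_congr rfl fun y _ => ?_
    beta_reduce
    have h2 : ∀ p : PJ cs h T X {i | ω₀ i = 0},
        (if t.cls (stY R hG t (y * p)) = c then φ (stY R hG t (y * p)) else 0) =
        if t.cls (stY R hG t y) = c then φ (stY R hG t (y * p)) else 0 := fun p => by
      rw [cls_mul_right R hG t p.2]
    rw [Finset.sum_congr rfl fun p _ => h2 p]
    split_ifs with h3
    · rw [← h3]
      exact hb y
    · exact Finset.sum_const_zero
  rw [Finset.sum_comm] at h1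
  have h2 : ∀ p : PJ cs h T X {i | ω₀ i = 0},
      ∑ y : Y, (fun s => if t.cls s = c then φ s else 0) (stY R hG t (y * p)) =
      ∑ y : Y, (fun s => if t.cls s = c then φ s else 0) (stY R hG t y) := fun p => by
    rw [← Equiv.sum_comp (Equiv.mulRight (p : Y))
      (fun y : Y => (fun s => if t.cls s = c then φ s else 0) (stY R hG t y))]
    rfl
  rw [Finset.sum_congr rfl fun p _ => h2 p, Finset.sum_const, Finset.card_univ, nsmul_eq_mul,
    sum_stY R hG t (fun s => if t.cls s = c then φ s else 0), sum_stY R hG t (fun s => if t.cls s = c then b c else 0)]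
    at h1
  have hc0 : cnt R hG t t.o ≠ 0 := by
    rw [cnt_o]
    exact Nat.cast_ne_zero.2 Nat.card_pos.ne'
  have h3 : ∀ f : Fin N → ℚ, ∑ s, f s * cnt R hG t s = (∑ s, f s * wt s) * cnt R hG t t.o := fun f => by
    rw [Finset.sum_mul]
    refine Finset.sum_congr rfl fun s _ => ?_
    rw [cnt_eq R hG t q hq wt hw hws s, mul_assoc]
  rw [h3, h3, ← mul_assoc] at h1
  have h4 := mul_right_cancel₀ hc0 h1
  have e1 : ∑ s, (if t.cls s = c then b c else 0) * (wt s : ℚ) =
      b c * ∑ s, (if t.cls s = c then (wt s : ℚ) else 0) := by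
    rw [Finset.mul_sum]
    refine Finset.sum_congr rfl fun s _ => ?_
    split_ifs
    · rfl
    · rw [zero_mul, mul_zero]
  have e2 : ∑ s, (if t.cls s = c then φ s else 0) * (wt s : ℚ) =
      ∑ s, (if t.cls s = c then wt s * φ s else 0) := by
    refine Finset.sum_congr rfl fun s _ => ?_
    split_ifs
    · rw [mul_comm]
    · rw [zero_mul]
  rw [e1, e2] at h4
  exact h4.symm

/-- `χ` is the constituent of the permutation character of the spherical function `a` -/
structure HasVal (χ : Y → ℂ) (d : ℕ) (a : Fin m → ℚ) : Prop where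
  irr : Cfsg.IsIrrCharacter Y χ
  one : χ 1 = d
  val : ∀ g, (Nat.card Y : ℂ) * χ g = d * ((∑ᶠ y : Y, a (t.cls (stY R hG t (y⁻¹ * g * y))) : ℚ) : ℂ)
  coset : ∀ g, ∑ᶠ q ∈ PJ cs h T X {i | ω₀ i = 0}, χ (g * q) =
    Nat.card (PJ cs h T X {i | ω₀ i = 0}) * ((a (t.cls (stY R hG t g)) : ℚ) : ℂ)

/-- the trivial character -/
theorem HasVal.trivial : HasVal R hG t (1 : Y → ℂ) 1 (fun _ => 1) where
  irr := Characters.Core.isIrr_one
  one := by simp
  val g := by
    classical
    have := Fintype.ofFinite Y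
    rw [finsum_eq_sum_of_fintype, Finset.sum_const, Finset.card_univ, nsmul_eq_mul, Nat.card_eq_fintype_card]
    simp
  coset g := by
    classical
    have := Fintype.ofFinite (PJ cs h T X {i | ω₀ i = 0})
    rw [finsum_subgroup]
    simp

/-- from a function on the cosets to the group -/
theorem sum_gamma [Fintype Y] [Fintype (Y ⧸ PJ cs h T X {i | ω₀ i = 0})] (e₀ : Y ⧸ PJ cs h T X {i | ω₀ i = 0} → ℚ)
    (heQ : ∀ q ∈ PJ cs h T X {i | ω₀ i = 0}, ∀ x, e₀ (q • x) = e₀ x)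
    (γ : Y ⧸ PJ cs h T X {i | ω₀ i = 0} → Y) (hγ : ∀ x, γ x • ((1 : Y) : Y ⧸ PJ cs h T X {i | ω₀ i = 0}) = x) (g : Y) :
    ∑ y : Y, e₀ ((y⁻¹ * g * y : Y) : Y ⧸ PJ cs h T X {i | ω₀ i = 0}) =
      Nat.card (PJ cs h T X {i | ω₀ i = 0}) * ∑ x, e₀ ((γ x)⁻¹ • g • x) := by
  classical
  have := Fintype.ofFinite (PJ cs h T X {i | ω₀ i = 0})
  have hγ' : ∀ x, (γ x : Y ⧸ PJ cs h T X {i | ω₀ i = 0}) = x := fun x => by
    have h1 := hγ x
    rwa [MulAction.Quotient.smul_coe, smul_eq_mul, mul_one] at h1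
  have h1 : ∀ y : Y, e₀ ((y⁻¹ * g * y : Y) : Y ⧸ PJ cs h T X {i | ω₀ i = 0}) =
      e₀ ((γ (y : Y ⧸ PJ cs h T X {i | ω₀ i = 0}))⁻¹ • g • (y : Y ⧸ PJ cs h T X {i | ω₀ i = 0})) := by
    intro y
    have h2 : (γ (y : Y ⧸ PJ cs h T X {i | ω₀ i = 0}))⁻¹ * y ∈ PJ cs h T X {i | ω₀ i = 0} :=
      QuotientGroup.eq.1 (hγ' _)
    rw [MulAction.Quotient.smul_coe, MulAction.Quotient.smul_coe, smul_eq_mul, smul_eq_mul]
    have h3 : (γ (y : Y ⧸ PJ cs h T X {i | ω₀ i = 0}))⁻¹ * (g * y) =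
        ((γ (y : Y ⧸ PJ cs h T X {i | ω₀ i = 0}))⁻¹ * y) * (y⁻¹ * g * y) := by group
    have h4 : (((γ (y : Y ⧸ PJ cs h T X {i | ω₀ i = 0}))⁻¹ * y * (y⁻¹ * g * y) : Y) : Y ⧸ PJ cs h T X {i | ω₀ i = 0}) =
        ((γ (y : Y ⧸ PJ cs h T X {i | ω₀ i = 0}))⁻¹ * y) • ((y⁻¹ * g * y : Y) : Y ⧸ PJ cs h T X {i | ω₀ i = 0}) := rfl
    rw [h3, h4, heQ _ h2]
  rw [Finset.sum_congr rfl fun y _ => h1 y,
    ← Finset.sum_fiberwise Finset.univ (fun y : Y => (y : Y ⧸ PJ cs h T X {i | ω₀ i = 0})), Finset.mul_sum]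
  refine Finset.sum_congr rfl fun x _ => ?_
  have h2 : ∀ y ∈ Finset.univ.filter (fun y : Y => (y : Y ⧸ PJ cs h T X {i | ω₀ i = 0}) = x),
      e₀ ((γ (y : Y ⧸ PJ cs h T X {i | ω₀ i = 0}))⁻¹ • g • (y : Y ⧸ PJ cs h T X {i | ω₀ i = 0})) =
      e₀ ((γ x)⁻¹ • g • x) := by
    intro y hy
    rw [(Finset.mem_filter.1 hy).2]
  rw [Finset.sum_congr rfl h2, Finset.sum_const, nsmul_eq_mul]
  congr 1
  rw [Nat.cast_inj]
  have h3 : Finset.univ.filter (fun y : Y => (y : Y ⧸ PJ cs h T X {i | ω₀ i = 0}) = x) =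
      Finset.univ.image (fun z : PJ cs h T X {i | ω₀ i = 0} => γ x * z) := by
    ext y
    rw [Finset.mem_filter, Finset.mem_image]
    constructor
    · rintro ⟨-, h4⟩
      have h5 : (γ x)⁻¹ * y ∈ PJ cs h T X {i | ω₀ i = 0} := QuotientGroup.eq.1 ((hγ' x).trans h4.symm)
      exact ⟨⟨_, h5⟩, Finset.mem_univ _, by simp⟩
    · rintro ⟨z, -, rfl⟩
      refine ⟨Finset.mem_univ _, ?_⟩
      conv_rhs => rw [← hγ' x]
      exact (QuotientGroup.eq.2 (by simp)).symm
  rw [h3, Finset.card_image_of_injective _ (fun a b hab => Subtype.ext (mul_left_cancel hab)), Finset.card_univ,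
    Nat.card_eq_fintype_card]

include R hG hq in
/-- **Spherical machine, averaging operator, with values.** -/
theorem exists_val (S : Set I) (θ : I → ℚ) (a : Fin m → ℚ) (ha : a (t.cls t.o) = 1)
    (wt : Fin N → ℕ) (hw : wt t.o = 1) (hws : ∀ i s, 0 < t.vec s i → wt (t.st i s) = q i * wt s)
    (he : ∀ i ∈ S, ∀ c, ∑ s, (if t.cls s = c then wt s * t.tau q i (fun u => a (t.cls u)) s else 0) =
      θ i * (∑ s, if t.cls s = c then (wt s : ℚ) else 0) * a c)
    (hu : ∀ b : Fin m → ℚ, (∀ i ∈ S, ∀ c, ∑ s, (if t.cls s = c then wt s * t.tau q i (fun u => b (t.cls u)) s else 0) =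
      θ i * (∑ s, if t.cls s = c then (wt s : ℚ) else 0) * b c) → ∀ c, b c = b (t.cls t.o) * a c)
    (d : ℕ) (hd : (d : ℚ) * ∑ s, (wt s : ℚ) * a (t.cls s) ^ 2 = ∑ s, (wt s : ℚ)) :
    ∃ χ : Y → ℂ, HasVal R hG t χ d a := by
  classical
  have := Fintype.ofFinite Y
  have := Fintype.ofFinite (Y ⧸ PJ cs h T X {i | ω₀ i = 0})
  have := Fintype.ofFinite (PJ cs h T X {i | ω₀ i = 0})
  have hcP : (Fintype.card (PJ cs h T X {i | ω₀ i = 0}) : ℚ) ≠ 0 := Nat.cast_ne_zero.2 Fintype.card_ne_zero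
  -- the space
  let pull : (Y ⧸ PJ cs h T X {i | ω₀ i = 0} → ℚ) →ₗ[ℚ] (Y → ℚ) :=
    LinearMap.funLeft ℚ ℚ (fun g : Y => (g : Y ⧸ PJ cs h T X {i | ω₀ i = 0}))
  have hpull : ∀ f g, pull f g = f (g : Y ⧸ PJ cs h T X {i | ω₀ i = 0}) := fun _ _ => rfl
  let av : (Y → ℚ) →ₗ[ℚ] (Y → ℚ) :=
    { toFun := fun F g => ∑ p : PJ cs h T X {i | ω₀ i = 0}, F (g * p)
      map_add' := fun F F' => by
        funext g
        exact Finset.sum_add_distrib
      map_smul' := fun c F => by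
        funext g
        rw [RingHom.id_apply, Pi.smul_apply, smul_eq_mul, Finset.mul_sum]
        rfl }
  have hav : ∀ F g, av F g = ∑ p : PJ cs h T X {i | ω₀ i = 0}, F (g * p) := fun _ _ => rfl
  let V : Submodule ℚ (Y ⧸ PJ cs h T X {i | ω₀ i = 0} → ℚ) := ⨅ i : S, LinearMap.ker ((av ∘ₗ opT X n (i : I) -
    ((Fintype.card (PJ cs h T X {i | ω₀ i = 0}) : ℚ) * θ i) • LinearMap.id) ∘ₗ pull)
  have hV : ∀ f, f ∈ V ↔ ∀ i ∈ S, ∀ g, ∑ p : PJ cs h T X {i | ω₀ i = 0}, opT X n i (pull f) (g * p) =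
      (Fintype.card (PJ cs h T X {i | ω₀ i = 0}) : ℚ) * θ i * f (g : Y ⧸ PJ cs h T X {i | ω₀ i = 0}) := by
    intro f
    have h0 : ∀ i : I, f ∈ LinearMap.ker ((av ∘ₗ opT X n i -
        ((Fintype.card (PJ cs h T X {i | ω₀ i = 0}) : ℚ) * θ i) • LinearMap.id) ∘ₗ pull) ↔
        ∀ g, ∑ p : PJ cs h T X {i | ω₀ i = 0}, opT X n i (pull f) (g * p) =
        (Fintype.card (PJ cs h T X {i | ω₀ i = 0}) : ℚ) * θ i * f (g : Y ⧸ PJ cs h T X {i | ω₀ i = 0}) := by
      intro i
      rw [LinearMap.mem_ker, LinearMap.comp_apply, LinearMap.sub_apply, sub_eq_zero, funext_iff]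
      rfl
    rw [Submodule.mem_iInf]
    constructor
    · intro h1 i hi
      exact (h0 i).1 (h1 ⟨i, hi⟩)
    · intro h1 i
      exact (h0 i).2 (h1 i i.2)
  have hK0 : ∀ g : Y, (∑ s, if t.cls s = t.cls (stY R hG t g) then (wt s : ℚ) else 0) ≠ 0 := fun g => by
    have h0 : ∀ s, (wt s : ℚ) = cnt R hG t s / cnt R hG t t.o := fun s => by
      have hc0 : cnt R hG t t.o ≠ 0 := by
        rw [cnt_o]
        exact Nat.cast_ne_zero.2 Nat.card_pos.ne'
      rw [cnt_eq R hG t q hq wt hw hws s, mul_div_assoc, div_self hc0, mul_one]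
    have h1 : 0 < wt (stY R hG t g) := by
      have h2 : cnt R hG t (stY R hG t g) ≠ 0 := by
        have h3 : (0 : ℚ) < cnt R hG t (stY R hG t g) := by
          rw [cnt]
          refine Finset.sum_pos' (fun x _ => ?_) ⟨g, Finset.mem_univ _, by rw [Pi.single_eq_same]; exact one_pos⟩
          by_cases h4 : stY R hG t x = stY R hG t g
          · rw [h4, Pi.single_eq_same]; exact zero_le_one
          · rw [Pi.single_eq_of_ne h4]
        exact h3.ne'
      rcases Nat.eq_zero_or_pos (wt (stY R hG t g)) with h3 | h3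
      · rw [cnt_eq R hG t q hq wt hw hws, h3, Nat.cast_zero, zero_mul] at h2
        exact absurd rfl h2
      · exact h3
    refine ne_of_gt (Finset.sum_pos' (fun x _ => ?_) ⟨stY R hG t g, Finset.mem_univ _, by
      rw [if_pos rfl]; exact_mod_cast h1⟩)
    split_ifs
    · exact Nat.cast_nonneg _
    · exact le_rfl
  -- the eigenvalue condition
  have hcond : ∀ (i : I) (b : Fin m → ℚ) (f : Y ⧸ PJ cs h T X {i | ω₀ i = 0} → ℚ)
      (hf : ∀ g : Y, f g = b (t.cls (stY R hG t g))) (g : Y),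
      (∑ p : PJ cs h T X {i | ω₀ i = 0}, opT X n i (pull f) (g * p) =
        (Fintype.card (PJ cs h T X {i | ω₀ i = 0}) : ℚ) * θ i * f (g : Y ⧸ PJ cs h T X {i | ω₀ i = 0})) ↔
      ∑ s, (if t.cls s = t.cls (stY R hG t g) then wt s * t.tau q i (fun u => b (t.cls u)) s else 0) =
        θ i * (∑ s, if t.cls s = t.cls (stY R hG t g) then (wt s : ℚ) else 0) * b (t.cls (stY R hG t g)) := by
    intro i b f hf g
    have h1 : pull f = fun g => (fun u => b (t.cls u)) (stY R hG t g) := funext hf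
    have h2 := sum_P R hG t q hq wt hw hws (t.tau q i (fun u => b (t.cls u))) g
    rw [h1, opT_stY R hG t q hq i (fun u => b (t.cls u)), hf g]
    beta_reduce
    constructor
    · intro h3
      rw [h3] at h2
      have h4 : (Fintype.card (PJ cs h T X {i | ω₀ i = 0}) : ℚ) *
          (θ i * (∑ s, if t.cls s = t.cls (stY R hG t g) then (wt s : ℚ) else 0) * b (t.cls (stY R hG t g))) =
          (Fintype.card (PJ cs h T X {i | ω₀ i = 0}) : ℚ) *
          ∑ s, (if t.cls s = t.cls (stY R hG t g) then wt s * t.tau q i (fun u => b (t.cls u)) s else 0) := by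
        rw [← h2]
        ring
      exact (mul_left_cancel₀ hcP h4).symm
    · intro h3
      rw [h3] at h2
      refine mul_right_cancel₀ (hK0 g) ?_
      rw [h2]
      ring
  -- the spherical function
  let e₀ : Y ⧸ PJ cs h T X {i | ω₀ i = 0} → ℚ := fun x => Quotient.liftOn' x (fun g => a (t.cls (stY R hG t g))) (by
    intro g g' hgg
    have h1 : g⁻¹ * g' ∈ PJ cs h T X {i | ω₀ i = 0} := QuotientGroup.leftRel_apply.1 hgg
    have h2 := cls_mul_right R hG t h1 g
    rw [mul_inv_cancel_left] at h2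
    rw [h2])
  have he₀ : ∀ g : Y, e₀ g = a (t.cls (stY R hG t g)) := fun _ => rfl
  have hbase : t.cls (stY R hG t 1) = t.cls t.o := by
    rw [(stY_eq_o_iff R hG t).2 (one_mem _)]
  have heQ : ∀ y ∈ PJ cs h T X {i | ω₀ i = 0}, ∀ x, e₀ (y • x) = e₀ x := by
    intro y hy x
    induction x using Quotient.inductionOn' with
    | h g =>
      show e₀ ((y * g : Y) : Y ⧸ PJ cs h T X {i | ω₀ i = 0}) = e₀ (g : Y ⧸ PJ cs h T X {i | ω₀ i = 0})
      rw [he₀, he₀, stY_mul_left R hG t hy]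
  suffices hs : ∃ χ : Y → ℂ, Cfsg.IsIrrCharacter Y χ ∧ χ 1 = d ∧
      (∀ γ : Y ⧸ PJ cs h T X {i | ω₀ i = 0} → Y, (∀ x, γ x • ((1 : Y) : Y ⧸ PJ cs h T X {i | ω₀ i = 0}) = x) → ∀ g,
        (Fintype.card (Y ⧸ PJ cs h T X {i | ω₀ i = 0}) : ℂ) * χ g = d * ((∑ x, e₀ ((γ x)⁻¹ • g • x) : ℚ) : ℂ)) ∧
      ∀ g : Y, ∑ q : PJ cs h T X {i | ω₀ i = 0}, χ (g * q) = Fintype.card (PJ cs h T X {i | ω₀ i = 0}) *
        ((e₀ (g • ((1 : Y) : Y ⧸ PJ cs h T X {i | ω₀ i = 0})) : ℚ) : ℂ) by
    obtain ⟨χ, hχ, hχ1, hval, hcos⟩ := hs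
    refine ⟨χ, hχ, hχ1, fun g => ?_, fun g => ?_⟩
    · have hγ : ∀ x : Y ⧸ PJ cs h T X {i | ω₀ i = 0}, x.out • ((1 : Y) : Y ⧸ PJ cs h T X {i | ω₀ i = 0}) = x := by
        intro x
        rw [MulAction.Quotient.smul_coe, smul_eq_mul, mul_one]
        exact Quotient.out_eq' x
      have h1 := hval _ hγ g
      have h2 := sum_gamma (cs := cs) (h := h) (T := T) (X := X) (ω₀ := ω₀) e₀ heQ _ hγ g
      rw [finsum_eq_sum_of_fintype]
      have h3 : ∀ y : Y, a (t.cls (stY R hG t (y⁻¹ * g * y))) =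
          e₀ ((y⁻¹ * g * y : Y) : Y ⧸ PJ cs h T X {i | ω₀ i = 0}) := fun y => rfl
      rw [Finset.sum_congr rfl fun y _ => h3 y, h2]
      have h4 : Nat.card Y = Fintype.card (Y ⧸ PJ cs h T X {i | ω₀ i = 0}) * Nat.card (PJ cs h T X {i | ω₀ i = 0}) := by
        rw [Subgroup.card_eq_card_quotient_mul_card_subgroup (PJ cs h T X {i | ω₀ i = 0}),
          Nat.card_eq_fintype_card (α := Y ⧸ PJ cs h T X {i | ω₀ i = 0})]
      rw [h4]
      push_cast
      push_cast at h1
      rw [mul_right_comm, h1]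
      ring
    · rw [finsum_subgroup, hcos, Nat.card_eq_fintype_card]
      congr 3
      show e₀ ((g * 1 : Y) : Y ⧸ PJ cs h T X {i | ω₀ i = 0}) = _
      rw [mul_one, he₀]
  refine exists_of_spherical_val (X := Y ⧸ PJ cs h T X {i | ω₀ i = 0}) ?_ V ?_
    (PJ cs h T X {i | ω₀ i = 0}) ((1 : Y) : Y ⧸ PJ cs h T X {i | ω₀ i = 0}) ?_ e₀ ?_ heQ ?_ ?_ d ?_
  · intro x y
    exact MulAction.exists_smul_eq Y x y
  · intro y f hf
    rw [hV] at hf ⊢
    intro i hi g
    have h1 : pull (fun x => f (y • x)) = fun g => pull f (y * g) := rfl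
    rw [h1, opT_left]
    have h2 := hf i hi (y * g)
    simp only [mul_assoc] at h2 ⊢
    exact h2
  · intro g
    rw [MulAction.Quotient.smul_coe, smul_eq_mul, mul_one]
    constructor
    · intro h1
      have h2 := QuotientGroup.eq.1 h1
      rw [mul_one] at h2
      simpa using inv_mem h2
    · intro h1
      exact QuotientGroup.eq.2 (by simpa using inv_mem h1)
  · rw [hV]
    intro i hi g
    exact (hcond i a e₀ he₀ g).2 (he i hi _)
  · rw [he₀, hbase, ha]
  · intro f hf hinv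
    obtain ⟨b, hb⟩ := exists_fun R hG t (pull f)
      (fun y hy g => hinv y hy (g : Y ⧸ PJ cs h T X {i | ω₀ i = 0}))
      (fun y hy g => by
        rw [hpull, hpull]
        congr 1
        exact QuotientGroup.eq.2 (by simpa using hy))
    have h1 : ∀ i ∈ S, ∀ c, ∑ s, (if t.cls s = c then wt s * t.tau q i (fun u => b (t.cls u)) s else 0) =
        θ i * (∑ s, if t.cls s = c then (wt s : ℚ) else 0) * b c := by
      intro i hi c
      by_cases hc : ∃ s, t.cls s = c
      · obtain ⟨s, hs⟩ := hc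
        obtain ⟨w, hw'⟩ := t.exists_sw cs h s
        obtain ⟨k, hk⟩ := exists_rp cs R.nsys w
        have h2 : stY R hG t k = s := by rw [stY_eq R hG t (cell_of_rp hk), hw']
        have h3 := (hcond i b f hb k).1 ((hV f).1 hf i hi k)
        rw [h2, hs] at h3
        exact h3
      · push Not at hc
        rw [Finset.sum_congr rfl fun s _ => if_neg (hc s), Finset.sum_congr rfl fun s _ => if_neg (hc s)]
        simp
    refine ⟨b (t.cls t.o), funext fun x => ?_⟩
    induction x using Quotient.inductionOn' with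
    | h g =>
      show pull f g = b (t.cls t.o) * e₀ (g : Y ⧸ PJ cs h T X {i | ω₀ i = 0})
      rw [hb, he₀, hu b h1]
  · rw [sum_quot R hG t q hq wt hw hws (fun s => a (t.cls s) ^ 2) (fun x => e₀ x ^ 2) (fun g => by rw [he₀]), hd]
    have h1 := sum_quot R hG t q hq wt hw hws (fun _ => 1) (fun _ => 1) (fun _ => rfl)
    rw [Finset.sum_const, Finset.card_univ, nsmul_eq_mul, mul_one] at h1
    rw [h1]
    exact Finset.sum_congr rfl fun s _ => by rw [mul_one]

theorem HasVal.base {χ : Y → ℂ} {d : ℕ} {a : Fin m → ℚ} (H : HasVal R hG t χ d a) : a (t.cls t.o) = 1 := by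
  classical
  have := Fintype.ofFinite Y
  have h1 := H.val 1
  have h3 : (Nat.card Y : ℂ) ≠ 0 := Nat.cast_ne_zero.2 Nat.card_pos.ne'
  have h4 : (d : ℂ) ≠ 0 := by
    rw [← H.one]
    exact irr_one_ne_zero H.irr
  have h5 : ∀ y : Y, a (t.cls (stY R hG t (y⁻¹ * 1 * y))) = a (t.cls t.o) := by
    intro y
    rw [mul_one, inv_mul_cancel, (stY_eq_o_iff R hG t).2 (one_mem _)]
  rw [finsum_eq_sum_of_fintype, Finset.sum_congr rfl fun y _ => h5 y, Finset.sum_const, Finset.card_univ, nsmul_eq_mul,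
    H.one, ← Nat.card_eq_fintype_card] at h1
  push_cast at h1
  have h6 : ((a (t.cls t.o) : ℚ) : ℂ) = 1 := by
    refine mul_left_cancel₀ (mul_ne_zero h3 h4) ?_
    rw [mul_one]
    linear_combination -h1
  exact_mod_cast h6

/-- the spherical function on the cosets -/
noncomputable def sph0 (a : Fin m → ℚ) (x : Y ⧸ PJ cs h T X {i | ω₀ i = 0}) : ℚ := a (t.cls (stY R hG t x.out))

theorem sph0_coe (a : Fin m → ℚ) (g : Y) :
    sph0 R hG t a (g : Y ⧸ PJ cs h T X {i | ω₀ i = 0}) = a (t.cls (stY R hG t g)) := by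
  have h1 : (g⁻¹ * (g : Y ⧸ PJ cs h T X {i | ω₀ i = 0}).out) ∈ PJ cs h T X {i | ω₀ i = 0} :=
    QuotientGroup.eq.1 (Quotient.out_eq' (g : Y ⧸ PJ cs h T X {i | ω₀ i = 0})).symm
  have h2 := cls_mul_right R hG t h1 g
  rw [mul_inv_cancel_left] at h2
  rw [sph0, h2]

theorem HasVal.hasSph [Fintype (Y ⧸ PJ cs h T X {i | ω₀ i = 0})] {χ : Y → ℂ} {d : ℕ} {a : Fin m → ℚ}
    (H : HasVal R hG t χ d a) : H582.Sph.HasSph Y ((1 : Y) : Y ⧸ PJ cs h T X {i | ω₀ i = 0}) (fun x => x.out)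
      (fun x => ((sph0 R hG t a x : ℚ) : ℂ)) χ := by
  classical
  have := Fintype.ofFinite Y
  have hQ : ∀ q ∈ PJ cs h T X {i | ω₀ i = 0}, ∀ x, sph0 R hG t a (q • x) = sph0 R hG t a x := by
    intro q hq x
    induction x using Quotient.inductionOn' with
    | h g =>
      show sph0 R hG t a ((q * g : Y) : Y ⧸ PJ cs h T X {i | ω₀ i = 0}) =
        sph0 R hG t a (g : Y ⧸ PJ cs h T X {i | ω₀ i = 0})
      rw [sph0_coe, sph0_coe, stY_mul_left R hG t hq]
  have hd : (d : ℂ) ≠ 0 := by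
    rw [← H.one]
    exact irr_one_ne_zero H.irr
  have hX : (Nat.card (Y ⧸ PJ cs h T X {i | ω₀ i = 0}) : ℂ) ≠ 0 := Nat.cast_ne_zero.2 Nat.card_pos.ne'
  refine ⟨?_, ?_, (d : ℂ) / Nat.card (Y ⧸ PJ cs h T X {i | ω₀ i = 0}), div_ne_zero hd hX, ?_⟩
  · intro q hq x
    have h1 : q ∈ PJ cs h T X {i | ω₀ i = 0} := by
      have h2 : ((q * 1 : Y) : Y ⧸ PJ cs h T X {i | ω₀ i = 0}) = ((1 : Y) : Y ⧸ PJ cs h T X {i | ω₀ i = 0}) := hq
      have h3 := QuotientGroup.eq.1 h2
      rw [mul_one, mul_one] at h3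
      exact inv_mem_iff.1 h3
    show ((sph0 R hG t a (q • x) : ℚ) : ℂ) = _
    rw [hQ q h1]
  · show ((sph0 R hG t a ((1 : Y) : Y ⧸ PJ cs h T X {i | ω₀ i = 0}) : ℚ) : ℂ) = 1
    rw [sph0_coe, (stY_eq_o_iff R hG t).2 (one_mem _), H.base]
    norm_num
  · intro g
    have hγ : ∀ x : Y ⧸ PJ cs h T X {i | ω₀ i = 0}, x.out • ((1 : Y) : Y ⧸ PJ cs h T X {i | ω₀ i = 0}) = x := by
      intro x
      rw [MulAction.Quotient.smul_coe, smul_eq_mul, mul_one]
      exact Quotient.out_eq' x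
    have h1 := H.val g
    rw [finsum_eq_sum_of_fintype] at h1
    have h2 : ∑ y : Y, a (t.cls (stY R hG t (y⁻¹ * g * y))) =
        ∑ y : Y, sph0 R hG t a ((y⁻¹ * g * y : Y) : Y ⧸ PJ cs h T X {i | ω₀ i = 0}) :=
      Finset.sum_congr rfl fun y _ => (sph0_coe R hG t a _).symm
    rw [h2, sum_gamma (cs := cs) (h := h) (T := T) (X := X) (ω₀ := ω₀) (sph0 R hG t a) hQ (fun x => x.out) hγ g] at h1
    have h3 : (Nat.card Y : ℂ) = Nat.card (Y ⧸ PJ cs h T X {i | ω₀ i = 0}) * Nat.card (PJ cs h T X {i | ω₀ i = 0}) := by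
      rw [Subgroup.card_eq_card_quotient_mul_card_subgroup (PJ cs h T X {i | ω₀ i = 0})]
      push_cast
      rfl
    have hP : (Nat.card (PJ cs h T X {i | ω₀ i = 0}) : ℂ) ≠ 0 := Nat.cast_ne_zero.2 Nat.card_pos.ne'
    rw [h3] at h1
    refine mul_left_cancel₀ (mul_ne_zero hX hP) (h1.trans ?_)
    push_cast
    field_simp

include hq in
/-- the size of the orbits of the parabolic subgroup -/
theorem card_orbit (wt : Fin N → ℕ) (hw : wt t.o = 1) (hws : ∀ i s, 0 < t.vec s i → wt (t.st i s) = q i * wt s)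
    (g : Y) : (Nat.card (MulAction.orbit (MulAction.stabilizer Y ((1 : Y) : Y ⧸ PJ cs h T X {i | ω₀ i = 0}))
      (g : Y ⧸ PJ cs h T X {i | ω₀ i = 0})) : ℚ) =
      ∑ s, (if t.cls s = t.cls (stY R hG t g) then (wt s : ℚ) else 0) := by
  classical
  have := Fintype.ofFinite Y
  have := Fintype.ofFinite (Y ⧸ PJ cs h T X {i | ω₀ i = 0})
  obtain ⟨O, hO⟩ : ∃ O, O = MulAction.orbit (MulAction.stabilizer Y ((1 : Y) : Y ⧸ PJ cs h T X {i | ω₀ i = 0}))
      (g : Y ⧸ PJ cs h T X {i | ω₀ i = 0}) := ⟨_, rfl⟩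
  have hst : ∀ q : Y, q ∈ MulAction.stabilizer Y ((1 : Y) : Y ⧸ PJ cs h T X {i | ω₀ i = 0}) ↔
      q ∈ PJ cs h T X {i | ω₀ i = 0} := by
    intro q
    rw [MulAction.mem_stabilizer_iff, MulAction.Quotient.smul_coe, smul_eq_mul, QuotientGroup.eq, mul_one, mul_one,
      inv_mem_iff]
  have hmem : ∀ z : Y, (z : Y ⧸ PJ cs h T X {i | ω₀ i = 0}) ∈ O ↔ t.cls (stY R hG t z) = t.cls (stY R hG t g) := by
    have key : ∀ q ∈ PJ cs h T X {i | ω₀ i = 0}, ∀ x, q • x ∈ O ↔ x ∈ O := by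
      intro q hq x
      have h1 : q • x = (⟨q, (hst q).2 hq⟩ : MulAction.stabilizer Y ((1 : Y) : Y ⧸ PJ cs h T X {i | ω₀ i = 0})) • x := rfl
      rw [hO, h1]
      constructor
      · intro h2
        have h3 := MulAction.mem_orbit_of_mem_orbit
          (⟨q, (hst q).2 hq⟩ : MulAction.stabilizer Y ((1 : Y) : Y ⧸ PJ cs h T X {i | ω₀ i = 0}))⁻¹ h2
        rwa [inv_smul_smul] at h3
      · intro h2
        exact MulAction.mem_orbit_of_mem_orbit _ h2
    obtain ⟨b, hb⟩ := exists_fun R hG t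
      (fun z => if (z : Y ⧸ PJ cs h T X {i | ω₀ i = 0}) ∈ O then (1 : ℚ) else 0)
      (fun y hy z => by
        have h1 : ((y * z : Y) : Y ⧸ PJ cs h T X {i | ω₀ i = 0}) ∈ O ↔ (z : Y ⧸ PJ cs h T X {i | ω₀ i = 0}) ∈ O :=
          key y hy (z : Y ⧸ PJ cs h T X {i | ω₀ i = 0})
        simp only [h1])
      (fun y hy z => by
        have h1 : ((z * y : Y) : Y ⧸ PJ cs h T X {i | ω₀ i = 0}) = (z : Y ⧸ PJ cs h T X {i | ω₀ i = 0}) :=
          QuotientGroup.eq.2 (by simpa using hy)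
        simp only [h1])
    intro z
    constructor
    · intro hz
      rw [hO] at hz
      obtain ⟨⟨q, hq⟩, hqz⟩ := hz
      have h1 : ((q * g : Y) : Y ⧸ PJ cs h T X {i | ω₀ i = 0}) = (z : Y ⧸ PJ cs h T X {i | ω₀ i = 0}) := hqz
      have h2 := QuotientGroup.eq.1 h1
      have h3 := cls_mul_right R hG t h2 (q * g)
      rw [mul_inv_cancel_left] at h3
      rw [h3, stY_mul_left R hG t ((hst q).1 hq)]
    · intro hz
      have h1 := hb g
      have h2 := hb z
      beta_reduce at h1 h2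
      rw [hz, ← h1, if_pos (show (g : Y ⧸ PJ cs h T X {i | ω₀ i = 0}) ∈ O by rw [hO]; exact MulAction.mem_orbit_self _)] at h2
      by_contra h3
      rw [if_neg h3] at h2
      exact zero_ne_one h2
  have h1 := sum_quot R hG t q hq wt hw hws (fun s => if t.cls s = t.cls (stY R hG t g) then (1 : ℚ) else 0)
    (fun x => if x ∈ O then (1 : ℚ) else 0) (fun z => by simp only [hmem])
  rw [← hO, Nat.card_eq_fintype_card, ← Set.toFinset_card, Finset.card_eq_sum_ones, Nat.cast_sum]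
  rw [Finset.sum_ite, Finset.sum_const_zero, add_zero] at h1
  have h2 : (O.toFinset : Finset (Y ⧸ PJ cs h T X {i | ω₀ i = 0})) = Finset.univ.filter fun x => x ∈ O := by
    ext x
    simp
  rw [h2]
  push_cast
  rw [h1]
  refine Finset.sum_congr rfl fun s _ => ?_
  split_ifs <;> simp

include hq in
/-- **congruent eigenvalues, same block** -/
theorem HasVal.sameBlock (wt : Fin N → ℕ) (hw : wt t.o = 1)
    (hws : ∀ i s, 0 < t.vec s i → wt (t.st i s) = q i * wt s) {χ χ' : Y → ℂ} {d d' : ℕ} {a a' : Fin m → ℚ}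
    (H : HasVal R hG t χ d a) (H' : HasVal R hG t χ' d' a') {l : ℕ} {M' : Ideal AlgInt} (hM : IsPModular l M')
    (hc : ∀ c, ∃ z : ℤ, (∑ s, (if t.cls s = c then (wt s : ℚ) else 0)) * (a c - a' c) = l * z) :
    SameBlock M' χ χ' := by
  classical
  have := Fintype.ofFinite Y
  have := Fintype.ofFinite (Y ⧸ PJ cs h T X {i | ω₀ i = 0})
  have hp := hM.2.1.isPrime
  have hγ : ∀ x : Y ⧸ PJ cs h T X {i | ω₀ i = 0}, x.out • ((1 : Y) : Y ⧸ PJ cs h T X {i | ω₀ i = 0}) = x := by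
    intro x
    rw [MulAction.Quotient.smul_coe, smul_eq_mul, mul_one]
    exact Quotient.out_eq' x
  refine H582.Sph.sameBlock_of_base hM hγ (H.hasSph R hG t) (H'.hasSph R hG t) fun y => Or.inl ?_
  induction y using Quotient.inductionOn' with
  | h g =>
    show MemLocalIdeal M' ((Nat.card (MulAction.orbit (MulAction.stabilizer Y
      ((1 : Y) : Y ⧸ PJ cs h T X {i | ω₀ i = 0})) (g : Y ⧸ PJ cs h T X {i | ω₀ i = 0})) : ℂ) *
      ((sph0 R hG t a (g : Y ⧸ PJ cs h T X {i | ω₀ i = 0}) : ℚ) - (sph0 R hG t a' (g : Y ⧸ PJ cs h T X {i | ω₀ i = 0}) : ℚ)))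
    obtain ⟨z, hz⟩ := hc (t.cls (stY R hG t g))
    rw [← card_orbit R hG t q hq wt hw hws g] at hz
    rw [sph0_coe, sph0_coe]
    have h1 := congrArg (fun r : ℚ => (r : ℂ)) hz
    push_cast at h1
    rw [h1]
    exact memLocalIdeal_mul_right (memLocalIdeal_p hM) (memLocalRing_intCast _)

end Cfsg.Agent.H423.PQ.Co
end

private theorem dce_12e52bc41440 : _root_.True := by
  try have : _root_.True := by simp only [_root_.Cfsg.Agent.H423.PQ.Co.Tab.tau.eq_1]
  try have : _root_.True := by simp only [_root_.Cfsg.Agent.H423.PQ.Co.lam.eq_1]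
  try have : _root_.True := by simp only [_root_.Cfsg.Agent.H423.PQ.Co.stY.congr_simp]
  try have : _root_.True := by simp only [_root_.Cfsg.Agent.H423.PQ.Co.cnt.eq_1]
  try have : _root_.True := by simp only [_root_.Cfsg.Agent.H423.PQ.Co.Tab.sw.congr_simp]
  try have : _root_.True := by simp only [_root_.Cfsg.Agent.H423.PQ.Co.stY.eq_1]
  try have : _root_.True := by simp only [_root_.Cfsg.Agent.H423.PQ.Co.sph0.eq_1]
  try have : _root_.True := by simp only [_root_.Cfsg.Agent.H423.PQ.Co.sph0.congr_simp]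
  exact _root_.True.intro
end

-- part: H423/PQ/CoCert
section
set_option linter.all false
open scoped Cfsg.Agent.FastGrp

/-!
# The spherical machine for parabolic subgroups of higher corank: certificates (helper423, for S4612)

`Cert t`: the eigenvalues `th i / ff i` of the averages of the `T_i`, `i ∈ js`, the values `nu k / nu o` of the spherical
function; `ord`, `nd`, `row`, `wit` prove that the joint eigenspace is one-dimensional by triangular propagation: the
row `row u` of the operator of the node `nd u` determines the value at the class `u`. All polynomials in `x`.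
* `Cert.exists_val` : the irreducible constituent with its spherical function;
* `Cert.mem_B0` : it lies in the principal `p`-block if `p` divides `ph x`.
-/

set_option autoImplicit false
set_option linter.unusedSectionVars false

namespace Cfsg.Agent.H423.PQ.Co

open Cfsg Cfsg.Agent.H317.PQ Cfsg.Agent.Blocks.Basic Cfsg.Agent.Blocks.Local
open Cfsg.Agent.H64.Dl.Sph (ev pAdd pShift pNeg pZero pEq ev_nil ev_cons ev_pAdd ev_pShift ev_pNeg ev_of_pEq)
open Cfsg.Agent.H996.Eight.Cert (pScale pMul pPos pSum pDvd val val_spec evZ evZ_cast ev_pMul ev_pScale ev_pSum ev_pos)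
open CoxeterSystem Cfsg.Agent.ChevalleyStructure.CoxeterGeom Cfsg.Agent.Tits.Roots Cfsg.Agent.Tits.Core
  Cfsg.Agent.Nodes.Reps Cfsg.Agent.Nodes.BNOf Cfsg.Agent.Nodes.Bruhat Cfsg.Agent.Nodes.LeviDec

universe u

section Comp

variable {I : Type*} [DecidableEq I] {A : I → I → ℤ} {ω₀ : I → ℤ} {N m : ℕ} (t : Tab A ω₀ N m)

/-- the value of `T_i nu` at a state -/
def tauV (e : I → ℕ) (nu : Fin m → List ℤ) (i : I) (s : Fin N) : List ℤ :=
  if t.vec s i < 0 then pAdd (nu (t.cls (t.st i s))) (pAdd (pShift (e i) (nu (t.cls s))) (pNeg (nu (t.cls s))))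
  else pShift (e i) (nu (t.cls (t.st i s)))

/-- the sum over a class of `x ^ wl s * f s` -/
def clsSum (cls : Fin N → Fin m) (wl : Fin N → ℕ) (f : Fin N → List ℤ) (r : Fin m) : List ℤ :=
  (List.finRange N).foldr (fun s p => if cls s = r then pAdd (pShift (wl s) (f s)) p else p) []

theorem ev_clsSum (x : ℚ) (cls : Fin N → Fin m) (wl : Fin N → ℕ) (f : Fin N → List ℤ) (r : Fin m) :
    ev x (clsSum cls wl f r) = ∑ s, if cls s = r then x ^ wl s * ev x (f s) else 0 := by
  have key : ∀ l : List (Fin N),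
      ev x (l.foldr (fun s p => if cls s = r then pAdd (pShift (wl s) (f s)) p else p) []) =
      (l.map fun s => if cls s = r then x ^ wl s * ev x (f s) else 0).sum := by
    intro l
    induction l with
    | nil => rfl
    | cons s l ih =>
      rw [List.foldr_cons, List.map_cons, List.sum_cons]
      split_ifs with h1
      · rw [ev_pAdd, ev_pShift, ih]
      · rw [ih, zero_add]
  rw [clsSum, key, ← List.sum_ofFn, List.ofFn_eq_map]

theorem ev_tauV (x : ℕ) (e : I → ℕ) (nu : Fin m → List ℤ) (i : I) (s : Fin N) :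
    ev x (tauV t e nu i s) = t.tau (fun i => x ^ e i) i (fun u => ev x (nu (t.cls u))) s := by
  unfold tauV Tab.tau
  split_ifs with h
  · rw [ev_pAdd, ev_pAdd, ev_pShift, ev_pNeg]
    push_cast
    ring
  · rw [ev_pShift]
    push_cast
    ring

theorem tau_add (q : I → ℕ) (i : I) (φ ψ : Fin N → ℚ) (k : ℚ) (s : Fin N) :
    t.tau q i (fun u => φ u - k * ψ u) s = t.tau q i φ s - k * t.tau q i ψ s := by
  unfold Tab.tau
  split_ifs <;> ring

theorem tau_div (q : I → ℕ) (i : I) (φ : Fin N → ℚ) (k : ℚ) (s : Fin N) :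
    t.tau q i (fun u => φ u / k) s = t.tau q i φ s / k := by
  unfold Tab.tau
  split_ifs <;> ring

/-- **A certificate.** -/
structure Cert (t : Tab A ω₀ N m) where
  e : I → ℕ
  wl : Fin N → ℕ
  js : List I
  kk : Fin m → List ℤ
  ff : I → List ℤ
  th : I → List ℤ
  nu : Fin m → List ℤ
  dn : List ℤ
  den : ℕ
  ord : Fin m → ℕ
  nd : Fin m → I
  row : Fin m → Fin m
  wit : Fin m → Fin N
  wo : wl t.o = 0
  ws : ∀ i s, 0 < t.vec s i → wl (t.st i s) = e i + wl s
  chkK : ∀ k, pEq (clsSum t.cls wl (fun _ => [1]) k) (kk k) = true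
  chkP : ∀ k, pPos (kk k) = true
  chkF : ∀ i ∈ js, pPos (ff i) = true
  chkO : pPos (nu (t.cls t.o)) = true
  chkE : ∀ i ∈ js, ∀ r, pEq (pMul (ff i) (clsSum t.cls wl (tauV t e nu i) r)) (pMul (th i) (pMul (kk r) (nu r))) = true
  chkD : pPos dn = true ∧ 0 < den ∧ pDvd den dn ∧
    pEq (pMul dn (pSum fun c => pMul (kk c) (pMul (nu c) (nu c))))
      (pScale den (pMul (pMul (nu (t.cls t.o)) (nu (t.cls t.o))) (pSum kk))) = true
  chkN : ∀ u, u ≠ t.cls t.o → nd u ∈ js
  chkU : ∀ u, u ≠ t.cls t.o → ∀ s, t.cls s = row u → ord (t.cls (t.st (nd u) s)) < ord u ∨ t.cls (t.st (nd u) s) = u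
  chkV : ∀ u, u ≠ t.cls t.o → (ord (row u) < ord u ∧ t.cls (wit u) = row u ∧ t.cls (t.st (nd u) (wit u)) = u) ∨
    (row u = u ∧ pPos (pNeg (th (nd u))) = true)

namespace Cert

variable {t} (C : Cert t)

include C in
theorem sum_K (x : ℕ) (k : Fin m) :
    (∑ s, if t.cls s = k then ((x ^ C.wl s : ℕ) : ℚ) else 0) = ev x (C.kk k) := by
  rw [← ev_of_pEq (x : ℚ) (C.chkK k), ev_clsSum]
  refine Finset.sum_congr rfl fun s _ => ?_
  split_ifs
  · rw [ev_cons, ev_nil]
    push_cast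
    ring
  · rfl

/-- the spherical function -/
def sph (x : ℕ) (k : Fin m) : ℚ := ev x (C.nu k) / ev x (C.nu (t.cls t.o))

theorem base {x : ℕ} (hx : 2 ≤ x) : C.sph x (t.cls t.o) = 1 := by
  have hx' : (2 : ℚ) ≤ (x : ℚ) := by exact_mod_cast hx
  exact div_self (ev_pos hx' C.chkO).ne'

/-- the eigenvalues -/
def the (x : ℕ) (i : I) : ℚ := ev x (C.th i) / ev x (C.ff i)

theorem eig {x : ℕ} (hx : 2 ≤ x) (i : I) (hi : i ∈ C.js) (k : Fin m) :
    ∑ s, (if t.cls s = k then ((x ^ C.wl s : ℕ) : ℚ) * t.tau (fun i => x ^ C.e i) i (fun u => C.sph x (t.cls u)) s else 0) =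
      C.the x i * (∑ s, if t.cls s = k then ((x ^ C.wl s : ℕ) : ℚ) else 0) * C.sph x k := by
  have hx' : (2 : ℚ) ≤ (x : ℚ) := by exact_mod_cast hx
  have h1 := ev_of_pEq (x : ℚ) (C.chkE i hi k)
  rw [ev_pMul, ev_pMul, ev_pMul, ev_clsSum] at h1
  have hf := ev_pos hx' (C.chkF i hi)
  have ho := ev_pos hx' C.chkO
  rw [C.sum_K]
  have h2 : ∀ s, (if t.cls s = k then ((x ^ C.wl s : ℕ) : ℚ) * t.tau (fun i => x ^ C.e i) i
      (fun u => C.sph x (t.cls u)) s else 0) =
      (if t.cls s = k then (x : ℚ) ^ C.wl s * ev x (tauV t C.e C.nu i s) else 0) / ev x (C.nu (t.cls t.o)) := by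
    intro s
    split_ifs
    · have h3 : (fun u => C.sph x (t.cls u)) = fun u => ev x (C.nu (t.cls u)) / ev x (C.nu (t.cls t.o)) := rfl
      rw [h3, tau_div, ev_tauV]
      push_cast
      ring
    · rw [zero_div]
  rw [Finset.sum_congr rfl fun s _ => h2 s, ← Finset.sum_div, the, sph]
  field_simp
  linear_combination h1

/-- **triangular propagation** -/
theorem uniq {x : ℕ} (hx : 2 ≤ x) (b : Fin m → ℚ)
    (hb : ∀ i ∈ C.js, ∀ k, ∑ s, (if t.cls s = k then ((x ^ C.wl s : ℕ) : ℚ) *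
      t.tau (fun i => x ^ C.e i) i (fun u => b (t.cls u)) s else 0) =
      C.the x i * (∑ s, if t.cls s = k then ((x ^ C.wl s : ℕ) : ℚ) else 0) * b k)
    (hbo : b (t.cls t.o) = 0) : ∀ u, b u = 0 := by
  have hx' : (2 : ℚ) ≤ (x : ℚ) := by exact_mod_cast hx
  have hx0 : (0 : ℚ) < x := by linarith
  intro u
  induction hn : C.ord u using Nat.strong_induction_on generalizing u with
  | _ n ih =>
  by_cases huo : u = t.cls t.o
  · rw [huo]
    exact hbo
  by_contra hu
  have hN := C.chkN u huo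
  have hU := C.chkU u huo
  have hV := C.chkV u huo
  have hE := hb _ hN (C.row u)
  obtain ⟨i, hi⟩ : ∃ i, i = C.nd u := ⟨_, rfl⟩
  obtain ⟨r, hr⟩ : ∃ r, r = C.row u := ⟨_, rfl⟩
  rw [← hi, ← hr] at hE hU hV
  have hsq : 0 < b u * b u := mul_self_pos.2 hu
  have hq1 : (0 : ℚ) ≤ ((x ^ C.e i : ℕ) : ℚ) - 1 := by
    have h1 : (1 : ℚ) ≤ ((x ^ C.e i : ℕ) : ℚ) := by
      exact_mod_cast Nat.one_le_pow _ _ (by omega)
    linarith
  -- the signs
  have hnb : ∀ s, t.cls s = r → 0 ≤ b (t.cls (t.st i s)) * b u := by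
    intro s hs
    rcases hU s hs with h1 | h1
    · rw [ih _ (by rw [← hn]; exact h1) _ rfl, zero_mul]
    · rw [h1]
      exact hsq.le
  have hrb : 0 ≤ b r * b u := by
    rcases hV with h1 | h1
    · rw [ih _ (by rw [← hn]; exact h1.1) _ rfl, zero_mul]
    · rw [h1.1]
      exact hsq.le
  have hterm : ∀ s, 0 ≤ (if t.cls s = r then ((x ^ C.wl s : ℕ) : ℚ) *
      t.tau (fun i => x ^ C.e i) i (fun u => b (t.cls u)) s else 0) * b u := by
    intro s
    split_ifs with hs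
    · have h1 := hnb s hs
      have h2 : 0 ≤ t.tau (fun i => x ^ C.e i) i (fun u => b (t.cls u)) s * b u := by
        unfold Tab.tau
        beta_reduce
        split_ifs
        · rw [add_mul, mul_assoc, hs]
          exact add_nonneg h1 (mul_nonneg hq1 hrb)
        · rw [mul_assoc]
          exact mul_nonneg (Nat.cast_nonneg _) h1
      rw [mul_assoc]
      exact mul_nonneg (Nat.cast_nonneg _) h2
    · rw [zero_mul]
  rcases hV with ⟨h1, h2, h3⟩ | ⟨h1, h2⟩
  · -- the row is known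
    have hr0 : b r = 0 := ih _ (by rw [← hn]; exact h1) _ rfl
    rw [hr0, mul_zero] at hE
    have h4 : ∑ s, (if t.cls s = r then ((x ^ C.wl s : ℕ) : ℚ) *
        t.tau (fun i => x ^ C.e i) i (fun u => b (t.cls u)) s else 0) * b u = 0 := by
      rw [← Finset.sum_mul, hE, zero_mul]
    have h5 := (Finset.sum_eq_zero_iff_of_nonneg fun s _ => hterm s).1 h4 (C.wit u) (Finset.mem_univ _)
    rw [if_pos h2] at h5
    have h6 : t.tau (fun i => x ^ C.e i) i (fun u => b (t.cls u)) (C.wit u) * b u = 0 := by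
      rw [mul_assoc] at h5
      refine (mul_eq_zero.1 h5).resolve_left ?_
      exact Nat.cast_ne_zero.2 (pow_ne_zero _ (by omega))
    unfold Tab.tau at h6
    beta_reduce at h6
    rw [h2, h3, hr0] at h6
    split_ifs at h6
    · rw [mul_zero, add_zero] at h6
      exact hsq.ne' h6
    · rw [mul_assoc] at h6
      refine hsq.ne' ((mul_eq_zero.1 h6).resolve_left ?_)
      exact Nat.cast_ne_zero.2 (pow_ne_zero _ (by omega))
  · -- the row is that of the class itself
    have h3 : 0 ≤ ∑ s, (if t.cls s = r then ((x ^ C.wl s : ℕ) : ℚ) *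
        t.tau (fun i => x ^ C.e i) i (fun u => b (t.cls u)) s else 0) * b u :=
      Finset.sum_nonneg fun s _ => hterm s
    rw [← Finset.sum_mul, hE, C.sum_K, h1] at h3
    have h4 := ev_pos hx' (C.chkP u)
    have h5 := ev_pos hx' h2
    rw [ev_pNeg] at h5
    have h6 := ev_pos hx' (C.chkF i (by rw [hi]; exact hN))
    have h7 : C.the x i < 0 := by
      rw [the]
      exact div_neg_of_neg_of_pos (by linarith) h6
    have h8 : C.the x i * ev x (C.kk u) * b u * b u < 0 := by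
      rw [mul_assoc]
      exact mul_neg_of_neg_of_pos (mul_neg_of_neg_of_pos h7 h4) hsq
    linarith

end Cert

end Comp

namespace Cert

variable {I W : Type*} {Y : Type u} [Fintype I] [DecidableEq I] [Group W] [Finite W] [Group Y] [Finite Y]
    {M : CoxeterMatrix I} {cs : CoxeterSystem M W} {A : I → I → ℤ} {h : IsCartan M A} {p : ℕ} {T : Subgroup Y}
    {n : I → Y} {X : (I → ℤ) → Subgroup Y} (R : RGD cs h p T n X) (hG : GG cs h T X = ⊤)
    {ω₀ : I → ℤ} {N m : ℕ} {t : Tab A ω₀ N m} (C : Cert t) {x : ℕ} (hx : 2 ≤ x)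
    (hq : ∀ i, Nat.card (X (sr i)) = x ^ C.e i)

theorem hws' : ∀ i s, 0 < t.vec s i → x ^ C.wl (t.st i s) = x ^ C.e i * x ^ C.wl s := by
  intro i s h9
  rw [C.ws i s h9, pow_add]

theorem hwo' : x ^ C.wl t.o = 1 := by rw [C.wo, pow_zero]

include R hG hx hq in
/-- **The constituent of a certificate.** -/
theorem exists_val : ∃ χ : Y → ℂ, HasVal R hG t χ (val C.den C.dn x) (C.sph x) := by
  have hx' : (2 : ℚ) ≤ (x : ℚ) := by exact_mod_cast hx
  obtain ⟨h1, h2, h3, h4⟩ := C.chkD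
  have hval := val_spec h2 h3 h1 hx
  have ho := ev_pos hx' C.chkO
  have hden : (0 : ℚ) < C.den := by exact_mod_cast h2
  have hsum : ∀ f : Fin m → ℚ, ∑ s, ((x ^ C.wl s : ℕ) : ℚ) * f (t.cls s) = ∑ k, ev x (C.kk k) * f k := by
    intro f
    rw [← Finset.sum_fiberwise (s := Finset.univ) (g := fun s => t.cls s)]
    refine Finset.sum_congr rfl fun k _ => ?_
    rw [← C.sum_K, Finset.sum_mul, Finset.sum_filter]
    refine Finset.sum_congr rfl fun s _ => ?_
    split_ifs with hs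
    · rw [hs]
    · rw [zero_mul]
  refine Co.exists_val R hG t (fun i => x ^ C.e i) hq {i | i ∈ C.js} (C.the x) (C.sph x) (C.base hx)
    (fun s => x ^ C.wl s) C.hwo' C.hws' (fun i hi k => C.eig hx i hi k) (fun b hb k => ?_) (val C.den C.dn x) ?_
  · have h5 := C.uniq hx (fun k => b k - b (t.cls t.o) * C.sph x k) (fun i hi k => by
      have e1 : ∀ s, (if t.cls s = k then ((x ^ C.wl s : ℕ) : ℚ) * t.tau (fun i => x ^ C.e i) i
          (fun u => b (t.cls u) - b (t.cls t.o) * C.sph x (t.cls u)) s else 0) =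
          (if t.cls s = k then ((x ^ C.wl s : ℕ) : ℚ) * t.tau (fun i => x ^ C.e i) i
            (fun u => b (t.cls u)) s else 0) - b (t.cls t.o) *
          (if t.cls s = k then ((x ^ C.wl s : ℕ) : ℚ) * t.tau (fun i => x ^ C.e i) i
            (fun u => C.sph x (t.cls u)) s else 0) := by
        intro s
        split_ifs
        · rw [tau_add]
          ring
        · ring
      rw [Finset.sum_congr rfl fun s _ => e1 s, Finset.sum_sub_distrib, ← Finset.mul_sum, hb i hi k, C.eig hx i hi k]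
      ring) (by simp only [C.base hx]; ring) k
    linarith
  · rw [hsum fun k => C.sph x k ^ 2]
    have h9 := hsum (fun _ => 1)
    simp only [mul_one] at h9
    rw [h9]
    have h10 := ev_of_pEq (x : ℚ) h4
    rw [ev_pMul, ev_pScale, ev_pMul, ev_pMul, ev_pSum, ev_pSum, ← hval] at h10
    have h11 : ∑ k, ev (x : ℚ) (C.kk k) * C.sph x k ^ 2 =
        (∑ k, ev x (pMul (C.kk k) (pMul (C.nu k) (C.nu k)))) / ev x (C.nu (t.cls t.o)) ^ 2 := by
      rw [Finset.sum_div]
      refine Finset.sum_congr rfl fun k _ => ?_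
      rw [ev_pMul, ev_pMul, sph]
      ring
    rw [h11]
    have h12 : (0 : ℚ) < ev x (C.nu (t.cls t.o)) ^ 2 := by positivity
    rw [← mul_div_assoc, div_eq_iff h12.ne']
    refine mul_left_cancel₀ hden.ne' ?_
    rw [← mul_assoc, h10]
    push_cast
    ring

/-- the polynomials `lam k = kk k * nu k / nu o`, and `lam k - kk k = ph * gg k` -/
structure Sl (C : Cert t) (ph : List ℤ) where
  lam : Fin m → List ℤ
  gg : Fin m → List ℤ
  h1 : ∀ k, pEq (pMul (lam k) (C.nu (t.cls t.o))) (pMul (C.kk k) (C.nu k)) = true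
  h2 : ∀ k, pEq (pAdd (lam k) (pNeg (C.kk k))) (pMul ph (gg k)) = true

include hx hq in
/-- **the constituent is in the principal block** -/
theorem mem_B0 {ph : List ℤ} (L : Sl C ph) {χ : IrrCharacter Y}
    (H : HasVal R hG t (χ : Y → ℂ) (val C.den C.dn x) (C.sph x)) {l : ℕ} (hl : l.Prime) (hd : (l : ℤ) ∣ evZ x ph) :
    χ ∈ B0 l Y := by
  have hx' : (2 : ℚ) ≤ (x : ℚ) := by exact_mod_cast hx
  obtain ⟨M', hM⟩ := Cfsg.Agent.Blocks.ExistsModular.exists_isPModular hl
  have hMp : M'.IsPrime := isPrime_of_isPModular hM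
  obtain ⟨w, hw⟩ := hd
  have ho := ev_pos hx' C.chkO
  have h4 : SameBlock M' (1 : Y → ℂ) (χ : Y → ℂ) := by
    refine HasVal.sameBlock R hG t (fun i => x ^ C.e i) hq (fun s => x ^ C.wl s) C.hwo' C.hws'
      (HasVal.trivial R hG t) H hM ?_
    intro k
    refine ⟨-(w * evZ x (L.gg k)), ?_⟩
    rw [C.sum_K]
    have h1 := ev_of_pEq (x : ℚ) (L.h1 k)
    have h2 := ev_of_pEq (x : ℚ) (L.h2 k)
    rw [ev_pMul, ev_pMul] at h1
    rw [ev_pAdd, ev_pNeg, ev_pMul] at h2
    have h3 : ev (x : ℚ) (C.kk k) * C.sph x k = ev x (L.lam k) := by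
      rw [sph, ← mul_div_assoc, ← h1, mul_div_assoc, div_self ho.ne', mul_one]
    rw [mul_sub, h3, mul_one]
    have h5 := evZ_cast (x : ℤ) ph
    have h6 := evZ_cast (x : ℤ) (L.gg k)
    push_cast at h5 h6
    have h7 : ((evZ x ph : ℤ) : ℚ) = ((l * w : ℤ) : ℚ) := by rw [hw]
    push_cast at h7 ⊢
    rw [← h5, h7, ← h6] at h2
    linear_combination -h2
  rw [B0_eq hl hM]
  intro g
  exact h4 g

include R hG hx hq in
/-- **The exclusion.** -/
theorem not_same {ph : List ℤ} (L : Sl C ph) {p' l : ℕ} (hp : p'.Prime) (hl : l.Prime) (hd : (p' : ℤ) ∣ evZ x ph)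
    (hlG : l ∣ Nat.card Y)
    (hdeg : (Nat.card Y).factorization l ≤ (val C.den C.dn x).factorization l) : ¬ Same p' l Y := by
  intro hS
  obtain ⟨χ, hχ⟩ := C.exists_val R hG hx hq
  have h1 : (⟨χ, hχ.irr⟩ : IrrCharacter Y) ∈ B0 p' Y := C.mem_B0 R hG hx hq L hχ hp hd
  rw [hS] at h1
  have h2 := H766.PQ.not_defect_zero hl hlG h1
  have h3 : charDegree χ = val C.den C.dn x := by
    have h4 := irr_one_eq_charDegree hχ.irr
    rw [hχ.one] at h4
    exact_mod_cast h4.symm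
  rw [show charDegree ((⟨χ, hχ.irr⟩ : IrrCharacter Y) : Y → ℂ) = val C.den C.dn x from h3] at h2
  omega

end Cert

end Cfsg.Agent.H423.PQ.Co

private theorem dce_2989829b9e45 : _root_.True := by
  try have : _root_.True := by simp only [_root_.Cfsg.Agent.H423.PQ.Co.clsSum.eq_1]
  try have : _root_.True := by simp only [_root_.Cfsg.Agent.H423.PQ.Co.Cert.sph.eq_1]
  try have : _root_.True := by simp only [_root_.Cfsg.Agent.H423.PQ.Co.Cert.the.eq_1]
  exact _root_.True.intro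
end

-- part: H632/PQ/Dz
section
prune_inst 0x80000000000000c010000
set_option linter.all false
open scoped Cfsg.Agent.FastGrp

-- part: H632/PQ/Arith
section
/-!
# The arithmetic of the tests for principal blocks (helper632, for S4612)

`Dat m`: the polynomials of a parabolic subgroup with auxiliary data; `Rs m`: a reason for `p ∣ r`, given that
`S = {i | χ i ∈ B0 p G}` passes the tests and `ord x p = e`; `Bad`: the set `S` (a mask `k`) does not occur for any
odd prime `p` of order `e`.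
-/

set_option autoImplicit false

namespace Cfsg.Agent.H632.PQ.Arith

open Cfsg.Agent.H996.PQ Cfsg.Agent.H996.Eight.Cert Cfsg.Agent.H64.Dl.Sph Cfsg.Agent.H317.PQ

/-! ### polynomials -/

theorem evZ_of_pEq (x : ℤ) {p q : List ℤ} (h : pEq p q = true) : evZ x p = evZ x q := by
  have h1 := ev_of_pEq (x : ℚ) h
  rw [← evZ_cast, ← evZ_cast] at h1
  exact_mod_cast h1

theorem evZ_pMul (x : ℤ) (p q : List ℤ) : evZ x (pMul p q) = evZ x p * evZ x q := by
  have h1 := ev_pMul (x : ℚ) p q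
  rw [← evZ_cast, ← evZ_cast, ← evZ_cast] at h1
  exact_mod_cast h1

theorem evZ_pAdd (x : ℤ) (p q : List ℤ) : evZ x (pAdd p q) = evZ x p + evZ x q := by
  have h1 := ev_pAdd (x : ℚ) p q
  rw [← evZ_cast, ← evZ_cast, ← evZ_cast] at h1
  exact_mod_cast h1

theorem evZ_pScale (x : ℤ) (c : ℤ) (p : List ℤ) : evZ x (pScale c p) = c * evZ x p := by
  have h1 := ev_pScale (x : ℚ) c p
  rw [← evZ_cast, ← evZ_cast] at h1
  exact_mod_cast h1

/-- the cyclotomic polynomials which are used -/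
def Phi (e : ℕ) : List ℤ :=
  (([[], [-1, 1], [1, 1], [1, 1, 1], [1, 0, 1], [1, 1, 1, 1, 1], [1, -1, 1], [1, 1, 1, 1, 1, 1, 1], [1, 0, 0, 0, 1],
    [1, 0, 0, 1, 0, 0, 1], [1, -1, 1, -1, 1], [], [1, 0, -1, 0, 1], [], [1, -1, 1, -1, 1, -1, 1],
    [1, -1, 0, 1, -1, 1, 0, -1, 1], [], [], [1, 0, 0, -1, 0, 0, 1], [], [1, 0, -1, 0, 1, 0, -1, 0, 1], [], [], [],
    [1, 0, 0, 0, -1, 0, 0, 0, 1], [], [], [], [], [], [1, 1, 0, -1, -1, -1, 0, 1, 1]] : List (List ℤ))).getD e []

/-- a multiple of `Phi e` which is a product of `x ^ d - 1`, `d` proper divisors, up to `x ^ e - 1` -/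
theorem dvd_of_ord {x p e : ℕ} (hp : p.Prime) (he : ord x p = e) {ds : List ℕ} (hds : ∀ d ∈ ds, ¬ e ∣ d) {A B : ℤ}
    (h : A * (ds.map fun d => (x : ℤ) ^ d - 1).prod = ((x : ℤ) ^ e - 1) * B) : (p : ℤ) ∣ A := by
  have hpZ : Prime (p : ℤ) := Nat.prime_iff_prime_int.1 hp
  have : Fact p.Prime := ⟨hp⟩
  have key : ∀ d : ℕ, (p : ℤ) ∣ (x : ℤ) ^ d - 1 ↔ e ∣ d := by
    intro d
    rw [← he, ord, orderOf_dvd_iff_pow_eq_one, ← ZMod.intCast_zmod_eq_zero_iff_dvd]
    push_cast
    rw [sub_eq_zero]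
  have h1 : (p : ℤ) ∣ A * (ds.map fun d => (x : ℤ) ^ d - 1).prod := by
    rw [h]
    exact Dvd.dvd.mul_right ((key e).2 dvd_rfl) _
  rcases hpZ.dvd_or_dvd h1 with h2 | h2
  · exact h2
  · exfalso
    obtain ⟨d, hd, h3⟩ := (Prime.dvd_prod_iff hpZ).1 h2
    obtain ⟨d', hd', rfl⟩ := List.mem_map.1 hd
    exact hds d' hd' ((key d').1 h3)

/-- `p` divides the value of the cyclotomic polynomial of the order of `x` -/
theorem dvd_Phi {x p e : ℕ} (hp : p.Prime) (he : ord x p = e)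
    (hm : e ∈ [2, 3, 4, 5, 6, 7, 8, 9, 10, 12, 14, 15, 18, 20, 24, 30]) : (p : ℤ) ∣ evZ x (Phi e) := by
  have one : ∀ {ds : List ℕ} (B : ℤ), (∀ d ∈ ds, ¬ e ∣ d) →
      evZ x (Phi e) * (ds.map fun d => (x : ℤ) ^ d - 1).prod = ((x : ℤ) ^ e - 1) * B → (p : ℤ) ∣ evZ x (Phi e) :=
    fun B hds h => dvd_of_ord hp he hds h
  simp only [List.mem_cons, List.not_mem_nil, or_false] at hm
  rcases hm with rfl | rfl | rfl | rfl | rfl | rfl | rfl | rfl | rfl | rfl | rfl | rfl | rfl | rfl | rfl | rfl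
  · refine one (ds := [1]) 1 (by decide) ?_
    show evZ x [1, 1] * _ = _
    simp only [evZ, List.map_cons, List.map_nil, List.prod_cons, List.prod_nil]; ring
  · refine one (ds := [1]) 1 (by decide) ?_
    show evZ x [1, 1, 1] * _ = _
    simp only [evZ, List.map_cons, List.map_nil, List.prod_cons, List.prod_nil]; ring
  · refine one (ds := [2]) 1 (by decide) ?_
    show evZ x [1, 0, 1] * _ = _
    simp only [evZ, List.map_cons, List.map_nil, List.prod_cons, List.prod_nil]; ring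
  · refine one (ds := [1]) 1 (by decide) ?_
    show evZ x [1, 1, 1, 1, 1] * _ = _
    simp only [evZ, List.map_cons, List.map_nil, List.prod_cons, List.prod_nil]; ring
  · refine one (ds := [2, 3]) ((x : ℤ) - 1) (by decide) ?_
    show evZ x [1, -1, 1] * _ = _
    simp only [evZ, List.map_cons, List.map_nil, List.prod_cons, List.prod_nil]; ring
  · refine one (ds := [1]) 1 (by decide) ?_
    show evZ x [1, 1, 1, 1, 1, 1, 1] * _ = _
    simp only [evZ, List.map_cons, List.map_nil, List.prod_cons, List.prod_nil]; ring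
  · refine one (ds := [4]) 1 (by decide) ?_
    show evZ x [1, 0, 0, 0, 1] * _ = _
    simp only [evZ, List.map_cons, List.map_nil, List.prod_cons, List.prod_nil]; ring
  · refine one (ds := [3]) 1 (by decide) ?_
    show evZ x [1, 0, 0, 1, 0, 0, 1] * _ = _
    simp only [evZ, List.map_cons, List.map_nil, List.prod_cons, List.prod_nil]; ring
  · refine one (ds := [5, 2]) ((x : ℤ) - 1) (by decide) ?_
    show evZ x [1, -1, 1, -1, 1] * _ = _
    simp only [evZ, List.map_cons, List.map_nil, List.prod_cons, List.prod_nil]; ring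
  · refine one (ds := [6, 4]) ((x : ℤ) ^ 2 - 1) (by decide) ?_
    show evZ x [1, 0, -1, 0, 1] * _ = _
    simp only [evZ, List.map_cons, List.map_nil, List.prod_cons, List.prod_nil]; ring
  · refine one (ds := [7, 2]) ((x : ℤ) - 1) (by decide) ?_
    show evZ x [1, -1, 1, -1, 1, -1, 1] * _ = _
    simp only [evZ, List.map_cons, List.map_nil, List.prod_cons, List.prod_nil]; ring
  · refine one (ds := [5, 3]) ((x : ℤ) - 1) (by decide) ?_
    show evZ x [1, -1, 0, 1, -1, 1, 0, -1, 1] * _ = _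
    simp only [evZ, List.map_cons, List.map_nil, List.prod_cons, List.prod_nil]; ring
  · refine one (ds := [9, 6]) ((x : ℤ) ^ 3 - 1) (by decide) ?_
    show evZ x [1, 0, 0, -1, 0, 0, 1] * _ = _
    simp only [evZ, List.map_cons, List.map_nil, List.prod_cons, List.prod_nil]; ring
  · refine one (ds := [10, 4]) ((x : ℤ) ^ 2 - 1) (by decide) ?_
    show evZ x [1, 0, -1, 0, 1, 0, -1, 0, 1] * _ = _
    simp only [evZ, List.map_cons, List.map_nil, List.prod_cons, List.prod_nil]; ring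
  · refine one (ds := [12, 8]) ((x : ℤ) ^ 4 - 1) (by decide) ?_
    show evZ x [1, 0, 0, 0, -1, 0, 0, 0, 1] * _ = _
    simp only [evZ, List.map_cons, List.map_nil, List.prod_cons, List.prod_nil]; ring
  · refine one (ds := [15, 10, 6]) (((x : ℤ) ^ 5 - 1) * ((x : ℤ) ^ 3 - 1) * ((x : ℤ) + 1)) (by decide) ?_
    show evZ x [1, 1, 0, -1, -1, -1, 0, 1, 1] * _ = _
    simp only [evZ, List.map_cons, List.map_nil, List.prod_cons, List.prod_nil]; ring

theorem mod_of_ord {x p e : ℕ} (hp : p.Prime) (he : ord x p = e) (he0 : e ≠ 0) : p % e = 1 % e := by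
  have : Fact p.Prime := ⟨hp⟩
  have hx : (x : ZMod p) ≠ 0 := by
    intro h0
    apply he0
    rw [← he, ord, h0, orderOf_eq_zero_iff']
    intro n hn h1
    rw [zero_pow hn.ne'] at h1
    exact zero_ne_one h1
  have h1 : e ∣ p - 1 := by
    rw [← he]
    exact ZMod.orderOf_dvd_card_sub_one hx
  exact ((Nat.modEq_iff_dvd' hp.one_lt.le).2 h1).symm

/-! ### the checker -/

/-- no prime divisor of `R` is `1` modulo `e` -/
def chkR (R e : ℕ) : Bool := R != 0 && e != 0 && (List.range (R + 1)).all fun d =>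
  d % e != 1 % e || R % d != 0 || d == 1 || (List.range d).any fun c => 1 < c && d % c == 0

theorem chkR_spec {R e : ℕ} (h : chkR R e = true) {x p : ℕ} (hp : p.Prime) (he : ord x p = e) : ¬ p ∣ R := by
  intro hpR
  simp only [chkR, Bool.and_eq_true, bne_iff_ne, ne_eq, List.all_eq_true, List.mem_range, Bool.or_eq_true,
    beq_iff_eq, List.any_eq_true, decide_eq_true_eq] at h
  obtain ⟨⟨h1, h2⟩, h3⟩ := h
  rcases h3 p (Nat.lt_succ_of_le (Nat.le_of_dvd (Nat.pos_of_ne_zero h1) hpR)) with ((h4 | h4) | h4) | h4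
  · exact h4 (mod_of_ord hp he h2)
  · exact h4 (Nat.mod_eq_zero_of_dvd hpR)
  · exact hp.one_lt.ne' h4
  · obtain ⟨c, hc, hc1, hc2⟩ := h4
    rcases (Nat.dvd_prime hp).1 (Nat.dvd_of_mod_eq_zero hc2) with h5 | h5
    · omega
    · omega

variable {m : ℕ}

/-- the polynomials with auxiliary data: `N = Phi e * NQ e` (if `Phi e ∣ N`); `t c i` the value of
`2 W_c deg_i sph_i(c)` -/
structure Dat (m : ℕ) where
  P : Pol m
  NQ : ℕ → List ℤ
  W : Fin m → List ℤ
  t : Fin m → Fin m → List ℤ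

/-- the data are correct -/
def Dat.Ok (D : Dat m) : Prop :=
  (∀ i, D.P.den i ≠ 0 ∧ 2 % D.P.den i = 0 ∧ pPos (D.P.nu i D.P.o) = true) ∧
  ∀ c i, pEq (pScale (D.P.den i) (pMul (D.t c i) (D.P.nu i D.P.o)))
    (pScale 2 (pMul (D.W c) (pMul (D.P.dn i) (D.P.nu i c)))) = true

instance (D : Dat m) : Decidable D.Ok := by unfold Dat.Ok; infer_instance

/-- the sum over a mask -/
def pS (k : ℕ) (f : Fin m → List ℤ) : List ℤ :=
  (List.finRange m).foldr (fun (i : Fin m) p => if k.testBit i then pAdd (f i) p else p) []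

theorem evZ_pS (x : ℤ) {k : ℕ} {S : Finset (Fin m)} (hS : ∀ i : Fin m, i ∈ S ↔ k.testBit i = true)
    (f : Fin m → List ℤ) : evZ x (pS k f) = ∑ i ∈ S, evZ x (f i) := by
  have key : ∀ l : List (Fin m), evZ x (l.foldr (fun (i : Fin m) p => if k.testBit i then pAdd (f i) p else p) []) =
      (l.map fun i : Fin m => if i ∈ S then evZ x (f i) else 0).sum := by
    intro l
    induction l with
    | nil => rfl
    | cons i l ih =>
      rw [List.foldr_cons, List.map_cons, List.sum_cons]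
      by_cases h : i ∈ S
      · rw [if_pos ((hS i).1 h), if_pos h, evZ_pAdd, ih]
      · rw [if_neg (fun h1 => h ((hS i).2 h1)), if_neg h, ih, zero_add]
  rw [pS, key, ← List.ofFn_eq_map, List.sum_ofFn, Finset.sum_ite_mem, Finset.univ_inter]

/-- the sum of the degrees, times `2` -/
def Dat.T (D : Dat m) (k : ℕ) : List ℤ := pS k fun i => pScale ((2 / D.P.den i : ℕ) : ℤ) (D.P.dn i)

/-- a reason for `p ∣ r` -/
inductive Rs (m : ℕ)
  | cls (i : Fin m) (r : ℕ) (a b : List ℤ)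
  | tr (r : ℕ) (a b : List ℤ)
  | trp (Q : List ℤ) (r : ℕ) (a b : List ℤ)
  | co (c : Fin m) (Q : List ℤ) (r : ℕ) (a b : List ℤ)

/-- the divisor -/
def Rs.r : Rs m → ℕ
  | .cls _ r _ _ => r
  | .tr r _ _ => r
  | .trp _ r _ _ => r
  | .co _ _ r _ _ => r

/-- `a f + b Phi_e = r` -/
def res (e : ℕ) (f : List ℤ) (r : ℕ) (a b : List ℤ) : Bool := pEq (pAdd (pMul a f) (pMul b (Phi e))) [(r : ℤ)]

theorem dvd_of_res {x : ℤ} {p : ℤ} {e r : ℕ} {f a b : List ℤ} (h : res e f r a b = true) (hf : p ∣ evZ x f)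
    (he : p ∣ evZ x (Phi e)) : p ∣ r := by
  have h1 := evZ_of_pEq x h
  rw [evZ_pAdd, evZ_pMul, evZ_pMul] at h1
  have h2 : evZ x [(r : ℤ)] = r := by simp [evZ]
  rw [h2] at h1
  rw [← h1]
  exact dvd_add (hf.mul_left _) (he.mul_left _)

/-- the check of a reason -/
def Rs.ok (D : Dat m) (e k : ℕ) : Rs m → Bool
  | .cls i r a b => k.testBit i && res e (pMul [-1, 1] (D.P.D i)) r a b
  | .tr r a b => pEq (pMul (Phi e) (D.NQ e)) D.P.N && res e (D.T k) r a b
  | .trp Q r a b => pEq (pMul (Phi e) Q) (D.T k) && res e D.P.N r a b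
  | .co c Q r a b => pEq (pMul (Phi e) Q) (pMul D.P.N (D.W c)) && res e (pS k (D.t c)) r a b

theorem T_eq {D : Dat m} (hD : D.Ok) {x : ℕ}
    (hdeg : ∀ i, (D.P.den i : ℤ) * (D.P.deg x i : ℤ) = evZ x (D.P.dn i))
    {k : ℕ} {S : Finset (Fin m)} (hS : ∀ i : Fin m, i ∈ S ↔ k.testBit i = true) :
    evZ x (D.T k) = 2 * ∑ i ∈ S, (D.P.deg x i : ℤ) := by
  rw [Dat.T, evZ_pS x hS, Finset.mul_sum]
  refine Finset.sum_congr rfl fun i _ => ?_
  rw [evZ_pScale, ← hdeg, ← mul_assoc]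
  congr 1
  exact_mod_cast Nat.div_mul_cancel (Nat.dvd_of_mod_eq_zero (hD.1 i).2.1)

theorem t_eq {D : Dat m} (hD : D.Ok) {x : ℕ} (hx : 2 ≤ x)
    (hdeg : ∀ i, (D.P.den i : ℤ) * (D.P.deg x i : ℤ) = evZ x (D.P.dn i)) (c i : Fin m) :
    (evZ x (D.t c i) : ℚ) = 2 * evZ x (D.W c) * ((D.P.deg x i : ℚ) * D.P.sph x i c) := by
  have h1 := evZ_of_pEq (x : ℤ) (hD.2 c i)
  rw [evZ_pScale, evZ_pMul, evZ_pScale, evZ_pMul, evZ_pMul, ← hdeg] at h1
  have h2 : (0 : ℚ) < ev x (D.P.nu i D.P.o) := ev_pos (by exact_mod_cast hx) (hD.1 i).2.2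
  have h3 : ((D.P.den i : ℤ) : ℚ) ≠ 0 := by exact_mod_cast (hD.1 i).1
  have h4 := evZ_cast (x : ℤ) (D.P.nu i D.P.o)
  have h5 := evZ_cast (x : ℤ) (D.P.nu i c)
  have h1 := congrArg (fun z : ℤ => (z : ℚ)) h1
  push_cast at h1 h3 h4 h5
  rw [h4, h5] at h1
  rw [Pol.sph]
  field_simp
  refine mul_left_cancel₀ h3 ?_
  linear_combination h1

theorem Rs.dvd {D : Dat m} (hD : D.Ok) {x p e k : ℕ} (hx : 2 ≤ x)
    (hdeg : ∀ i, (D.P.den i : ℤ) * (D.P.deg x i : ℤ) = evZ x (D.P.dn i)) (hp : p.Prime) (hp2 : p ≠ 2)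
    (he : (p : ℤ) ∣ evZ x (Phi e)) {S : Finset (Fin m)} (hS : ∀ i : Fin m, i ∈ S ↔ k.testBit i = true)
    (hT : Tst D.P x p S) {c : Rs m} (hc : c.ok D e k = true) : p ∣ c.r := by
  have hpZ : Prime (p : ℤ) := Nat.prime_iff_prime_int.1 hp
  have h2 : ∀ z : ℤ, (p : ℤ) ∣ 2 * z → (p : ℤ) ∣ z := by
    intro z hz
    rcases hpZ.dvd_or_dvd hz with h | h
    · exfalso
      have h3 : p ∣ 2 := by exact_mod_cast h
      exact hp2 ((Nat.prime_dvd_prime_iff_eq hp Nat.prime_two).1 h3)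
    · exact h
  cases c with
  | cls i r a b =>
    rw [Rs.ok, Bool.and_eq_true] at hc
    have h3 := hT.cls i ((hS i).2 hc.1)
    have h4 : (p : ℤ) ∣ evZ x (pMul [-1, 1] (D.P.D i)) := by
      rw [evZ_pMul]
      have h5 : evZ (x : ℤ) [-1, 1] = (x : ℤ) - 1 := by simp only [evZ]; ring
      rwa [h5]
    exact_mod_cast dvd_of_res hc.2 h4 he
  | tr r a b =>
    rw [Rs.ok, Bool.and_eq_true] at hc
    have h3 : (p : ℤ) ∣ evZ x D.P.N := by
      rw [← evZ_of_pEq x hc.1, evZ_pMul]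
      exact he.mul_right _
    have h4 := hT.tr 1 (by rwa [pow_one])
    rw [pow_one] at h4
    have h5 : (p : ℤ) ∣ evZ x (D.T k) := by
      rw [T_eq hD hdeg hS]
      exact h4.mul_left _
    exact_mod_cast dvd_of_res hc.2 h5 he
  | trp Q r a b =>
    rw [Rs.ok, Bool.and_eq_true] at hc
    have h3 : (p : ℤ) ∣ evZ x (D.T k) := by
      rw [← evZ_of_pEq x hc.1, evZ_pMul]
      exact he.mul_right _
    rw [T_eq hD hdeg hS] at h3
    have h4 : (p : ℤ) ∣ evZ x D.P.N := by
      by_contra hn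
      exact hT.tr' hn (h2 _ h3)
    exact_mod_cast dvd_of_res hc.2 h4 he
  | co c Q r a b =>
    rw [Rs.ok, Bool.and_eq_true] at hc
    have h3 : (p : ℤ) ∣ evZ x D.P.N * evZ x (D.W c) := by
      rw [← evZ_pMul, ← evZ_of_pEq x hc.1, evZ_pMul]
      exact he.mul_right _
    obtain ⟨u, v, hv, huv⟩ := hT.co c
    have h4 : v * evZ x (pS k (D.t c)) = 2 * u * (evZ x D.P.N * evZ x (D.W c)) := by
      have h5 : ((v * evZ x (pS k (D.t c)) : ℤ) : ℚ) = ((2 * u * (evZ x D.P.N * evZ x (D.W c)) : ℤ) : ℚ) := by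
        rw [evZ_pS x hS]
        push_cast
        rw [Finset.sum_congr rfl fun i _ => t_eq hD hx hdeg c i, ← Finset.mul_sum]
        have h6 := evZ_cast (x : ℤ) D.P.N
        push_cast at h6
        rw [h6]
        linear_combination 2 * (evZ x (D.W c) : ℚ) * huv
      exact_mod_cast h5
    have h7 : (p : ℤ) ∣ v * evZ x (pS k (D.t c)) := by
      rw [h4]
      exact h3.mul_left _
    have h8 := (hpZ.dvd_or_dvd h7).resolve_left hv
    exact_mod_cast dvd_of_res hc.2 h8 he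

/-- the table of reasons: `(e, l)` with `l` indexed by `k / 2` -/
abbrev Tab (m : ℕ) := List (ℕ × List (List (Rs m)))

/-- the reasons for `(e, k)` -/
def get (tab : Tab m) (e k : ℕ) : List (Rs m) :=
  match tab.lookup e with
  | some l => l.getD (k / 2) []
  | none => []

/-- the set with mask `k` does not occur for an odd prime of order `e` -/
def Bad (D : Dat m) (tab : Tab m) (e k : ℕ) : Bool :=
  [2, 3, 4, 5, 6, 7, 8, 9, 10, 12, 14, 15, 18, 20, 24, 30].contains e &&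
  (get tab e k).all (fun c => c.ok D e k) && chkR ((get tab e k).foldr (fun c r => Nat.gcd c.r r) 0) e

theorem Bad.spec {D : Dat m} (hD : D.Ok) {tab : Tab m} {x p e k : ℕ} (hx : 2 ≤ x)
    (hdeg : ∀ i, (D.P.den i : ℤ) * (D.P.deg x i : ℤ) = evZ x (D.P.dn i)) (hp : p.Prime) (hp2 : p ≠ 2)
    (he : ord x p = e) {S : Finset (Fin m)} (hS : ∀ i : Fin m, i ∈ S ↔ k.testBit i = true)
    (hT : Tst D.P x p S) : Bad D tab e k = false := by
  by_contra hcon
  rw [Bool.not_eq_false, Bad, Bool.and_eq_true, Bool.and_eq_true, List.all_eq_true] at hcon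
  obtain ⟨⟨h1, h2⟩, h3⟩ := hcon
  have h1 : e ∈ [2, 3, 4, 5, 6, 7, 8, 9, 10, 12, 14, 15, 18, 20, 24, 30] := by
    simpa using h1
  have h4 := dvd_Phi hp he h1
  refine chkR_spec h3 hp he ?_
  have key : ∀ l : List (Rs m), (∀ c ∈ l, c.ok D e k = true) → p ∣ l.foldr (fun c r => Nat.gcd c.r r) 0 := by
    intro l
    induction l with
    | nil => exact fun _ => dvd_zero p
    | cons c l ih =>
      intro h
      rw [List.foldr_cons]
      exact Nat.dvd_gcd (Rs.dvd hD hx hdeg hp hp2 h4 hS hT (h c List.mem_cons_self))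
        (ih fun c' hc' => h c' (List.mem_cons_of_mem _ hc'))
  exact key _ h2

/-- a mask -/
theorem exists_mask (S : Finset (Fin m)) : ∃ k : ℕ, k < 2 ^ m ∧ ∀ i : Fin m, i ∈ S ↔ k.testBit i = true := by
  refine ⟨Nat.ofBits fun i : Fin m => decide (i ∈ S), Nat.ofBits_lt_two_pow _, fun i => ?_⟩
  rw [Nat.testBit_ofBits_lt _ _ i.2, decide_eq_true_eq]

/-- a set which passes the tests for both primes -/
theorem exists_both [NeZero m] {D : Dat m} (hD : D.Ok) {lam : Fin m → Fin m → List ℤ} {tab : Tab m} {x p l g e f : ℕ}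
    (hx : 2 ≤ x) (hdeg : ∀ i, (D.P.den i : ℤ) * (D.P.deg x i : ℤ) = evZ x (D.P.dn i)) (hp : p.Prime) (hp2 : p ≠ 2)
    (he : ord x p = e) (hl : l.Prime) (hl2 : l ≠ 2) (hf : ord x l = f) (h : SepX D.P lam x p l g 0) :
    ∃ (S : Finset (Fin m)) (k : ℕ), k < 2 ^ m ∧ (∀ i : Fin m, i ∈ S ↔ k.testBit i = true) ∧ k.testBit 0 = true ∧
      TstX D.P lam x p g S ∧ TstX D.P lam x l g S ∧ Bad D tab e k = false ∧ Bad D tab f k = false := by
  obtain ⟨S, h0, h1, h2⟩ := h
  obtain ⟨k, hk, hS⟩ := exists_mask S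
  exact ⟨S, k, hk, hS, (hS 0).1 h0, h1, h2, Bad.spec hD hx hdeg hp hp2 he hS h1.toTst,
    Bad.spec hD hx hdeg hl hl2 hf hS h2.toTst⟩

/-- the pairs of orders `e`, `f` are excluded by the tables -/
def Kl (D : Dat m) (tab : Tab m) (e f : ℕ) : Prop :=
  ∀ k < 2 ^ m, k.testBit 0 = true → Bad D tab e k = true ∨ Bad D tab f k = true

instance (D : Dat m) (tab : Tab m) (e f : ℕ) : Decidable (Kl D tab e f) := by unfold Kl; infer_instance

universe u

theorem kill_of [NeZero m] {G : Type u} [Group G] {D : Dat m} (hD : D.Ok) {lam : Fin m → Fin m → List ℤ}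
    {tab : Tab m} {x g : ℕ} (hx : 2 ≤ x) (hdeg : ∀ i, (D.P.den i : ℤ) * (D.P.deg x i : ℤ) = evZ x (D.P.dn i))
    (hsep : ∀ p l : ℕ, p.Prime → l.Prime → Same p l G → SepX D.P lam x p l g 0) {e f : ℕ} (h : Kl D tab e f) :
    Kill G x e f := by
  intro p l hp hl hp2 hl2 _ _ _ he hf hS
  obtain ⟨S, k, hk, _, h0, _, _, h1, h2⟩ := exists_both hD (tab := tab) hx hdeg hp hp2 he hl hl2 hf (hsep p l hp hl hS)
  rcases h k hk h0 with h3 | h3
  · rw [h3] at h1
    exact Bool.noConfusion h1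
  · rw [h3] at h2
    exact Bool.noConfusion h2

end Cfsg.Agent.H632.PQ.Arith
end

-- part: H632/PQ/Dz
section
/-!
# Characters of defect zero and of odd degree (helper632, for S4612)

`DzC m`: a certificate for `|G|_p ≤ deg_i (p)` for all odd primes `p` of order `e`.
-/

set_option autoImplicit false

namespace Cfsg.Agent.H632.PQ.Arith

open Cfsg.Agent.H996.PQ Cfsg.Agent.H996.Eight.Cert Cfsg.Agent.H64.Dl.Sph Cfsg.Agent.H317.PQ

variable {m : ℕ}

/-- power -/
def pPow (p : List ℤ) : ℕ → List ℤ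
  | 0 => [1]
  | n + 1 => pMul p (pPow p n)

theorem evZ_pPow (x : ℤ) (p : List ℤ) (n : ℕ) : evZ x (pPow p n) = evZ x p ^ n := by
  induction n with
  | zero => simp [pPow, evZ]
  | succ n ih => rw [pPow, evZ_pMul, ih, pow_succ']

/-- certificate: `dn i = Q * prod_{d in Bl} Phi d ^ mult`, and for the other `d`: `a Phi_d + b Phi_e = r` -/
structure DzC (m : ℕ) where
  e : ℕ
  i : Fin m
  Bl : List ℕ
  Q : List ℤ
  cs : List (ℕ × ℕ × List ℤ × List ℤ)

/-- the check; `od`: the factors of the order of the group -/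
def DzC.ok (P : Pol m) (od : List (ℕ × ℕ)) (c : DzC m) : Bool :=
  [2, 3, 4, 5, 6, 7, 8, 9, 10, 12, 14, 15, 18, 20, 24, 30].contains c.e &&
  pEq ((od.filter fun d => c.Bl.contains d.1).foldr (fun d p => pMul (pPow (Phi d.1) d.2) p) c.Q) (P.dn c.i) &&
  od.all (fun d => c.Bl.contains d.1 || c.cs.any fun u =>
    u.1 == d.1 && res c.e (Phi d.1) u.2.1 u.2.2.1 u.2.2.2 && chkR u.2.1 c.e) &&
  pPos (P.dn c.i) && P.den c.i != 0 && 2 % P.den c.i == 0

theorem DzC.spec {P : Pol m} {od : List (ℕ × ℕ)} {c : DzC m} (hc : c.ok P od = true) {x g N : ℕ} (hx : 2 ≤ x)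
    (hdeg : ∀ i, (P.den i : ℤ) * (P.deg x i : ℤ) = evZ x (P.dn i))
    (hg : g ≠ 0) (hgd : (g : ℤ) ∣ (x : ℤ) ^ N * (od.map fun d => evZ x (Phi d.1) ^ d.2).prod) {p : ℕ} (hp : p.Prime)
    (hp2 : p ≠ 2) (he : ord x p = c.e) : g.factorization p ≤ (P.deg x c.i).factorization p := by
  have hpZ : Prime (p : ℤ) := Nat.prime_iff_prime_int.1 hp
  simp only [DzC.ok, Bool.and_eq_true, bne_iff_ne, ne_eq, beq_iff_eq] at hc
  obtain ⟨⟨⟨⟨⟨h0, h1⟩, h2⟩, h3⟩, h4⟩, h5⟩ := hc
  have h0 : c.e ∈ [2, 3, 4, 5, 6, 7, 8, 9, 10, 12, 14, 15, 18, 20, 24, 30] := by simpa using h0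
  have he' := dvd_Phi hp he h0
  have hpx : ¬ (p : ℤ) ∣ (x : ℤ) := by
    intro h
    have : Fact p.Prime := ⟨hp⟩
    have h6 : p ∣ x := by exact_mod_cast h
    have h7 : (x : ZMod p) = 0 := (ZMod.natCast_eq_zero_iff x p).2 h6
    have h8 : ord x p = 0 := by
      rw [ord, h7, orderOf_eq_zero_iff']
      intro n hn h1
      rw [zero_pow hn.ne'] at h1
      exact zero_ne_one h1
    rw [h8] at he
    rw [← he] at h0
    simp at h0
  -- the other factors are prime to `p`
  have hother : ∀ d ∈ od, c.Bl.contains d.1 = false → ¬ (p : ℤ) ∣ evZ x (Phi d.1) := by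
    intro d hd hB hdv
    have h6 := (List.all_eq_true.1 h2) d hd
    rw [hB, Bool.false_or, List.any_eq_true] at h6
    obtain ⟨u, _, h7⟩ := h6
    simp only [Bool.and_eq_true, beq_iff_eq] at h7
    have h8 := dvd_of_res h7.1.2 hdv he'
    exact chkR_spec h7.2 hp he (by exact_mod_cast h8)
  obtain ⟨v, hv⟩ : ∃ v, v = g.factorization p := ⟨_, rfl⟩
  have hpg : (p : ℤ) ^ v ∣ (g : ℤ) := by
    have := Nat.ordProj_dvd g p
    rw [← hv] at this
    exact_mod_cast this
  have key : ∀ (L : List (ℕ × ℕ)) (_ : ∀ d ∈ L, d ∈ od) (z : ℤ),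
      (p : ℤ) ^ v ∣ (L.map fun d => evZ x (Phi d.1) ^ d.2).prod * z →
      (p : ℤ) ^ v ∣ ((L.filter fun d => c.Bl.contains d.1).map fun d => evZ x (Phi d.1) ^ d.2).prod * z := by
    intro L
    induction L with
    | nil => exact fun _ z hz => hz
    | cons d L ih =>
      intro hL z hz
      rw [List.map_cons, List.prod_cons] at hz
      by_cases hB : c.Bl.contains d.1 = true
      · rw [List.filter_cons_of_pos (by simpa using hB), List.map_cons, List.prod_cons]
        have h6 := ih (fun d' hd' => hL d' (List.mem_cons_of_mem _ hd')) (evZ x (Phi d.1) ^ d.2 * z)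
          (by convert hz using 1; ring)
        convert h6 using 1
        ring
      · rw [List.filter_cons_of_neg (by simpa using hB)]
        refine ih (fun d' hd' => hL d' (List.mem_cons_of_mem _ hd')) z ?_
        rw [mul_assoc] at hz
        refine hpZ.pow_dvd_of_dvd_mul_left v (fun h => ?_) hz
        exact hother d (hL d List.mem_cons_self) (by simpa using hB) (hpZ.dvd_of_dvd_pow h)
  have h6 : (p : ℤ) ^ v ∣ (od.map fun d => evZ x (Phi d.1) ^ d.2).prod :=
    hpZ.pow_dvd_of_dvd_mul_left v (fun h => hpx (hpZ.dvd_of_dvd_pow h)) (hpg.trans hgd)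
  have h7 := key od (fun _ h => h) (evZ x c.Q) (h6.mul_right _)
  have h8 : ∀ (L : List (ℕ × ℕ)), evZ x (L.foldr (fun d p => pMul (pPow (Phi d.1) d.2) p) c.Q) =
      (L.map fun d => evZ x (Phi d.1) ^ d.2).prod * evZ x c.Q := by
    intro L
    induction L with
    | nil => rw [List.foldr_nil, List.map_nil, List.prod_nil, one_mul]
    | cons d L ih => rw [List.foldr_cons, evZ_pMul, evZ_pPow, ih, List.map_cons, List.prod_cons, mul_assoc]
  rw [← h8, evZ_of_pEq x h1, ← hdeg] at h7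
  have hden : ¬ (p : ℤ) ∣ (P.den c.i : ℤ) := by
    intro h
    have h9 : p ∣ P.den c.i := by exact_mod_cast h
    exact hp2 ((Nat.prime_dvd_prime_iff_eq hp Nat.prime_two).1 (h9.trans (Nat.dvd_of_mod_eq_zero h5)))
  have h9 := hpZ.pow_dvd_of_dvd_mul_left v hden h7
  have h10 : p ^ v ∣ P.deg x c.i := by exact_mod_cast h9
  have hd0 : P.deg x c.i ≠ 0 := by
    intro h11
    have h12 : (0 : ℚ) < ev x (P.dn c.i) := ev_pos (by exact_mod_cast hx) h3
    have h13 := evZ_cast (x : ℤ) (P.dn c.i)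
    rw [← hdeg, h11] at h13
    push_cast at h13
    rw [mul_zero] at h13
    rw [← h13] at h12
    exact lt_irrefl _ h12
  rw [← hv]
  exact (hp.pow_dvd_iff_le_factorization hd0).1 h10

/-- a character of defect zero is not in `S` -/
theorem DzC.not_mem {P : Pol m} {od : List (ℕ × ℕ)} {c : DzC m} (hc : c.ok P od = true) {x g N : ℕ} (hx : 2 ≤ x)
    (hdeg : ∀ i, (P.den i : ℤ) * (P.deg x i : ℤ) = evZ x (P.dn i))
    (hg : g ≠ 0) (hgd : (g : ℤ) ∣ (x : ℤ) ^ N * (od.map fun d => evZ x (Phi d.1) ^ d.2).prod) {p : ℕ} (hp : p.Prime)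
    (hp2 : p ≠ 2) (he : ord x p = c.e) (hpg : p ∣ g) {lam : Fin m → Fin m → List ℤ} {S : Finset (Fin m)}
    (hS : TstX P lam x p g S) : c.i ∉ S := fun h =>
  absurd (hS.dz c.i h hpg) (not_lt.2 (DzC.spec hc hx hdeg hg hgd hp hp2 he))

/-- odd degree for `x = 3` modulo `4` -/
def oddC (P : Pol m) (i : Fin m) : Bool :=
  4 % (2 * P.den i) == 0 && P.den i != 0 && evZ 3 (P.dn i) % ((2 * P.den i : ℕ) : ℤ) == (P.den i : ℤ)

theorem odd_of_oddC {P : Pol m} {i : Fin m} (h : oddC P i = true) {x : ℕ} (hx : x % 4 = 3)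
    (hdeg : ∀ i, (P.den i : ℤ) * (P.deg x i : ℤ) = evZ x (P.dn i)) : Odd (P.deg x i) := by
  simp only [oddC, Bool.and_eq_true, beq_iff_eq, bne_iff_ne, ne_eq] at h
  obtain ⟨⟨h1, h2⟩, h3⟩ := h
  have h4 : evZ x (P.dn i) % ((2 * P.den i : ℕ) : ℤ) = (P.den i : ℤ) := by
    rw [← h3, evZ_emod _ (x : ℤ), evZ_emod _ (3 : ℤ)]
    congr 1
    have h5 : (x : ℤ) ≡ 3 [ZMOD 4] := by
      have : ((x % 4 : ℕ) : ℤ) = 3 := by rw [hx]; rfl
      push_cast at this
      exact this
    have h6 : (x : ℤ) ≡ 3 [ZMOD ((2 * P.den i : ℕ) : ℤ)] :=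
      h5.of_dvd (by exact_mod_cast Nat.dvd_of_mod_eq_zero h1)
    rw [h6]
  rw [← hdeg] at h4
  rw [← Int.odd_coe_nat, Int.odd_iff]
  have h5 : (0 : ℤ) < P.den i := by exact_mod_cast Nat.pos_of_ne_zero h2
  push_cast at h4
  have h6 : (P.den i : ℤ) * (P.deg x i : ℤ) % (2 * P.den i) = P.den i * ((P.deg x i : ℤ) % 2) := by
    rw [mul_comm 2 (P.den i : ℤ)]
    exact Int.mul_emod_mul_of_pos _ _ h5
  rw [h6] at h4
  exact mul_left_cancel₀ h5.ne' (by rw [h4, mul_one])

universe u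

/-- `KillTwo` by a character of odd degree and of defect zero -/
theorem killTwo_of_dz [NeZero m] {G : Type u} [Group G] {P : Pol m} {od : List (ℕ × ℕ)} {c : DzC m}
    (hc : c.ok P od = true) (ho : oddC P c.i = true) {x g N : ℕ} (hx : x % 4 = 3) (hx2 : 2 ≤ x)
    (hdeg : ∀ i, (P.den i : ℤ) * (P.deg x i : ℤ) = evZ x (P.dn i))
    (hg : Nat.card G = g) (hg0 : g ≠ 0)
    (hgd : (g : ℤ) ∣ (x : ℤ) ^ N * (od.map fun d => evZ x (Phi d.1) ^ d.2).prod)
    {lam : Fin m → Fin m → List ℤ}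
    (hsep : ∀ p l : ℕ, p.Prime → l.Prime → Same p l G → SepX P lam x p l g 0) : KillTwo G x c.e := by
  intro l hl hl2 hlG hf hS
  obtain ⟨S, h0, h1, h2⟩ := hsep 2 l Nat.prime_two hl hS
  exact DzC.not_mem hc hx2 hdeg hg0 hgd hl hl2 hf (hg ▸ hlG) h2 (h1.odd rfl c.i (odd_of_oddC ho hx hdeg))

end Cfsg.Agent.H632.PQ.Arith
end

private theorem dce_ce8382fe0848 : _root_.True := by
  try have : _root_.True := by simp only [_root_.Cfsg.Agent.H632.PQ.Arith.pPow.eq_def]
  try have : _root_.True := by simp only [_root_.Cfsg.Agent.H632.PQ.Arith.Dat.T.eq_1]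
  try have : _root_.True := by simp only [_root_.Cfsg.Agent.H632.PQ.Arith.pPow.eq_1]
  try have : _root_.True := by simp only [_root_.Cfsg.Agent.H632.PQ.Arith.chkR.eq_1]
  try have : _root_.True := by simp only [_root_.Cfsg.Agent.H632.PQ.Arith.Rs.ok.eq_3]
  try have : _root_.True := by simp only [_root_.Cfsg.Agent.H632.PQ.Arith.Bad.eq_1]
  try have : _root_.True := by simp only [_root_.Cfsg.Agent.H632.PQ.Arith.oddC.eq_1]
  try have : _root_.True := by simp only [_root_.Cfsg.Agent.H632.PQ.Arith.Rs.ok.eq_2]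
  try have : _root_.True := by simp only [_root_.Cfsg.Agent.H632.PQ.Arith.Rs.ok.eq_1]
  try have : _root_.True := by simp only [_root_.Cfsg.Agent.H632.PQ.Arith.DzC.ok.eq_1]
  try have : _root_.True := by simp only [_root_.Cfsg.Agent.H632.PQ.Arith.Rs.ok.eq_4]
  try have : _root_.True := by simp only [_root_.Cfsg.Agent.H632.PQ.Arith.pPow.eq_2]
  try have : _root_.True := by simp only [_root_.Cfsg.Agent.H632.PQ.Arith.pS.eq_1]
  exact _root_.True.intro
end

-- part: H632/PQ/Sl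
section
prune_inst 0x80000000000000c010000
set_option linter.all false
open scoped Cfsg.Agent.FastGrp

/-!
# One constituent: congruent eigenvalues at one prime, defect zero at the other (helper632, for S4612)

`mem_B0_of_lam` : the constituent is in the principal `p`-block if its eigenvalues are congruent to the sizes of the
double cosets modulo `p`; `not_same_sl`.
-/

set_option autoImplicit false
set_option linter.unusedSectionVars false

namespace Cfsg.Agent.H632.PQ.Arith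

open Cfsg Cfsg.Agent.H967.Sph Cfsg.Agent.H317.PQ Cfsg.Agent.Blocks.Basic Cfsg.Agent.Blocks.Local Cfsg.Agent.H64.Dl.Sph
  Cfsg.Agent.H996.Eight.Cert Cfsg.Agent.H996.PQ
open CoxeterSystem Cfsg.Agent.ChevalleyStructure.CoxeterGeom Cfsg.Agent.Tits.Roots Cfsg.Agent.Tits.Core
  Cfsg.Agent.Nodes.Reps Cfsg.Agent.Nodes.BNOf Cfsg.Agent.Nodes.Bruhat Cfsg.Agent.Nodes.LeviDec

universe u

variable {I W : Type*} {Y : Type u} [Fintype I] [DecidableEq I] [Group W] [Finite W] [Group Y] [Finite Y]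
    {M : CoxeterMatrix I} {cs : CoxeterSystem M W} {A : I → I → ℤ} {h : IsCartan M A} {p : ℕ} {T : Subgroup Y}
    {n : I → Y} {X : (I → ℤ) → Subgroup Y} (R : RGD cs h p T n X) (hG : GG cs h T X = ⊤)
    {j : I} {N m : ℕ} (D : Data A j N m) {x : ℕ} (hx : 2 ≤ x) (hq : ∀ i, Nat.card (X (sr i)) = x ^ D.e i)
    (C : Crt m) (hC : C.ok (D.t.cls D.t.o) D.bb D.kk) (hD : pDvd C.den C.dn)
    {lam : Fin m → List ℤ} (hlam : ∀ c, pEq (pMul (lam c) (C.nu (D.t.cls D.t.o))) (pMul (D.kk c) (C.nu c)) = true)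

include R hG hx hq hC hD hlam

/-- **Congruent eigenvalues at `p'`, defect zero at `l'`.** -/
theorem not_same_sl {p' l' : ℕ} (hp : p'.Prime) (hl : l'.Prime)
    (hc : ∀ c, (p' : ℤ) ∣ evZ x (lam c) - evZ x (D.kk c)) (hlY : l' ∣ Nat.card Y)
    (hdz : (Nat.card Y).factorization l' ≤ (val C.den C.dn x).factorization l') : ¬ Same p' l' Y := by
  intro hS
  have hx' : (2 : ℚ) ≤ (x : ℚ) := by exact_mod_cast hx
  obtain ⟨χ, H⟩ := exists_crt R hG D hx hq C (ok1_of_ok hC) (uq_of_ok hC) hD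
  have hws : ∀ i s, 0 < D.t.vec s i → x ^ D.wl (D.t.st i s) = x ^ D.e i * x ^ D.wl s := by
    intro i s h9
    rw [D.ws i s h9, pow_add]
  have hwo : x ^ D.wl D.t.o = 1 := by rw [D.wo, pow_zero]
  obtain ⟨M', hM⟩ := Cfsg.Agent.Blocks.ExistsModular.exists_isPModular hp
  have hMp : M'.IsPrime := isPrime_of_isPModular hM
  have hnu := ev_pos hx' hC.1
  have h4 : SameBlock M' (1 : Y → ℂ) χ := by
    refine HasVal.sameBlock R hG D.t (fun i => x ^ D.e i) hq (fun s => x ^ D.wl s) hwo hws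
      (HasVal.trivial R hG D.t) H hM ?_
    intro c
    obtain ⟨z, hz⟩ := hc c
    refine ⟨-z, ?_⟩
    have h5 : ∑ s, (if D.t.cls s = c then ((x ^ D.wl s : ℕ) : ℚ) else 0) = ev x (D.kk c) := by
      rw [← ChkK.spec (x : ℚ) D.chkK c, Finset.sum_filter]
      refine Finset.sum_congr rfl fun s _ => ?_
      split_ifs
      · push_cast
        rfl
      · rfl
    have h6 := ev_of_pEq (x : ℚ) (hlam c)
    rw [ev_pMul, ev_pMul] at h6
    have h7 : ev (x : ℚ) (D.kk c) * (ev x (C.nu c) / ev x (C.nu (D.t.cls D.t.o))) = ev x (lam c) := by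
      rw [← mul_div_assoc, ← h6, mul_div_assoc, div_self hnu.ne', mul_one]
    have h8 := evZ_cast (x : ℤ) (lam c)
    have h9 := evZ_cast (x : ℤ) (D.kk c)
    push_cast at h8 h9
    rw [h5, mul_sub, mul_one, h7, ← h8, ← h9]
    have h10 : (evZ (x : ℤ) (lam c) : ℚ) - (evZ (x : ℤ) (D.kk c) : ℚ) = (p' : ℚ) * z := by exact_mod_cast hz
    push_cast
    linear_combination -h10
  have h5 : (⟨χ, H.irr⟩ : IrrCharacter Y) ∈ B0 p' Y := by
    rw [B0_eq hp hM]
    intro g
    exact h4 g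
  have h6 : (⟨χ, H.irr⟩ : IrrCharacter Y) ∈ B0 l' Y := by
    rw [← show B0 p' Y = B0 l' Y from hS]
    exact h5
  have h7 := H766.PQ.not_defect_zero hl hlY h6
  have h8 : charDegree ((⟨χ, H.irr⟩ : IrrCharacter Y) : Y → ℂ) = val C.den C.dn x := by
    have h9 := Blocks.Basic.irr_one_eq_charDegree (⟨χ, H.irr⟩ : IrrCharacter Y).2
    have h10 : (χ 1 : ℂ) = (val C.den C.dn x : ℂ) := H.one
    have h11 : ((charDegree ((⟨χ, H.irr⟩ : IrrCharacter Y) : Y → ℂ) : ℕ) : ℂ) = (val C.den C.dn x : ℂ) :=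
      h9.symm.trans h10
    exact_mod_cast h11
  rw [h8] at h7
  exact absurd h7 (not_lt.2 hdz)

omit [Fintype I] [DecidableEq I] [Group W] [Finite W] [Group Y] [Finite Y] in
omit R hG hx hq hC hD hlam in
theorem evZ_pNeg (x : ℤ) (p : List ℤ) : evZ x (pNeg p) = -evZ x p := by
  have h1 := ev_pNeg (x : ℚ) p
  rw [← evZ_cast, ← evZ_cast] at h1
  exact_mod_cast h1

end Cfsg.Agent.H632.PQ.Arith

namespace Cfsg.Agent.H632.PQ.Arith

open Cfsg Cfsg.Agent.H967.Sph Cfsg.Agent.H317.PQ Cfsg.Agent.Blocks.Basic Cfsg.Agent.Blocks.Local Cfsg.Agent.H64.Dl.Sph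
  Cfsg.Agent.H996.Eight.Cert Cfsg.Agent.H996.PQ
open CoxeterSystem Cfsg.Agent.ChevalleyStructure.CoxeterGeom Cfsg.Agent.Tits.Roots Cfsg.Agent.Tits.Core
  Cfsg.Agent.Nodes.Reps Cfsg.Agent.Nodes.BNOf Cfsg.Agent.Nodes.Bruhat Cfsg.Agent.Nodes.LeviDec
open Cfsg.Lie Cfsg.Agent.ChevalleyStructure Cfsg.Agent.ChevalleyStructure.CoxeterGeomTypes Cfsg.Agent.Nodes.RGDChev
  Cfsg.Agent.H35.ExcIdx

universe u

/-- the degree of a certificate as a `Pol` -/
def polOf {m : ℕ} (C : Crt m) : Pol 1 where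
  N := []
  dn _ := C.dn
  den _ := C.den
  D _ := []
  o := 0
  nu _ _ := []

theorem deg_polOf {m : ℕ} {C : Crt m} {o : Fin m} {B : Fin m → Fin m → List ℤ} {kk : Fin m → List ℤ}
    (hC : C.ok o B kk) (hD : pDvd C.den C.dn) {x : ℕ} (hx : 2 ≤ x) (i : Fin 1) :
    ((polOf C).den i : ℤ) * ((polOf C).deg x i : ℤ) = evZ x ((polOf C).dn i) := by
  have h1 := val_spec hC.2.2.2.2.2 hD hC.2.1 hx
  have h2 := evZ_cast (x : ℤ) C.dn
  push_cast at h2
  rw [← h2] at h1
  exact_mod_cast h1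

theorem not_same_sl' {l : ℕ} {W : Type*} {Y : Type u} [Group W] [Finite W] [Group Y] [Finite Y]
    {M : CoxeterMatrix (Fin l)} {cs : CoxeterSystem M W} {A A' : Fin l → Fin l → ℤ} {h : IsCartan M A} {p : ℕ}
    {T : Subgroup Y} {n : Fin l → Y} {X : (Fin l → ℤ) → Subgroup Y} (R : RGD cs h p T n X) (hG : GG cs h T X = ⊤)
    (hA : A = A') {j : Fin l} {N m : ℕ} (D : Data A' j N m) {x : ℕ} (hx : 2 ≤ x)
    (hq : ∀ i, Nat.card (X (sr i)) = x ^ D.e i) (C : Crt m) {o : Fin m} (ho : D.t.cls D.t.o = o)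
    (hC : C.ok o D.bb D.kk) (hD : pDvd C.den C.dn) {lam : Fin m → List ℤ}
    (hlam : ∀ c, pEq (pMul (lam c) (C.nu o)) (pMul (D.kk c) (C.nu c)) = true) {p' l' : ℕ} (hp : p'.Prime)
    (hl : l'.Prime) (hc : ∀ c, (p' : ℤ) ∣ evZ x (lam c) - evZ x (D.kk c)) (hlY : l' ∣ Nat.card Y)
    (hdz : (Nat.card Y).factorization l' ≤ (val C.den C.dn x).factorization l') : ¬ Same p' l' Y := by
  subst hA
  subst ho
  exact not_same_sl R hG D hx hq C hC hD hlam hp hl hc hlY hdz

/-- **Split groups: `Kill` from one certificate.** -/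
theorem split_kill_sl {D : ChevalleyDatum} {l : ℕ} {M : CoxeterMatrix (Fin l)} (hp : IsType D l M) (K : Type u)
    [Field K] [Fintype K] {A' : Fin l → Fin l → ℤ} (hA : cartanOf D l = A') {j : Fin l} {N m : ℕ}
    (Da : Data A' j N m) (he : ∀ i, Da.e i = 1) (C : Crt m) {o : Fin m} (ho : Da.t.cls Da.t.o = o)
    (hC : C.ok o Da.bb Da.kk) (hD : pDvd C.den C.dn) {lam : Fin m → List ℤ}
    (hlam : ∀ c, pEq (pMul (lam c) (C.nu o)) (pMul (Da.kk c) (C.nu c)) = true) {e f : ℕ} {quo : Fin m → List ℤ}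
    (hem : e ∈ [2, 3, 4, 5, 6, 7, 8, 9, 10, 12, 14, 15, 18, 20, 24, 30])
    (hquo : ∀ c, pEq (pAdd (lam c) (pNeg (Da.kk c))) (pMul (Phi e) (quo c)) = true) {od : List (ℕ × ℕ)} {dz : DzC 1}
    (hdz : dz.ok (polOf C) od = true) (hf : dz.e = f) {n : ℕ}
    (hgd : (Nat.card ↥(D.group K) : ℤ) ∣
      ((Fintype.card K : ℕ) : ℤ) ^ n * (od.map fun d => evZ (Fintype.card K : ℕ) (Phi d.1) ^ d.2).prod) :
    Kill ↥(D.group K) (Fintype.card K) e f := by
  intro p' l' hp' hl' _ hl2 _ _ hlG he' hf'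
  obtain ⟨r, hr⟩ := CharP.exists K
  have : Fact r.Prime := ⟨CharP.char_is_prime K r⟩
  have := finite_W hp M.toCoxeterSystem
  have := finite_group D K
  have hx : 2 ≤ Fintype.card K := Fintype.one_lt_card
  refine not_same_sl' (rgd (K := K) hp M.toCoxeterSystem r) (GG_eq_top hp K M.toCoxeterSystem) hA Da hx
    (fun i => ?_) C ho hC hD hlam hp' hl' (fun c => ?_) hlG ?_
  · rw [card_XX hp K M.toCoxeterSystem (isRoot_sr _ _ i), he, pow_one, Nat.card_eq_fintype_card]
  · have h1 := evZ_of_pEq ((Fintype.card K : ℕ) : ℤ) (hquo c)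
    rw [evZ_pAdd, evZ_pNeg, evZ_pMul] at h1
    rw [sub_eq_add_neg, h1]
    exact (dvd_Phi hp' he' hem).mul_right _
  · exact DzC.spec hdz hx (deg_polOf hC hD hx) Nat.card_pos.ne' hgd hl' hl2 (hf'.trans hf.symm)

end Cfsg.Agent.H632.PQ.Arith
end

-- part: H632/PQ/Link
section
set_option linter.all false
open scoped Cfsg.Agent.FastGrp

/-!
# Several constituents of one permutation module (helper632, for S4612)

`ModS G o bb kk x P` : the predicate `P C χ` ("the character of the certificate `C` is `χ`") of a permutation module with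
* `ex` : every certificate with a one-dimensional eigenspace has a character;
* `deg` : the degree;
* `rat` : the values are rational;
* `sl` : the character is in the principal `p`-block if its eigenvalues are congruent to the sizes of the double cosets;
* `link` : two characters are in the same `p`-block if their eigenvalues are congruent modulo `p`.
`split_mod` : the predicate for a split group and a maximal parabolic subgroup.
-/

set_option autoImplicit false
set_option linter.unusedSectionVars false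

namespace Cfsg.Agent.H632.PQ.Arith

open Cfsg Cfsg.Agent.H967.Sph Cfsg.Agent.H317.PQ Cfsg.Agent.Blocks.Basic Cfsg.Agent.Blocks.Local Cfsg.Agent.H64.Dl.Sph
  Cfsg.Agent.H996.Eight.Cert Cfsg.Agent.H996.PQ
open CoxeterSystem Cfsg.Agent.ChevalleyStructure.CoxeterGeom Cfsg.Agent.Tits.Roots Cfsg.Agent.Tits.Core
  Cfsg.Agent.Nodes.Reps Cfsg.Agent.Nodes.BNOf Cfsg.Agent.Nodes.Bruhat Cfsg.Agent.Nodes.LeviDec
open Cfsg.Lie Cfsg.Agent.ChevalleyStructure Cfsg.Agent.ChevalleyStructure.CoxeterGeomTypes Cfsg.Agent.Nodes.RGDChev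
  Cfsg.Agent.H35.ExcIdx

universe u

/-- the characters of the certificates of a permutation module -/
structure ModS (G : Type u) [Group G] [Finite G] {m : ℕ} (o : Fin m) (bb : Fin m → Fin m → List ℤ)
    (kk : Fin m → List ℤ) (x : ℕ) (P : Crt m → IrrCharacter G → Prop) : Prop where
  ex : ∀ C : Crt m, ok1 C o bb kk → Uq C.th C.nu o bb → pDvd C.den C.dn → ∃ χ, P C χ
  deg : ∀ {C : Crt m} {χ : IrrCharacter G}, P C χ → charDegree (χ : G → ℂ) = val C.den C.dn x
  rat : ∀ {C : Crt m} {χ : IrrCharacter G}, P C χ → ∀ g, ∃ r : ℚ, (χ : G → ℂ) g = r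
  sl : ∀ {C : Crt m} {χ : IrrCharacter G} {lam : Fin m → List ℤ}, P C χ →
    (∀ c, pEq (pMul (lam c) (C.nu o)) (pMul (kk c) (C.nu c)) = true) → ∀ {p : ℕ}, p.Prime →
    (∀ c, (p : ℤ) ∣ evZ x (lam c) - evZ x (kk c)) → χ ∈ B0 p G
  link : ∀ {C C' : Crt m} {χ χ' : IrrCharacter G} {lam lam' : Fin m → List ℤ}, P C χ → P C' χ' →
    (∀ c, pEq (pMul (lam c) (C.nu o)) (pMul (kk c) (C.nu c)) = true) →
    (∀ c, pEq (pMul (lam' c) (C'.nu o)) (pMul (kk c) (C'.nu c)) = true) → ∀ {p : ℕ}, p.Prime →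
    (∀ c, (p : ℤ) ∣ evZ x (lam c) - evZ x (lam' c)) → (χ ∈ B0 p G ↔ χ' ∈ B0 p G)

variable {I W : Type*} {Y : Type u} [Fintype I] [DecidableEq I] [Group W] [Finite W] [Group Y] [Finite Y]
    {M : CoxeterMatrix I} {cs : CoxeterSystem M W} {A : I → I → ℤ} {h : IsCartan M A} {p : ℕ} {T : Subgroup Y}
    {n : I → Y} {X : (I → ℤ) → Subgroup Y} (R : RGD cs h p T n X) (hG : GG cs h T X = ⊤)
    {j : I} {N m : ℕ} (D : Data A j N m) {x : ℕ} (hx : 2 ≤ x) (hq : ∀ i, Nat.card (X (sr i)) = x ^ D.e i)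

/-- the values of the spherical function times the sizes -/
theorem lam_val (hx : 2 ≤ x) {C : Crt m} (hC : ok1 C (D.t.cls D.t.o) D.bb D.kk) {lam : Fin m → List ℤ}
    (hlam : ∀ c, pEq (pMul (lam c) (C.nu (D.t.cls D.t.o))) (pMul (D.kk c) (C.nu c)) = true) (c : Fin m) :
    ev (x : ℚ) (D.kk c) * (ev x (C.nu c) / ev x (C.nu (D.t.cls D.t.o))) = (evZ x (lam c) : ℤ) := by
  have hx' : (2 : ℚ) ≤ (x : ℚ) := by exact_mod_cast hx
  have hnu := ev_pos hx' hC.1
  have h6 := ev_of_pEq (x : ℚ) (hlam c)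
  rw [ev_pMul, ev_pMul] at h6
  have h8 := evZ_cast (x : ℤ) (lam c)
  push_cast at h8
  rw [h8, ← mul_div_assoc, ← h6, mul_div_assoc, div_self hnu.ne', mul_one]

/-- the size of a double coset -/
theorem kk_val (c : Fin m) :
    ∑ s, (if D.t.cls s = c then ((x ^ D.wl s : ℕ) : ℚ) else 0) = ev x (D.kk c) := by
  rw [← ChkK.spec (x : ℚ) D.chkK c, Finset.sum_filter]
  refine Finset.sum_congr rfl fun s _ => ?_
  split_ifs
  · push_cast
    rfl
  · rfl

include R hG hx hq

/-- **The characters of the certificates.** -/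
theorem modS_of_data : ∃ P : Crt m → IrrCharacter Y → Prop, ModS Y (D.t.cls D.t.o) D.bb D.kk x P := by
  have hws : ∀ i s, 0 < D.t.vec s i → x ^ D.wl (D.t.st i s) = x ^ D.e i * x ^ D.wl s := by
    intro i s h9
    rw [D.ws i s h9, pow_add]
  have hwo : x ^ D.wl D.t.o = 1 := by rw [D.wo, pow_zero]
  refine ⟨fun C χ => ok1 C (D.t.cls D.t.o) D.bb D.kk ∧ HasVal R hG D.t (χ : Y → ℂ) (val C.den C.dn x)
    (fun c => ev x (C.nu c) / ev x (C.nu (D.t.cls D.t.o))), ?_, ?_, ?_, ?_, ?_⟩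
  · intro C hC hU hD
    obtain ⟨χ, H⟩ := exists_crt R hG D hx hq C hC hU hD
    exact ⟨⟨χ, H.irr⟩, hC, H⟩
  · rintro C χ ⟨-, H⟩
    have h9 := Blocks.Basic.irr_one_eq_charDegree χ.2
    have h11 : ((charDegree (χ : Y → ℂ) : ℕ) : ℂ) = (val C.den C.dn x : ℂ) := h9.symm.trans H.one
    exact_mod_cast h11
  · rintro C χ ⟨-, H⟩ g
    have h1 := H.val g
    have h2 : (Nat.card Y : ℂ) ≠ 0 := by exact_mod_cast Nat.card_pos.ne'
    obtain ⟨S, hS⟩ : ∃ S : ℚ, S = ∑ᶠ y : Y, (fun c => ev (x : ℚ) (C.nu c) / ev x (C.nu (D.t.cls D.t.o)))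
      (D.t.cls (stY R hG D.t (y⁻¹ * g * y))) := ⟨_, rfl⟩
    rw [← hS] at h1
    refine ⟨(val C.den C.dn x : ℚ) * S / Nat.card Y, ?_⟩
    push_cast
    rw [← h1, mul_div_cancel_left₀ _ h2]
  · rintro C χ lam ⟨hC, H⟩ hlam p' hp hc
    obtain ⟨M', hM⟩ := Cfsg.Agent.Blocks.ExistsModular.exists_isPModular hp
    rw [B0_eq hp hM]
    intro g
    refine HasVal.sameBlock R hG D.t (fun i => x ^ D.e i) hq (fun s => x ^ D.wl s) hwo hws
      (HasVal.trivial R hG D.t) H hM (fun c => ?_) g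
    obtain ⟨z, hz⟩ := hc c
    refine ⟨-z, ?_⟩
    have h9 := evZ_cast (x : ℤ) (D.kk c)
    push_cast at h9
    rw [kk_val, mul_sub, mul_one, lam_val D hx hC hlam, ← h9]
    have h10 : (evZ (x : ℤ) (lam c) : ℚ) - (evZ (x : ℤ) (D.kk c) : ℚ) = (p' : ℚ) * z := by exact_mod_cast hz
    push_cast
    linear_combination -h10
  · rintro C C' χ χ' lam lam' ⟨hC, H⟩ ⟨hC', H'⟩ hlam hlam' p' hp hc
    obtain ⟨M', hM⟩ := Cfsg.Agent.Blocks.ExistsModular.exists_isPModular hp
    have hMp : M'.IsPrime := isPrime_of_isPModular hM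
    have h4 : SameBlock M' (χ : Y → ℂ) χ' := by
      refine HasVal.sameBlock R hG D.t (fun i => x ^ D.e i) hq (fun s => x ^ D.wl s) hwo hws H H' hM (fun c => ?_)
      obtain ⟨z, hz⟩ := hc c
      refine ⟨z, ?_⟩
      rw [kk_val, mul_sub, lam_val D hx hC hlam, lam_val D hx hC' hlam']
      exact_mod_cast hz
    rw [B0_eq hp hM]
    exact ⟨fun h5 => sameBlock_trans h5 h4, fun h5 => sameBlock_trans h5 (sameBlock_symm h4)⟩

end Cfsg.Agent.H632.PQ.Arith

namespace Cfsg.Agent.H632.PQ.Arith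

open Cfsg Cfsg.Agent.H967.Sph Cfsg.Agent.H317.PQ Cfsg.Agent.Blocks.Basic Cfsg.Agent.Blocks.Local Cfsg.Agent.H64.Dl.Sph
  Cfsg.Agent.H996.Eight.Cert Cfsg.Agent.H996.PQ
open CoxeterSystem Cfsg.Agent.ChevalleyStructure.CoxeterGeom Cfsg.Agent.Tits.Roots Cfsg.Agent.Tits.Core
  Cfsg.Agent.Nodes.Reps Cfsg.Agent.Nodes.BNOf Cfsg.Agent.Nodes.Bruhat Cfsg.Agent.Nodes.LeviDec
open Cfsg.Lie Cfsg.Agent.ChevalleyStructure Cfsg.Agent.ChevalleyStructure.CoxeterGeomTypes Cfsg.Agent.Nodes.RGDChev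
  Cfsg.Agent.H35.ExcIdx

universe u

theorem modS_of_data' {l : ℕ} {W : Type*} {Y : Type u} [Group W] [Finite W] [Group Y] [Finite Y]
    {M : CoxeterMatrix (Fin l)} {cs : CoxeterSystem M W} {A A' : Fin l → Fin l → ℤ} {h : IsCartan M A} {p : ℕ}
    {T : Subgroup Y} {n : Fin l → Y} {X : (Fin l → ℤ) → Subgroup Y} (R : RGD cs h p T n X) (hG : GG cs h T X = ⊤)
    (hA : A = A') {j : Fin l} {N m : ℕ} (D : Data A' j N m) {x : ℕ} (hx : 2 ≤ x)
    (hq : ∀ i, Nat.card (X (sr i)) = x ^ D.e i) {o : Fin m} (ho : D.t.cls D.t.o = o) :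
    ∃ P : Crt m → IrrCharacter Y → Prop, ModS Y o D.bb D.kk x P := by
  subst hA
  subst ho
  exact modS_of_data R hG D hx hq

/-- **Split groups.** -/
theorem split_mod {D : ChevalleyDatum} {l : ℕ} {M : CoxeterMatrix (Fin l)} (hp : IsType D l M) (K : Type u)
    [Field K] [Fintype K] [Finite ↥(D.group K)] {A' : Fin l → Fin l → ℤ} (hA : cartanOf D l = A') {j : Fin l}
    {N m : ℕ} (Da : Data A' j N m) (he : ∀ i, Da.e i = 1) {o : Fin m} (ho : Da.t.cls Da.t.o = o) :
    ∃ P : Crt m → IrrCharacter ↥(D.group K) → Prop, ModS ↥(D.group K) o Da.bb Da.kk (Fintype.card K) P := by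
  obtain ⟨r, hr⟩ := CharP.exists K
  have : Fact r.Prime := ⟨CharP.char_is_prime K r⟩
  have := finite_W hp M.toCoxeterSystem
  refine modS_of_data' (rgd (K := K) hp M.toCoxeterSystem r) (GG_eq_top hp K M.toCoxeterSystem) hA Da
    Fintype.one_lt_card (fun i => ?_) ho
  rw [card_XX hp K M.toCoxeterSystem (isRoot_sr _ _ i), he, pow_one, Nat.card_eq_fintype_card]

theorem deg_polOf' {m : ℕ} {C : Crt m} (hC0 : 0 < C.den) (hC1 : pPos C.dn = true) (hD : pDvd C.den C.dn) {x : ℕ}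
    (hx : 2 ≤ x) (i : Fin 1) : ((polOf C).den i : ℤ) * ((polOf C).deg x i : ℤ) = evZ x ((polOf C).dn i) := by
  have h1 := val_spec hC0 hD hC1 hx
  have h2 := evZ_cast (x : ℤ) C.dn
  push_cast at h2
  rw [← h2] at h1
  exact_mod_cast h1

/-- congruence modulo a cyclotomic polynomial, evaluated -/
theorem dvd_of_quo {m : ℕ} {lam lam' quo : Fin m → List ℤ} {e : ℕ}
    (hquo : ∀ c, pEq (pAdd (lam c) (pNeg (lam' c))) (pMul (Phi e) (quo c)) = true) {x : ℕ} {z : ℤ}
    (hz : z ∣ evZ x (Phi e)) (c : Fin m) : z ∣ evZ x (lam c) - evZ x (lam' c) := by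
  have h1 := evZ_of_pEq ((x : ℕ) : ℤ) (hquo c)
  rw [evZ_pAdd, evZ_pNeg, evZ_pMul] at h1
  rw [sub_eq_add_neg, h1]
  exact hz.mul_right _

end Cfsg.Agent.H632.PQ.Arith
end

-- part: H154/PQE8/Asm
section
set_option linter.all false
open scoped Cfsg.Agent.FastGrp

/-!
# Assembly for `E₈`, the orders `5` and `15` (helper154, for S4612)

Two parabolic subgroups (nodes `j` and `k`); `χ` a constituent for `j`, `χ₅` a constituent for `k`. `χ` is in the principal
`l'`-block, `χ₅` has defect zero at `l'`, and they are in the same `p'`-block: the principal blocks for `p'` and `l'` are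
different.
-/

set_option autoImplicit false
set_option linter.unusedSectionVars false

namespace Cfsg.Agent.H154.PQE8

open Cfsg Cfsg.Agent.H967.Sph Cfsg.Agent.H317.PQ Cfsg.Agent.Blocks.Basic Cfsg.Agent.Blocks.Local Cfsg.Agent.H64.Dl.Sph
  Cfsg.Agent.H996.Eight.Cert Cfsg.Agent.H996.PQ Cfsg.Agent.H632.PQ.Arith
open CoxeterSystem Cfsg.Agent.ChevalleyStructure.CoxeterGeom Cfsg.Agent.Tits.Roots Cfsg.Agent.Tits.Core
  Cfsg.Agent.Nodes.Reps Cfsg.Agent.Nodes.BNOf Cfsg.Agent.Nodes.Bruhat Cfsg.Agent.Nodes.LeviDec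

universe u

/-- the spherical function of a certificate -/
noncomputable def sphC {m : ℕ} (C : Crt m) (o : Fin m) (x : ℕ) (c : Fin m) : ℚ := ev x (C.nu c) / ev x (C.nu o)

/-- `lam` are the eigenvalues of a certificate -/
theorem lam_spec {m : ℕ} {C : Crt m} {o : Fin m} {kk lam : Fin m → List ℤ} (hpos : pPos (C.nu o) = true)
    (hlam : ∀ c, pEq (pMul (lam c) (C.nu o)) (pMul (kk c) (C.nu c)) = true) {x : ℕ} (hx : 2 ≤ x) (c : Fin m) :
    ev x (kk c) * sphC C o x c = ev x (lam c) := by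
  have hx' : (2 : ℚ) ≤ (x : ℚ) := by exact_mod_cast hx
  have hnu := ev_pos hx' hpos
  have h6 := ev_of_pEq (x : ℚ) (hlam c)
  rw [ev_pMul, ev_pMul] at h6
  rw [sphC, ← mul_div_assoc, ← h6, mul_div_assoc, div_self hnu.ne', mul_one]

section Abs

variable {I W : Type*} {Y : Type u} [Fintype I] [DecidableEq I] [Group W] [Finite W] [Group Y] [Finite Y]
    {M : CoxeterMatrix I} {cs : CoxeterSystem M W} {A : I → I → ℤ} {h : IsCartan M A} {p : ℕ} {T : Subgroup Y}
    {n : I → Y} {X : (I → ℤ) → Subgroup Y} (R : RGD cs h p T n X) (hG : GG cs h T X = ⊤)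

/-- congruent eigenvalues, same block -/
theorem sameBlock_lam {j : I} {N m : ℕ} (D : Data A j N m) {x : ℕ}
    (hq : ∀ i, Nat.card (X (sr i)) = x ^ D.e i) {χ χ' : Y → ℂ} {d d' : ℕ} {a a' : Fin m → ℚ}
    (H : HasVal R hG D.t χ d a) (H' : HasVal R hG D.t χ' d' a') {lam lam' : Fin m → List ℤ}
    (hl : ∀ c, ev (x : ℚ) (D.kk c) * a c = ev x (lam c)) (hl' : ∀ c, ev (x : ℚ) (D.kk c) * a' c = ev x (lam' c))
    {p' : ℕ} {M' : Ideal AlgInt} (hM : IsPModular p' M')
    (hc : ∀ c, (p' : ℤ) ∣ evZ x (lam c) - evZ x (lam' c)) : SameBlock M' χ χ' := by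
  have hws : ∀ i s, 0 < D.t.vec s i → x ^ D.wl (D.t.st i s) = x ^ D.e i * x ^ D.wl s := by
    intro i s h9
    rw [D.ws i s h9, pow_add]
  have hwo : x ^ D.wl D.t.o = 1 := by rw [D.wo, pow_zero]
  refine HasVal.sameBlock R hG D.t (fun i => x ^ D.e i) hq (fun s => x ^ D.wl s) hwo hws H H' hM ?_
  intro c
  obtain ⟨z, hz⟩ := hc c
  refine ⟨z, ?_⟩
  have h5 : ∑ s, (if D.t.cls s = c then ((x ^ D.wl s : ℕ) : ℚ) else 0) = ev x (D.kk c) := by
    rw [← ChkK.spec (x : ℚ) D.chkK c, Finset.sum_filter]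
    refine Finset.sum_congr rfl fun s _ => ?_
    split_ifs
    · push_cast
      rfl
    · rfl
  have h8 := evZ_cast (x : ℤ) (lam c)
  have h9 := evZ_cast (x : ℤ) (lam' c)
  push_cast at h8 h9
  rw [h5, mul_sub, hl, hl', ← h8, ← h9]
  exact_mod_cast hz

/-- **The abstract form.** -/
theorem not_same {j k : I} {N m N' m' : ℕ} (D : Data A j N m) (D' : Data A k N' m') {x : ℕ} (hx : 2 ≤ x)
    (hq : ∀ i, Nat.card (X (sr i)) = x ^ D.e i) (hq' : ∀ i, Nat.card (X (sr i)) = x ^ D'.e i)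
    {o : Fin m} (ho : D.t.cls D.t.o = o) {o' : Fin m'} (ho' : D'.t.cls D'.t.o = o')
    (C : Crt m) (hC : ok1 C o D.bb D.kk) (hU : Uq C.th C.nu o D.bb) (hD : pDvd C.den C.dn)
    (C5 : Crt m') (hC5 : ok1 C5 o' D'.bb D'.kk) (hU5 : Uq C5.th C5.nu o' D'.bb) (hD5 : pDvd C5.den C5.dn)
    {lam : Fin m → List ℤ} (hlam : ∀ c, pEq (pMul (lam c) (C.nu o)) (pMul (D.kk c) (C.nu c)) = true)
    {p' l' : ℕ} (hp : p'.Prime) (hl : l'.Prime)
    (hc : ∀ c, (l' : ℤ) ∣ evZ x (lam c) - evZ x (D.kk c)) (hlY : l' ∣ Nat.card Y)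
    (hdz : (Nat.card Y).factorization l' ≤ (val C5.den C5.dn x).factorization l')
    (h3 : ∀ χ χ' : Y → ℂ, HasVal R hG D.t χ (val C.den C.dn x) (sphC C o x) →
      HasVal R hG D'.t χ' (val C5.den C5.dn x) (sphC C5 o' x) →
      ∀ M' : Ideal AlgInt, IsPModular p' M' → SameBlock M' χ χ') : ¬ Same p' l' Y := by
  intro hS
  subst ho ho'
  obtain ⟨χ, H⟩ := exists_crt R hG D hx hq C hC hU hD
  obtain ⟨χ5, H5⟩ := exists_crt R hG D' hx hq' C5 hC5 hU5 hD5
  obtain ⟨Mp, hMp⟩ := Cfsg.Agent.Blocks.ExistsModular.exists_isPModular hp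
  obtain ⟨Ml, hMl⟩ := Cfsg.Agent.Blocks.ExistsModular.exists_isPModular hl
  have hMp' : Mp.IsPrime := isPrime_of_isPModular hMp
  have hMl' : Ml.IsPrime := isPrime_of_isPModular hMl
  -- `χ` is in the principal `l'`-block
  have h1 : SameBlock Ml (1 : Y → ℂ) χ := by
    refine sameBlock_lam R hG D hq (HasVal.trivial R hG D.t) H (lam := D.kk) (fun c => mul_one _)
      (lam_spec hC.1 hlam hx) hMl fun c => ?_
    rw [← neg_sub]
    exact (hc c).neg_right
  have h4 : (⟨χ, H.irr⟩ : IrrCharacter Y) ∈ B0 l' Y := by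
    rw [B0_eq hl hMl]
    exact h1
  have h5 : (⟨χ, H.irr⟩ : IrrCharacter Y) ∈ B0 p' Y := by
    rw [show B0 p' Y = B0 l' Y from hS]
    exact h4
  have h6 : SameBlock Mp χ χ5 := h3 χ χ5 H H5 Mp hMp
  have h7 : (⟨χ5, H5.irr⟩ : IrrCharacter Y) ∈ B0 p' Y := by
    rw [B0_eq hp hMp] at h5 ⊢
    exact sameBlock_trans h5 h6
  have h8 : (⟨χ5, H5.irr⟩ : IrrCharacter Y) ∈ B0 l' Y := by
    rw [← show B0 p' Y = B0 l' Y from hS]
    exact h7
  have h9 := H766.PQ.not_defect_zero hl hlY h8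
  have h10 : charDegree ((⟨χ5, H5.irr⟩ : IrrCharacter Y) : Y → ℂ) = val C5.den C5.dn x := by
    have h9 := Blocks.Basic.irr_one_eq_charDegree (⟨χ5, H5.irr⟩ : IrrCharacter Y).2
    have h10 : (χ5 1 : ℂ) = (val C5.den C5.dn x : ℂ) := H5.one
    have h11 : ((charDegree ((⟨χ5, H5.irr⟩ : IrrCharacter Y) : Y → ℂ) : ℕ) : ℂ) = (val C5.den C5.dn x : ℂ) :=
      h9.symm.trans h10
    exact_mod_cast h11
  rw [h10] at h9
  exact absurd h9 (not_lt.2 hdz)

end Abs

end Cfsg.Agent.H154.PQE8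

private theorem dce_0d5c2028d4e6 : _root_.True := by
  try have : _root_.True := by simp only [_root_.Cfsg.Agent.H154.PQE8.sphC.eq_1]
  exact _root_.True.intro
end
end
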